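import Cfsg.Agent.H82.GW.Layer
import Cfsg.Agent.H36.GW.Layer
import Cfsg.Agent.H36.GW.Exit
import Cfsg.Agent.H77.GW.Exchange
import Cfsg.Agent.H4.GW.AutShape
import Cfsg.Agent.S0205
import Cfsg.Agent.S0206

/-!
# GW programme, M1: the maximal centraliser of the central involution

Elementary consequences of `CentMax` for the core `O` of `C(t)` and its Fitting subgroup.
-/

set_option autoImplicit false
set_option linter.unusedSectionVars false
set_option linter.style.haveILetI false

namespace Cfsg.Agent.H62.GW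

open Subgroup Cfsg.Agent
open Cfsg.Agent.GW (Cfg coreAt coreIn pairCore CentMax Fuses)
open Cfsg.Agent.Components (pCoreIn fitIn layerIn)

universe u

/-! ### Generalities -/

section General

variable {G : Type u} [Group G] [Finite G]

theorem odd_orderOf_of_mem {A : Subgroup G} (hA : Odd (Nat.card A)) {x : G} (hx : x ∈ A) :
    Odd (orderOf x) := by
  refine hA.of_dvd_nat ?_
  rw [← Nat.card_zpowers]
  exact card_dvd_of_le (zpowers_le.2 hx)

/-- An element of odd order whose square is trivial is trivial. -/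
theorem eq_one_of_odd {x : G} (ho : Odd (orderOf x)) (h : x * x = 1) : x = 1 := by
  have h2 : orderOf x ∣ 2 := orderOf_dvd_of_pow_eq_one (by rw [sq, h])
  rcases (Nat.dvd_prime Nat.prime_two).1 h2 with e | e
  · exact orderOf_eq_one_iff.1 e
  · rw [e] at ho; exact absurd ho (by decide)

/-- An element of odd order is a power of its square. -/
theorem sq_pow_self {x : G} (ho : Odd (orderOf x)) : ∃ k : ℕ, (x * x) ^ k = x := by
  obtain ⟨m, hm⟩ := ho
  refine ⟨m + 1, ?_⟩
  rw [← sq, ← pow_mul, show 2 * (m + 1) = orderOf x + 1 by omega, pow_succ, pow_orderOf_eq_one,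
    one_mul]

theorem commute_of_sq {x v : G} (ho : Odd (orderOf x)) (h : Commute (x * x) v) : Commute x v := by
  obtain ⟨k, hk⟩ := sq_pow_self ho
  exact hk ▸ h.pow_left k

/-- An element inverted by `a` that commutes with `a` has trivial square. -/
theorem mul_self_of_inverted {a x : G} (hax : a * x * a⁻¹ = x⁻¹) (hc : Commute a x) :
    x * x = 1 := by
  rw [hc.eq, mul_inv_cancel_right] at hax
  calc x * x = x * x⁻¹ := by rw [← hax]
    _ = 1 := mul_inv_cancel x

/-- An element of odd order inverted by `a` and commuting with it is trivial. -/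
theorem eq_one_of_inverted {a x : G} (ho : Odd (orderOf x)) (hax : a * x * a⁻¹ = x⁻¹)
    (hc : Commute a x) : x = 1 :=
  eq_one_of_odd ho (mul_self_of_inverted hax hc)

/-- The commutator with an involution is inverted by it. -/
theorem conj_commutator_inverted {a v : G} (haa : a * a = 1) :
    a * (a * v * a⁻¹ * v⁻¹) * a⁻¹ = (a * v * a⁻¹ * v⁻¹)⁻¹ := by
  have hai : a⁻¹ = a := inv_eq_of_mul_eq_one_right haa
  simp [hai, mul_assoc]
  rw [← mul_assoc a a, haa, one_mul]

/-- An element of odd order normalising a four group and fixing one of its involutions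
centralises it. -/
theorem commute_klein_of_fixes {U : Subgroup G} (hU : IsKleinFour ↥U) {x v : G}
    (hx : x ∈ normalizer (U : Set G)) (ho : Odd (orderOf x)) (hv : v ∈ U) (hv1 : v ≠ 1)
    (hxv : Commute x v) : ∀ u ∈ U, Commute x u := by
  intro u hu
  by_cases hu1 : u = 1
  · rw [hu1]; exact Commute.one_right x
  by_cases huv : v = u
  · exact huv ▸ hxv
  have hmul : ∀ a : G, a ∈ U → a * a = 1 := fun a ha => H39.klein_mul_self hU ha
  obtain ⟨V, hV, hVs⟩ := H4.GW.exists_klein (hmul v hv) (hmul u hu)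
    (H39.commute_of_klein hU hv hu) hv1 hu1 huv
  have hVU : V = U := H39.klein_eq_of_le hV hU fun a ha => by
    rcases (hVs ▸ (SetLike.mem_coe.2 ha) : a ∈ ({1, v, u, v * u} : Set G)) with rfl | rfl | rfl | rfl
    exacts [one_mem _, hv, hu, mul_mem hv hu]
  have himg : x * u * x⁻¹ ∈ ({1, v, u, v * u} : Set G) := by
    rw [← hVs, SetLike.mem_coe, hVU]
    exact Coprime.conj_mem hx hu
  refine commute_of_sq ho ?_
  rcases himg with e | e | e | e
  · exact absurd (conj_eq_one_iff.1 e) hu1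
  · refine absurd ?_ huv
    have : x * u * x⁻¹ = x * v * x⁻¹ := by rw [e, hxv.eq, mul_inv_cancel_right]
    exact (mul_left_cancel (mul_right_cancel this)).symm
  · have h1 : Commute x u := mul_inv_eq_iff_eq_mul.1 e
    exact h1.mul_left h1
  · refine mul_inv_eq_iff_eq_mul.1 ?_
    calc x * x * u * (x * x)⁻¹ = x * (x * u * x⁻¹) * x⁻¹ := by group
      _ = (x * v * x⁻¹) * (x * u * x⁻¹) := by conv_lhs => rw [e]
                                              group
      _ = u := by rw [e, hxv.eq, mul_inv_cancel_right, ← mul_assoc, hmul v hv, one_mul]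

/-- `g` permutes `t, s, ts` cyclically, so its inverse permutes `t, ts, s`. -/
theorem fuses_inv {g t b : G} (hg : Fuses g t b) (htt : t * t = 1) (htb : Commute t b) :
    Fuses g⁻¹ t (t * b) := by
  obtain ⟨h1, h2⟩ := hg
  have h3 : g * (t * b) * g⁻¹ = t := by
    calc g * (t * b) * g⁻¹ = (g * t * g⁻¹) * (g * b * g⁻¹) := by group
      _ = t := by
        rw [h1, h2]
        have hbb : b * b = 1 := by rw [← h1, conj_mul, htt, mul_one, mul_inv_cancel]
        rw [← mul_assoc, ← htb.eq, mul_assoc, hbb, mul_one]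
  refine ⟨?_, ?_⟩
  · calc g⁻¹ * t * g⁻¹⁻¹ = g⁻¹ * (g * (t * b) * g⁻¹) * g := by rw [h3, inv_inv]
      _ = t * b := by group
  · have h4 : g⁻¹ * t * g = t * b := by
      calc g⁻¹ * t * g = g⁻¹ * (g * (t * b) * g⁻¹) * g := by rw [h3]
        _ = t * b := by group
    have h5 : g⁻¹ * b * g = t := by rw [← h1]; group
    calc g⁻¹ * (t * b) * g⁻¹⁻¹ = (g⁻¹ * t * g) * (g⁻¹ * b * g) := by group
      _ = t * b * t := by rw [h4, h5]
      _ = t * (t * b) := by rw [htb.eq, mul_assoc b t, htt, mul_one, ← htb.eq]; rw [← mul_assoc, htt, one_mul]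

theorem Fuses.preimage {g t b : G} (hg : Fuses g t b) (htt : t * t = 1) (htb : Commute t b) :
    g⁻¹ * t * g = t * b ∧ g⁻¹ * b * g = t := by
  refine ⟨?_, ?_⟩
  · simpa using (fuses_inv hg htt htb).1
  · rw [← hg.1]; group

end General

/-! ### The configuration -/

variable {G : Type u} [Group G] [Finite G] {S : Sylow 2 G} {l : ℕ} {c s : G}

theorem exists_dihedral (hD : H39.DGen (S : Subgroup G) l c s) :
    ∃ n : ℕ, 2 ≤ n ∧ Nonempty ((S : Subgroup G) ≃* DihedralGroup n) := by
  have hcs : orderOf (c * s) = 2 := by simpa using hD.orderOf_out 1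
  have hne : c * s ≠ s := fun e => H39.ne_one_of_orderOf_eq_two hD.os
    (absurd (mul_eq_right.mp e) fun h => by
      have := hD.oc; rw [h, orderOf_one] at this; have := hD.lpos; omega)
  obtain ⟨e⟩ := S0206.result (c * s) s hcs hD.os hne
  have hcl : closure ({c * s, s} : Set G) = (S : Subgroup G) := by
    refine le_antisymm ((closure_le _).mpr ?_) fun g hg => ?_
    · rintro x (rfl | rfl)
      exacts [mul_mem hD.mem_c hD.mem_s, hD.mem_s]
    · have hs : s ∈ closure ({c * s, s} : Set G) := subset_closure (Or.inr rfl)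
      have hc : c ∈ closure ({c * s, s} : Set G) := by
        simpa [mul_assoc] using mul_mem (subset_closure (Or.inl rfl) : c * s ∈ _) (inv_mem hs)
      rcases hD.cases g hg with h | h
      · exact zpowers_le.mpr hc h
      · simpa [mul_assoc] using mul_mem (zpowers_le.mpr hc h) (inv_mem hs)
  refine ⟨orderOf (c * s * s), ?_, ⟨(MulEquiv.subgroupCongr hcl.symm).trans e⟩⟩
  rw [mul_assoc, H39.mul_self_of_orderOf_eq_two hD.os, mul_one, hD.oc]
  have := hD.lpos
  omega

theorem coreAt_le (t : G) : coreAt t ≤ centralizer ({t} : Set G) := H36.GW.coreC_le t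

theorem odd_coreAt (t : G) : Odd (Nat.card (coreAt t)) := H36.GW.odd_card_coreC t

theorem conj_mem_coreAt {t g y : G} (hg : Commute g t) (hy : y ∈ coreAt t) :
    g * y * g⁻¹ ∈ coreAt t :=
  H36.GW.conj_mem_coreC (mem_centralizer_singleton_iff.2 hg.eq) hy

theorem centralizer_le_normalizer_coreAt (t : G) :
    centralizer ({t} : Set G) ≤ normalizer (coreAt t : Set G) :=
  Components.le_normalizer_map_subtype _

theorem commute_of_mem_coreAt {t x : G} (hx : x ∈ coreAt t) : Commute t x :=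
  (mem_centralizer_singleton_iff.1 (coreAt_le t hx)).symm

theorem isSolvable_coreAt (t : G) : Group.IsSolvable ↥(coreAt t) := S0205.result (odd_coreAt t)

/-- The elements of odd order of `C(t)` form its core. -/
theorem mem_coreAt_of_odd (hC : Cfg S l c s) {x : G} (hx : Commute x (c ^ l))
    (ho : Odd (orderOf x)) : x ∈ coreAt (c ^ l) := by
  haveI : Fact (Nat.Prime 2) := ⟨Nat.prime_two⟩
  obtain ⟨n, hn, hS⟩ := exists_dihedral hC.gen
  have hSN : (S : Subgroup G) ≤ normalizer (coreAt (c ^ l) : Set G) :=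
    (H36.GW.sylow_le_centralizer hC.gen).trans (centralizer_le_normalizer_coreAt _)
  obtain ⟨o, ho', σ, hσ, rfl⟩ := (Coprime.mem_sup_iff hSN).mp
    (H36.GW.centralizer_le_coreC_sup hC.gen hn hS (mem_centralizer_singleton_iff.2 hx.eq) :
      x ∈ coreAt (c ^ l) ⊔ (S : Subgroup G))
  have hpow : ∀ m : ℕ, ∃ o' ∈ coreAt (c ^ l), (o * σ) ^ m = o' * σ ^ m := by
    intro m
    induction m with
    | zero => exact ⟨1, one_mem _, by simp⟩
    | succ m ih =>
      obtain ⟨o', ho'', e⟩ := ih
      refine ⟨o' * (σ ^ m * o * (σ ^ m)⁻¹),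
        mul_mem ho'' (Coprime.conj_mem (hSN (pow_mem hσ m)) ho'), ?_⟩
      rw [pow_succ, e, pow_succ]
      group
  obtain ⟨k, hk⟩ := S.isPGroup' ⟨σ, hσ⟩
  obtain ⟨o', ho'', e⟩ := hpow (2 ^ k)
  have hσk : σ ^ 2 ^ k = 1 := congrArg Subtype.val hk
  rw [hσk, mul_one] at e
  obtain ⟨m, hm⟩ := exists_pow_eq_self_of_coprime
    (Nat.Coprime.pow_left k (Nat.coprime_two_left.2 ho) : (2 ^ k).Coprime (orderOf (o * σ)))
  exact hm ▸ pow_mem (e ▸ ho'') m

/-- `N(Y) = C(t)` for nontrivial `Y` in `C(t)` normalised by it. -/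
theorem normalizer_le (hC : Cfg S l c s) (hmax : CentMax l c) {A : Subgroup G} (hA : A ≠ ⊥)
    (hAC : A ≤ centralizer ({c ^ l} : Set G))
    (hn : centralizer ({c ^ l} : Set G) ≤ normalizer (A : Set G)) :
    normalizer (A : Set G) ≤ centralizer ({c ^ l} : Set G) := by
  haveI := hC.simple
  refine le_of_eq (hmax _ hn fun htop => ?_)
  haveI : A.Normal := normalizer_eq_top_iff.mp htop
  rcases IsSimpleGroup.eq_bot_or_eq_top_of_normal A inferInstance with h | h
  · exact hA h
  · have hz : c ^ l ∈ center G := mem_center_iff.2 fun g => by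
      simpa using (mem_centralizer_singleton_iff.1 (hAC (h ▸ mem_top g) : g ∈ _))
    rcases IsSimpleGroup.eq_bot_or_eq_top_of_normal (center G) inferInstance with h' | h'
    · rw [h', mem_bot] at hz
      exact H39.ne_one_of_orderOf_eq_two hC.gen.z_order hz
    · exact hC.nonab ⟨⟨fun a b => (mem_center_iff.1 (h' ▸ mem_top b) a)⟩⟩

theorem centralizer_singleton_ne_top (hC : Cfg S l c s) {y : G} (hy : y ≠ 1) :
    centralizer ({y} : Set G) ≠ ⊤ := by
  haveI := hC.simple
  intro h
  have hz : y ∈ center G := mem_center_iff.2 fun g =>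
    mem_centralizer_singleton_iff.1 (h ▸ mem_top g)
  rcases IsSimpleGroup.eq_bot_or_eq_top_of_normal (center G) inferInstance with h' | h'
  · rw [h', mem_bot] at hz; exact hy hz
  · exact hC.nonab ⟨⟨fun a b => (mem_center_iff.1 (h' ▸ mem_top b) a)⟩⟩

/-- `N(A) ≤ N(O_p(A))`. -/
theorem normalizer_le_normalizer_pCoreIn (p : ℕ) (A : Subgroup G) :
    normalizer (A : Set G) ≤ normalizer (pCoreIn p A : Set G) := by
  have key : ∀ g ∈ normalizer (A : Set G), ∀ v ∈ pCoreIn p A, g * v * g⁻¹ ∈ pCoreIn p A := by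
    rintro g hg _ ⟨v, hv, rfl⟩
    let φ : ↥A ≃* ↥A := normalizerMonoidHom (H := A) ⟨g, hg⟩
    exact ⟨φ v, Cores.pCore_map_le (f := φ.toMonoidHom) φ.surjective ⟨v, hv, rfl⟩, rfl⟩
  intro g hg
  refine mem_normalizer_iff.2 fun v => ⟨key g hg v, fun hv => ?_⟩
  have := key g⁻¹ (inv_mem hg) _ hv
  simpa [mul_assoc] using this

theorem centralizer_le_normalizer_pCoreAt (t : G) (p : ℕ) :
    centralizer ({t} : Set G) ≤ normalizer (pCoreIn p (coreAt t) : Set G) :=
  (centralizer_le_normalizer_coreAt t).trans (normalizer_le_normalizer_pCoreIn p _)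

theorem pCoreAt_le (t : G) (p : ℕ) : pCoreIn p (coreAt t) ≤ coreAt t := map_subtype_le _

theorem pCoreIn_two_eq_bot (t : G) : pCoreIn 2 (coreAt t) = ⊥ := by
  haveI : Fact (Nat.Prime 2) := ⟨Nat.prime_two⟩
  refine eq_bot_iff.2 fun x hx => ?_
  obtain ⟨k, hk⟩ := (Components.isPGroup_pCoreIn (p := 2) (coreAt t)) ⟨x, hx⟩
  have h1 : orderOf x ∣ 2 ^ k := orderOf_dvd_of_pow_eq_one (congrArg Subtype.val hk)
  have h2 := odd_orderOf_of_mem (odd_coreAt t) (pCoreAt_le t 2 hx)
  rw [mem_bot, ← orderOf_eq_one_iff]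
  exact Nat.eq_one_of_dvd_coprimes (Nat.Coprime.pow_right k (Nat.coprime_two_right.2 h2))
    dvd_rfl h1

theorem prime_ne_two_of_mem {t y : G} {q : ℕ} (hy : y ∈ coreAt t) (hyo : orderOf y = q) :
    q ≠ 2 := by
  rintro rfl
  have := odd_orderOf_of_mem (odd_coreAt t) hy
  rw [hyo] at this
  exact absurd this (by decide)

/-- The centre of `O_r(O)`, a normal subgroup of `C(t)`. -/
noncomputable abbrev centreCore (r : ℕ) (t : G) : Subgroup G :=
  pCoreIn r (coreAt t) ⊓ centralizer (pCoreIn r (coreAt t) : Set G)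

theorem centreCore_normal (r : ℕ) (t : G) :
    centralizer ({t} : Set G) ≤ normalizer (centreCore r t : Set G) := by
  have key : ∀ g ∈ normalizer (pCoreIn r (coreAt t) : Set G), ∀ v ∈ centreCore r t,
      g * v * g⁻¹ ∈ centreCore r t := fun g hg v hv =>
    ⟨Coprime.conj_mem hg hv.1, fun w hw => by
      have h := hv.2 _ (Coprime.conj_mem' hg hw)
      calc w * (g * v * g⁻¹) = g * ((g⁻¹ * w * g) * v) * g⁻¹ := by group
        _ = g * (v * (g⁻¹ * w * g)) * g⁻¹ := by rw [h]
        _ = g * v * g⁻¹ * w := by group⟩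
  intro g hg
  have hg' := centralizer_le_normalizer_pCoreAt t r hg
  refine mem_normalizer_iff.2 fun v => ⟨key g hg' v, fun hv => ?_⟩
  have := key g⁻¹ (inv_mem hg') _ hv
  simpa [mul_assoc] using this

theorem centreCore_ne_bot {r : ℕ} [Fact r.Prime] {t : G} (h : pCoreIn r (coreAt t) ≠ ⊥) :
    centreCore r t ≠ ⊥ :=
  H77.GW.inf_centralizer_ne_bot (Components.isPGroup_pCoreIn _) (Components.isPGroup_pCoreIn _)
    le_normalizer h

theorem centralizer_centreCore_le (hC : Cfg S l c s) (hmax : CentMax l c) {r : ℕ} [Fact r.Prime]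
    (h : pCoreIn r (coreAt (c ^ l)) ≠ ⊥) :
    centralizer (centreCore r (c ^ l) : Set G) ≤ centralizer ({c ^ l} : Set G) :=
  (centralizer_le_normalizer _).trans (normalizer_le hC hmax (centreCore_ne_bot h)
    (inf_le_left.trans ((pCoreAt_le _ r).trans (coreAt_le _))) (centreCore_normal r _))

/-- `C_O(F(O)) ≤ F(O)`. -/
theorem mem_fitIn_of_commute {t v : G} (hv : v ∈ coreAt t)
    (h : ∀ r : ℕ, r.Prime → ∀ w ∈ pCoreIn r (coreAt t), Commute v w) :
    v ∈ fitIn (coreAt t) := by
  haveI := isSolvable_coreAt t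
  refine ⟨⟨v, hv⟩, Cores.centralizer_fittingSubgroup_le ?_, rfl⟩
  rw [mem_centralizer_iff]
  intro w hw
  have hle : Cfsg.fittingSubgroup ↥(coreAt t) ≤ centralizer {(⟨v, hv⟩ : ↥(coreAt t))} := by
    rw [Components.fitting_eq_iSup_pCore]
    refine iSup_le fun p => fun w hw => mem_centralizer_singleton_iff.2 (Subtype.ext ?_)
    exact (h p (Nat.prime_of_mem_primeFactors p.2) w ⟨w, hw, rfl⟩).eq.symm
  exact mem_centralizer_singleton_iff.1 (hle hw)

/-- A `p`-element of `F(A)` lies in `O_p(A)`. -/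
theorem mem_pCoreIn_of_fitIn {p : ℕ} [Fact p.Prime] {A : Subgroup G} {v : G}
    (hv : v ∈ fitIn A) {k : ℕ} (hp : v ^ p ^ k = 1) : v ∈ pCoreIn p A := by
  obtain ⟨v', hv', rfl⟩ := hv
  have hP : IsPGroup p (zpowers v') := by
    rintro ⟨w, hw⟩
    obtain ⟨i, rfl⟩ := mem_zpowers_iff.1 hw
    refine ⟨k, Subtype.ext ?_⟩
    have h1 : v' ^ p ^ k = 1 := Subtype.ext (by simpa using hp)
    show (v' ^ i) ^ p ^ k = 1
    rw [← zpow_natCast, ← zpow_mul, mul_comm, zpow_mul, zpow_natCast, h1, one_zpow]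
  exact ⟨v', Components.le_pCore_of_le_fitting hP (zpowers_le.2 hv') (mem_zpowers v'), rfl⟩

/-- An involution inducing the identity on `F(O)` centralises `O`. -/
theorem commute_coreAt_of_fit {t b : G} (hbb : b * b = 1) (hbt : Commute b t)
    (hF : ∀ r : ℕ, r.Prime → ∀ w ∈ pCoreIn r (coreAt t), Commute b w) :
    ∀ v ∈ coreAt t, Commute b v := by
  intro v hv
  set d := b * v * b⁻¹ * v⁻¹ with hd
  have hdO : d ∈ coreAt t := mul_mem (conj_mem_coreAt hbt hv) (inv_mem hv)
  have hdF : d ∈ fitIn (coreAt t) := mem_fitIn_of_commute hdO fun r hr w hw => by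
    have hn := centralizer_le_normalizer_pCoreAt t r
    have hw' : v⁻¹ * w * v ∈ pCoreIn r (coreAt t) :=
      Coprime.conj_mem' (hn (coreAt_le t hv)) hw
    refine mul_inv_eq_iff_eq_mul.1 ?_
    calc d * w * d⁻¹ = b * (v * (b⁻¹ * (v⁻¹ * w * v) * b) * v⁻¹) * b⁻¹ := by rw [hd]; group
      _ = b * (v * (v⁻¹ * w * v) * v⁻¹) * b⁻¹ := by
        rw [show b⁻¹ * (v⁻¹ * w * v) * b = v⁻¹ * w * v by
          rw [mul_assoc, (hF r hr _ hw').symm.eq, inv_mul_cancel_left]]
      _ = b * w * b⁻¹ := by group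
      _ = w := by rw [(hF r hr w hw).eq, mul_inv_cancel_right]
  have hbd : Commute b d := by
    have hle : fitIn (coreAt t) ≤ centralizer ({b} : Set G) := by
      show (Cfsg.fittingSubgroup ↥(coreAt t)).map (coreAt t).subtype ≤ _
      rw [Components.fitting_eq_iSup_pCore, Subgroup.map_iSup]
      exact iSup_le fun p => fun w hw => mem_centralizer_singleton_iff.2
        (hF p (Nat.prime_of_mem_primeFactors p.2) w hw).eq.symm
    exact (mem_centralizer_singleton_iff.1 (hle hdF) : d * b = b * d).symm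
  have h1 : d = 1 := eq_one_of_inverted (odd_orderOf_of_mem (odd_coreAt t) hdO)
    (conj_commutator_inverted hbb) hbd
  exact mul_inv_eq_iff_eq_mul.1 (mul_inv_eq_one.1 h1)

/-- A group of `q`-elements moved by `b` contains an element inverted by `b` and fixed by a
`q`-element commuting with `b`. -/
theorem exists_inverted_fixed {q : ℕ} [Fact q.Prime] (hq : q ≠ 2) {P : Subgroup G}
    (hP : IsPGroup q P) {b y : G} (hbb : b * b = 1) (hbP : b ∈ normalizer (P : Set G))
    (hyP : y ∈ normalizer (P : Set G)) {k : ℕ} (hy : y ^ q ^ k = 1) (hby : Commute b y)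
    (hne : ∃ v ∈ P, ¬ Commute v b) :
    ∃ v ∈ P, orderOf v = q ∧ b * v * b⁻¹ = v⁻¹ ∧ Commute v y := by
  have hYp : IsPGroup q (zpowers y) := by
    rintro ⟨w, hw⟩
    obtain ⟨i, rfl⟩ := mem_zpowers_iff.1 hw
    refine ⟨k, Subtype.ext ?_⟩
    show (y ^ i) ^ q ^ k = 1
    rw [← zpow_natCast, ← zpow_mul, mul_comm, zpow_mul, zpow_natCast, hy, one_zpow]
  obtain ⟨u, ⟨huP, huy⟩, hub⟩ :
      ∃ u ∈ P ⊓ centralizer (zpowers y : Set G), ¬ Commute u b := by
    by_contra! hall
    obtain ⟨v, hv, hvb⟩ := hne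
    refine hvb ?_
    have hcb : (Nat.card (zpowers b)).Coprime q := by
      rw [Nat.card_zpowers]
      refine Nat.Coprime.coprime_dvd_left (orderOf_dvd_of_pow_eq_one (n := 2) (by rw [sq, hbb])) ?_
      exact (Nat.coprime_primes Nat.prime_two Fact.out).2 (Ne.symm hq)
    have hle : zpowers b ≤ centralizer (P : Set G) := Coprime.thompson_AxB hYp hcb
      (zpowers_le.2 (mem_centralizer_iff.2 fun w hw => by
        obtain ⟨i, rfl⟩ := mem_zpowers_iff.1 hw
        exact ((hby.zpow_left i).eq).symm ▸ ((hby.zpow_left i).eq)))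
      P hP (zpowers_le.2 hyP) (zpowers_le.2 hbP) (fun w hw => mem_centralizer_iff.2 fun z hz => by
        obtain ⟨i, rfl⟩ := mem_zpowers_iff.1 hz
        exact ((hall w hw).symm.zpow_left i).eq)
    exact (mem_centralizer_iff.1 (hle (mem_zpowers b)) v hv : v * b = b * v)
  set d := b * u * b⁻¹ * u⁻¹ with hd
  have hdP : d ∈ P := mul_mem (Coprime.conj_mem hbP huP) (inv_mem huP)
  have hd1 : d ≠ 1 := fun h => hub ((mul_inv_eq_iff_eq_mul.1 (mul_inv_eq_one.1 h) : b * u = u * b)).symm
  have hyu : Commute y u := mem_centralizer_iff.1 huy y (mem_zpowers y)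
  have hyd : Commute y d := ((hby.symm.mul_right hyu).mul_right hby.symm.inv_right).mul_right
    hyu.inv_right
  obtain ⟨j, hj⟩ := hP ⟨d, hdP⟩
  obtain ⟨i, -, hi⟩ := (Nat.dvd_prime_pow (Fact.out : q.Prime)).1
    (orderOf_dvd_of_pow_eq_one (congrArg Subtype.val hj : d ^ q ^ j = 1))
  rcases i with _ | i
  · rw [pow_zero, orderOf_eq_one_iff] at hi; exact absurd hi hd1
  refine ⟨d ^ q ^ i, pow_mem hdP _, ?_, ?_, (hyd.pow_right _).symm⟩
  · rw [orderOf_pow' d (pow_ne_zero _ (Fact.out : q.Prime).ne_zero), hi,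
      Nat.gcd_eq_right (pow_dvd_pow q i.le_succ), pow_succ, Nat.mul_div_cancel_left _
        (pow_pos (Fact.out : q.Prime).pos i)]
  · rw [← conj_pow, conj_commutator_inverted hbb, inv_pow]

end Cfsg.Agent.H62.GW
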