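import Cfsg.Agent.H62.GW.MixedSetting
import Cfsg.Agent.H36.GW.Step
import Cfsg.Agent.H65.GW.PslFacts
import Cfsg.Agent.H61.GW.Fusing

/-!
# GW programme, M3: the facts at one point

For `y ∈ E = F(O) ∩ C(s)` of prime order with `s` moving the corresponding `O_q(O)` the layer `L`
of `C(y)` is `PSL(2,q₀)`, meets `O(C(y))` trivially, and `O ∩ L` is cyclic and inverted by `s`.
-/

set_option autoImplicit false
set_option linter.unusedSectionVars false
set_option linter.style.haveILetI false

namespace Cfsg.Agent.H62.GW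

open Subgroup Cfsg.Agent
open Cfsg.Agent.GW (Cfg coreAt coreIn pairCore CentMax Fuses LayerStep LayerShape)
open Cfsg.Agent.Components (pCoreIn fitIn layerIn)
open Cfsg.Agent.H56 (PSLn)
open Cfsg.Agent.H63.GW (SylowDType)

universe u

theorem layerStep' {G : Type u} [Group G] [Finite G] : LayerStep (G := G) := H36.GW.layerStep

/-- In `PSL(2,9)` an element of odd order centralising an involution is trivial. -/
theorem eq_one_of_card_nine {F : Type} [Field F] [Fintype F] (h9 : Fintype.card F = 9)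
    {a x : PSLn 2 F} (ha1 : a ≠ 1) (haa : a * a = 1) (hx : Commute x a) (ho : Odd (orderOf x)) :
    x = 1 := by
  have h2 : (2 : F) ≠ 0 := H4.GW.two_ne (by rw [h9]; decide)
  obtain ⟨A, rfl⟩ := H86.PSLSizes.exists_lift a
  obtain ⟨X, rfl⟩ := H86.PSLSizes.exists_lift x
  have htr : (A : Matrix (Fin 2) (Fin 2) F).trace = 0 := H65.GW.trace_eq_zero_of_invol ha1 haa
  have h4 : (A : Matrix (Fin 2) (Fin 2) F).trace ^ 2 ≠ 4 := by
    rw [htr]
    intro hh
    exact h2 (mul_self_eq_zero.1 (show (2 : F) * 2 = 0 by linear_combination -hh))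
  obtain ⟨i, hi⟩ : IsSquare (-1 : F) := FiniteField.isSquare_neg_one_iff.2 (by rw [h9]; decide)
  have hcard := Linear.card_centralizer_split_SL h4 ⟨i, by rw [htr]; linear_combination -hi⟩
  rw [h9] at hcard
  obtain ⟨n, hn⟩ := ho
  set X' := X ^ (8 : ℕ) with hX'
  have hXA : X * A = A * X ∨ X * A = -(A * X) :=
    (H55.toPSL_two_eq_iff _ _).1 hx.eq
  rcases hXA with hc | hc
  · have hmem : X ∈ Subgroup.centralizer ({A} : Set (Matrix.SpecialLinearGroup (Fin 2) F)) :=
      Subgroup.mem_centralizer_singleton_iff.2 hc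
    have h8 : X ^ 8 = 1 := by
      have := pow_card_eq_one' (x := (⟨X, hmem⟩ : Subgroup.centralizer
        ({A} : Set (Matrix.SpecialLinearGroup (Fin 2) F))))
      rw [hcard] at this
      exact congrArg Subtype.val this
    have hd : orderOf (H55.toPSL X) ∣ 2 ^ 3 := orderOf_dvd_of_pow_eq_one
      (show H55.toPSL (X ^ 8) = 1 by rw [h8]; rfl)
    refine orderOf_eq_one_iff.1 (Nat.eq_one_of_dvd_coprimes ?_ hd dvd_rfl)
    exact (Nat.coprime_two_left.2 ⟨n, hn⟩).pow_left 3
  · exfalso
    have hpow : ∀ m : ℕ, X ^ (2 * m) * A = A * X ^ (2 * m) := by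
      intro m
      induction m with
      | zero => simp
      | succ m ih =>
        rw [show 2 * (m + 1) = 2 * m + 1 + 1 by ring, pow_succ, pow_succ, mul_assoc _ X A, hc,
          mul_neg, mul_assoc, ← mul_assoc X A X, hc, neg_mul, mul_neg, neg_neg, ← mul_assoc,
          ← mul_assoc, ih, mul_assoc, mul_assoc, mul_assoc]
    have h1 : X ^ (2 * n + 1) = 1 ∨ X ^ (2 * n + 1) = -1 := (H55.toPSL_two_eq_iff _ _).1 (by
      have e := pow_orderOf_eq_one (H55.toPSL X)
      rw [hn] at e
      exact e)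
    have e1 : X ^ (2 * n + 1) * A = -(A * X ^ (2 * n + 1)) := by
      rw [pow_succ, mul_assoc, hc, mul_neg, ← mul_assoc, hpow n, mul_assoc]
    have hA : (A : Matrix.SpecialLinearGroup (Fin 2) F) = -A := by
      rcases h1 with e | e <;> rw [e] at e1
      · simpa using e1
      · simpa [eq_comm] using e1
    have hA' := congrArg (fun Z : Matrix.SpecialLinearGroup (Fin 2) F =>
      (Z : Matrix (Fin 2) (Fin 2) F)) hA
    simp only [Matrix.SpecialLinearGroup.coe_neg] at hA'
    have hd := A.2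
    rw [Matrix.det_fin_two] at hd
    have key : ∀ i j, (A : Matrix (Fin 2) (Fin 2) F) i j = 0 := fun i j => by
      have := congrFun (congrFun hA' i) j
      rw [Matrix.neg_apply] at this
      exact (mul_eq_zero.1 (show (2 : F) * (A : Matrix (Fin 2) (Fin 2) F) i j = 0 by
        linear_combination this)).resolve_left h2
    rw [key, key, key, key] at hd
    simp at hd

variable {G : Type u} [Group G] [Finite G] {S : Sylow 2 G} {l : ℕ} {c s : G}

/-- An element of prime order of `E` at which `s` moves `O_q(O)`. -/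
structure MixPt (S : Sylow 2 G) (l : ℕ) (c s y : G) : Prop where
  cfg : Cfg S l c s
  cmax : CentMax l c
  mem : y ∈ fixPart (c ^ l) s
  mixed : ∃ q : ℕ, q.Prime ∧ orderOf y = q ∧ y ∈ pCoreIn q (coreAt (c ^ l)) ∧
    ∃ v ∈ pCoreIn q (coreAt (c ^ l)), ¬ Commute v s

theorem fixPart_le_core (t s : G) : fixPart t s ≤ coreAt t := inf_le_left.trans (map_subtype_le _)

theorem fixPart_le_pairCore (t s : G) : fixPart t s ≤ pairCore t s :=
  inf_le_inf_right _ (map_subtype_le _)

theorem commute_s_of_fix {t s x : G} (hx : x ∈ fixPart t s) : Commute x s :=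
  mem_centralizer_singleton_iff.1 hx.2

/-- Every element of prime order of `E` is such a point. -/
theorem MixPt.of_mixed (hC : Cfg S l c s) (hmax : CentMax l c) {q : ℕ} [Fact q.Prime] {y : G}
    (hyD : y ∈ pairCore (c ^ l) s) (hyF : y ∈ pCoreIn q (coreAt (c ^ l))) (hy : orderOf y = q)
    (hmix : ∃ v ∈ pCoreIn q (coreAt (c ^ l)), ¬ Commute v s) {e : G}
    (he : e ∈ fixPart (c ^ l) s) (hp : (orderOf e).Prime) : MixPt S l c s e := by
  haveI := Fact.mk hp
  have hmem : e ∈ pCoreIn (orderOf e) (coreAt (c ^ l)) :=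
    mem_pCoreIn_of_fitIn he.1 (k := 1) (by rw [pow_one, pow_orderOf_eq_one])
  obtain ⟨g, hg⟩ := H61.GW.exists_fuses_left hC
  refine ⟨hC, hmax, he, _, hp, rfl, hmem, ?_⟩
  by_contra! hno
  refine no_centralised_prime hC hmax layerStep' hg hyD hyF hy hmix (fun h0 => ?_) hno
  exact hp.ne_one (orderOf_eq_one_iff.2 ((mem_bot (G := G)).1 (h0 ▸ hmem)))

variable {y : G} (P : MixPt S l c s y)
include P

theorem MixPt.mem_pair : y ∈ pairCore (c ^ l) s := fixPart_le_pairCore _ _ P.mem

theorem MixPt.ne_one : y ≠ 1 := by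
  obtain ⟨q, hq, hy, -⟩ := P.mixed
  exact fun h => hq.ne_one (by rw [← hy, h, orderOf_one])

theorem MixPt.fused :
    centralizer ({y} : Set G) ≠ ⊤ ∧
      c ^ l ∈ layerIn (centralizer ({y} : Set G)) ∧
      s ∈ layerIn (centralizer ({y} : Set G)) ∧
      (∃ g' ∈ layerIn (centralizer ({y} : Set G)), Fuses g' (c ^ l) s) ∧
      coreIn (centralizer ({y} : Set G)) ≤ pairCore (c ^ l) s ∧
      ∀ v ∈ coreAt (c ^ l), Commute v y → s * v * s⁻¹ = v⁻¹ →
        v ∈ layerIn (centralizer ({y} : Set G)) := by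
  obtain ⟨q, hq, hy, hyF, hmix⟩ := P.mixed
  haveI := Fact.mk hq
  obtain ⟨g, hg⟩ := H61.GW.exists_fuses_left P.cfg
  exact fused_of_mixed P.cfg P.cmax layerStep' hg P.mem_pair hyF hy hmix

theorem MixPt.shape : LayerShape (centralizer ({y} : Set G)) :=
  layerStep' S l c s P.cfg _ P.fused.1 fun e =>
    H39.ne_one_of_orderOf_eq_two P.cfg.gen.z_order ((mem_bot (G := G)).1 (e ▸ P.fused.2.1))

/-- An element of prime order `q` inverted by `s` in `L ∩ O`. -/
theorem MixPt.exists_inverted : ∃ z ∈ layerIn (centralizer ({y} : Set G)),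
    z ∈ pCoreIn (orderOf y) (coreAt (c ^ l)) ∧ orderOf z = orderOf y ∧ s * z * s⁻¹ = z⁻¹ := by
  obtain ⟨q, hq, hy, hyF, hmix⟩ := P.mixed
  haveI := Fact.mk hq
  have h : Centred S l c s q y := ⟨P.cfg, P.cmax, hq, hyF, hy⟩
  obtain ⟨v, hv, hvo, hsv, hvy⟩ := h.exists_inverted_core
    (H39.mul_self_of_orderOf_eq_two P.cfg.gen.os) (P.cfg.gen.z_central P.cfg.gen.mem_s)
    (mem_centralizer_singleton_iff.1 P.mem_pair.2).symm hmix
  exact ⟨v, P.fused.2.2.2.2.2 v (pCoreAt_le _ _ hv) hvy hsv, hy ▸ hv, hvo.trans hy.symm, hsv⟩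

/-- The layer meets the core trivially. -/
theorem MixPt.disjoint :
    layerIn (centralizer ({y} : Set G)) ⊓ coreIn (centralizer ({y} : Set G)) = ⊥ := by
  set X := centralizer ({y} : Set G) with hX
  rcases P.shape.cover with h | ⟨h3, hcard⟩
  · exact h
  exfalso
  obtain ⟨q, hq, hy, hyF, hmix⟩ := P.mixed
  haveI := Fact.mk hq
  obtain ⟨g, hg⟩ := H61.GW.exists_fuses_left P.cfg
  obtain ⟨F, iF, iFt, hodd, h3', -, -, ⟨e⟩⟩ :=
    layer_psl P.cfg P.cmax layerStep' hg P.mem_pair hyF hy hmix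
  set π := QuotientGroup.mk' (Cfsg.oddCore ↥X) with hπ
  -- the order of the image
  let φ : ↥(Cfsg.layer ↥X) →* ↥((Cfsg.layer ↥X).map π) := π.subgroupMap _
  have hker : Nat.card φ.ker = 3 := by
    rw [← h3, ← Subgroup.card_map_of_injective
      (f := X.subtype.comp (Cfsg.layer ↥X).subtype)
      (X.subtype_injective.comp (Subgroup.subtype_injective _))]
    congr 1
    congr 1
    ext g'
    simp only [Subgroup.mem_map, MonoidHom.mem_ker, MonoidHom.comp_apply, Subgroup.subtype_apply,
      Subgroup.mem_inf]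
    constructor
    · rintro ⟨x, hx, rfl⟩
      refine ⟨⟨_, x.2, rfl⟩, ?_⟩
      exact (mk_eq_one_iff (x : ↥X)).1 (congrArg Subtype.val hx)
    · rintro ⟨⟨x, hx, rfl⟩, hxO⟩
      exact ⟨⟨x, hx⟩, Subtype.ext ((mk_eq_one_iff x).2 hxO), rfl⟩
  have hmul : Nat.card ↥(layerIn X) = Nat.card (PSLn 2 F) * 3 := by
    rw [show layerIn X = (Cfsg.layer ↥X).map X.subtype from rfl,
      Subgroup.card_map_of_injective X.subtype_injective,
      Subgroup.card_eq_card_quotient_mul_card_subgroup φ.ker, hker,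
      Nat.card_congr (QuotientGroup.quotientKerEquivOfSurjective φ
        (π.subgroupMap_surjective _)).toEquiv, Nat.card_congr e.toEquiv]
  have hc := Linear.card_PSL_two_mul (F := F)
  rw [show Nat.gcd 2 (Fintype.card F - 1) = 2 from
    Nat.gcd_eq_left (by obtain ⟨k, hk⟩ := hodd; omega)] at hc
  have h9 : Fintype.card F = 9 := by
    obtain ⟨k, hk⟩ := hodd
    rcases hcard with h | h <;> rw [hmul] at h
    · have : Nat.card (PSLn 2 F) = 360 := by omega
      rw [this] at hc
      have h5 : Fintype.card F ≤ 9 := by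
        by_contra hlt
        push Not at hlt
        have : 10 * 99 ≤ Fintype.card F * (Fintype.card F ^ 2 - 1) :=
          Nat.mul_le_mul hlt (Nat.le_sub_one_of_lt (by nlinarith))
        omega
      interval_cases hF : Fintype.card F <;> omega
    · have : Nat.card (PSLn 2 F) = 2520 := by omega
      rw [this] at hc
      have h5 : Fintype.card F ≤ 17 := by
        by_contra hlt
        push Not at hlt
        have : 18 * 323 ≤ Fintype.card F * (Fintype.card F ^ 2 - 1) :=
          Nat.mul_le_mul hlt (Nat.le_sub_one_of_lt (by nlinarith))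
        omega
      interval_cases hF : Fintype.card F <;> omega
  -- an inverted element of `O` in the layer would be trivial modulo the core
  obtain ⟨z, hzL, hzF, hzo, hsz⟩ := P.exists_inverted
  obtain ⟨z', hz', rfl⟩ := hzL
  obtain ⟨t', ht', htt'⟩ := P.fused.2.1
  have hzodd := odd_orderOf_of_mem (odd_coreAt _) (pCoreAt_le _ _ hzF)
  have hne : ∀ w : ↥X, (w : G) ∈ coreIn X → Commute (w : G) s := fun w hw =>
    mem_centralizer_singleton_iff.1 (P.fused.2.2.2.2.1 hw).2
  have ht'2 : orderOf (t' : G) = 2 := by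
    rw [show (t' : G) = c ^ l from htt']; exact P.cfg.gen.z_order
  have ha1 : e ⟨π t', mem_map_of_mem π ht'⟩ ≠ 1 := fun hh => by
    have h1 : π t' = 1 := congrArg Subtype.val (e.injective (hh.trans (map_one e).symm))
    have h2 := odd_orderOf_of_mem (odd_coreIn X) ((mk_eq_one_iff t').1 h1)
    rw [ht'2] at h2
    exact absurd h2 (by decide)
  have haa : e ⟨π t', mem_map_of_mem π ht'⟩ * e ⟨π t', mem_map_of_mem π ht'⟩ = 1 := by
    rw [← map_mul, show (⟨π t', mem_map_of_mem π ht'⟩ : ↥((Cfsg.layer ↥X).map π)) *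
      ⟨π t', mem_map_of_mem π ht'⟩ = 1 from Subtype.ext (by
        show π t' * π t' = 1
        rw [← map_mul, show t' * t' = 1 from Subtype.ext
          (H39.mul_self_of_orderOf_eq_two ht'2), map_one]), map_one]
  have hcomm : Commute (e ⟨π z', mem_map_of_mem π hz'⟩) (e ⟨π t', mem_map_of_mem π ht'⟩) := by
    refine Commute.map (Subtype.ext ?_) e
    have h1 : Commute z' t' := Subtype.ext (by
      show (z' : G) * (t' : G) = (t' : G) * (z' : G)
      rw [show (t' : G) = c ^ l from htt']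
      exact (commute_of_mem_coreAt (pCoreAt_le _ _ hzF)).symm.eq)
    exact (h1.map π).eq
  have hz1 : π z' = 1 := by
    refine congrArg Subtype.val (e.injective
      ((eq_one_of_card_nine h9 ha1 haa hcomm ?_).trans (map_one e).symm))
    rw [MulEquiv.orderOf_eq, ← Subgroup.orderOf_coe]
    refine hzodd.of_dvd_nat ((orderOf_map_dvd π z').trans ?_)
    rw [show X.subtype z' = (z' : G) from rfl, Subgroup.orderOf_coe]
  have hz2 : (z' : G) = 1 :=
    eq_one_of_inverted hzodd hsz (hne z' ((mk_eq_one_iff z').1 hz1)).symm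
  rw [show X.subtype z' = (z' : G) from rfl, hz2, orderOf_one] at hzo
  exact P.ne_one (orderOf_eq_one_iff.1 hzo.symm)

end Cfsg.Agent.H62.GW
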