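import Cfsg.Agent.H62.GW.MixedCases

/-!
# GW programme, piece M1 of MaxStep: the exports

For `y` of prime order `q` in `D ∩ O_q(O)` with `s` moving `O_q(O)` the centraliser `X = C(y)` has
a layer containing `⟨t, s⟩` and inducing `PSL(2,q₀)`, its core lies in `D`, and the elements of
`O ∩ X` inverted by `s` lie in the layer.  No `O_r(O) ≠ 1` is centralised by `s`.
-/

set_option autoImplicit false
set_option linter.unusedSectionVars false
set_option linter.style.haveILetI false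

namespace Cfsg.Agent.H62.GW

open Subgroup Cfsg.Agent
open Cfsg.Agent.GW (Cfg coreAt coreIn pairCore CentMax Fuses LayerStep LayerShape)
open Cfsg.Agent.Components (pCoreIn fitIn layerIn)
open Cfsg.Agent.H56 (PSLn)
open Cfsg.Agent.H63.GW (SylowDType)

universe u

variable {G : Type u} [Group G] [Finite G] {S : Sylow 2 G} {l : ℕ} {c s : G}

/-- `⟨t, s⟩` lies in the layer of `C(y)`. -/
theorem Centred.both_inner {q : ℕ} {y : G} (h : Centred S l c s q y) (hL : LayerStep (G := G))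
    {g : G} (hg : Fuses g (c ^ l) s) (hys : Commute s y)
    (hmix : ∃ v ∈ pCoreIn q (coreAt (c ^ l)), ¬ Commute v s) :
    c ^ l ∈ layerIn (centralizer ({y} : Set G)) ∧ s ∈ layerIn (centralizer ({y} : Set G)) := by
  set t := c ^ l with ht
  have hC := h.cfg
  have hss := H39.mul_self_of_orderOf_eq_two hC.gen.os
  have hts : Commute t s := (hC.gen.z_central hC.gen.mem_s).symm
  have htso : orderOf (t * s) = 2 := by simpa [ht] using hC.gen.orderOf_out (l : ℤ)
  have hytS : Commute (t * s) y := h.t_y.mul_left hys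
  have hmix' : ∃ v ∈ pCoreIn q (coreAt t), ¬ Commute v (t * s) := by
    obtain ⟨v, hv, hvs⟩ := hmix
    refine ⟨v, hv, fun hc => hvs ?_⟩
    have := (commute_of_mem_coreAt (pCoreAt_le _ _ hv)).symm.mul_right hc
    rwa [← mul_assoc, h.tt, one_mul] at this
  obtain ⟨x₂, hx₂o, hx₂y, hx₂t, hx₂c⟩ := h.exists_inverted hss hts.symm hys hg hmix
  obtain ⟨x₁, hx₁o, hx₁y, hx₁t, hx₁c⟩ := h.exists_inverted
    (H39.mul_self_of_orderOf_eq_two htso) ((Commute.refl t).mul_left hts.symm) hytS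
    (fuses_inv hg h.tt hts) hmix'
  rw [← mul_assoc, h.tt, one_mul] at hx₁c
  have hne := h.layerIn_ne_bot hC.gen.os hys hx₁o hx₁y hx₁t hx₁c
  have hLS := hL S l c s hC _ h.proper hne
  have hsX : s ∈ centralizer ({y} : Set G) := mem_centralizer_singleton_iff.2 hys.eq
  have hne_ts : t ≠ s := fun e => hC.gen.out (e ▸ Subgroup.pow_mem _ (mem_zpowers c) l)
  by_cases htE : t ∈ layerIn (centralizer ({y} : Set G))
  · refine ⟨htE, ?_⟩
    by_contra hsE
    exact h.false_half hC.small hL htE hys hC.gen.os hsE hx₁o hx₁y hx₁t hx₁c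
  exfalso
  by_cases hsE : s ∈ layerIn (centralizer ({y} : Set G))
  · refine h.false_of_outer_pair hC.small hsE hC.gen.os hytS htso (fun hh => htE ?_) hx₁o hx₁y
      hx₁t hx₁c hx₂o hx₂y hx₂t hx₂c
    have := mul_mem hh hsE
    rwa [mul_assoc, hss, mul_one] at this
  · rcases hLS.meets_four t s h.t_mem hsX hC.gen.z_order hC.gen.os hne_ts hts with h' | h' | h'
    · exact htE h'
    · exact hsE h'
    · exact h.false_of_outer_pair hC.small h' htso hys hC.gen.os hsE hx₂o hx₂y hx₂t hx₂c hx₁o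
        hx₁y hx₁t hx₁c

variable (hC : Cfg S l c s) (hmax : CentMax l c) (hL : LayerStep (G := G)) {g : G}
  (hg : Fuses g (c ^ l) s) {q : ℕ} [Fact q.Prime] {y : G}
  (hyD : y ∈ pairCore (c ^ l) s) (hyF : y ∈ pCoreIn q (coreAt (c ^ l))) (hy : orderOf y = q)
  (hmix : ∃ v ∈ pCoreIn q (coreAt (c ^ l)), ¬ Commute v s)
include hC hmax hL hg hyD hyF hy hmix

/-- **M1.**  The four group `⟨t, s⟩` is fused by the layer of `C(y)`. -/
theorem fused_of_mixed :
    centralizer ({y} : Set G) ≠ ⊤ ∧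
      c ^ l ∈ layerIn (centralizer ({y} : Set G)) ∧
      s ∈ layerIn (centralizer ({y} : Set G)) ∧
      (∃ g' ∈ layerIn (centralizer ({y} : Set G)), Fuses g' (c ^ l) s) ∧
      coreIn (centralizer ({y} : Set G)) ≤ pairCore (c ^ l) s ∧
      ∀ v ∈ coreAt (c ^ l), Commute v y → s * v * s⁻¹ = v⁻¹ →
        v ∈ layerIn (centralizer ({y} : Set G)) := by
  have h : Centred S l c s q y := ⟨hC, hmax, Fact.out, hyF, hy⟩
  have hys : Commute s y := (mem_centralizer_singleton_iff.1 hyD.2).symm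
  obtain ⟨htE, hsE⟩ := h.both_inner hL hg hys hmix
  have hne : layerIn (centralizer ({y} : Set G)) ≠ ⊥ := fun e =>
    h.t_ne ((mem_bot (G := G)).1 (e ▸ htE))
  have hLS := hL S l c s hC _ h.proper hne
  have hts : Commute (c ^ l) s := (hC.gen.z_central hC.gen.mem_s).symm
  obtain ⟨g', hg'E, hg', -⟩ := hLS.fuse_fixed (c ^ l) s htE hsE hC.gen.z_order hC.gen.os
    (fun e => hC.gen.out (e ▸ Subgroup.pow_mem _ (mem_zpowers c) l)) hts ⊥ bot_le
    (by rw [Subgroup.card_bot]; exact odd_one) (fun z hz => by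
      rw [(mem_bot (G := G)).1 hz]; exact ⟨Commute.one_left _, Commute.one_left _⟩)
  refine ⟨h.proper, htE, hsE, ⟨g', hg'E, hg'⟩, fun w hw => ?_, fun v hv hvy hsv => ?_⟩
  · refine ⟨mem_coreAt_of_odd hC (H36.GW.commute_core _ htE _ hw).symm
      (odd_orderOf_of_mem (odd_coreIn _) hw), mem_centralizer_singleton_iff.2 ?_⟩
    exact (H36.GW.commute_core _ hsE _ hw).eq.symm
  · exact mem_layerIn_of_inverted hsE (mem_centralizer_singleton_iff.2 hvy.eq) hsv
      (odd_orderOf_of_mem (odd_coreAt _) hv)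

/-- The layer of `C(y)` induces `PSL(2,q₀)`. -/
theorem layer_psl :
    ∃ (F : Type) (_ : Field F) (_ : Fintype F), Odd (Fintype.card F) ∧ 3 < Fintype.card F ∧
      SylowDType (↥(centralizer ({y} : Set G)) ⧸ Cfsg.oddCore ↥(centralizer ({y} : Set G))) ∧
      centralizer (((Cfsg.layer ↥(centralizer ({y} : Set G))).map
        (QuotientGroup.mk' (Cfsg.oddCore ↥(centralizer ({y} : Set G))))) :
          Set (↥(centralizer ({y} : Set G)) ⧸ Cfsg.oddCore ↥(centralizer ({y} : Set G)))) = ⊥ ∧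
      Nonempty (↥((Cfsg.layer ↥(centralizer ({y} : Set G))).map
        (QuotientGroup.mk' (Cfsg.oddCore ↥(centralizer ({y} : Set G))))) ≃* PSLn 2 F) := by
  have h : Centred S l c s q y := ⟨hC, hmax, Fact.out, hyF, hy⟩
  have hys : Commute s y := (mem_centralizer_singleton_iff.1 hyD.2).symm
  obtain ⟨htE, -⟩ := h.both_inner hL hg hys hmix
  have hne : layerIn (centralizer ({y} : Set G)) ≠ ⊥ := fun e =>
    h.t_ne ((mem_bot (G := G)).1 (e ▸ htE))
  obtain ⟨K, hKn, rfl, hKC, hKS, hSD⟩ := layer_quot hC hC.small h.proper hne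
  rcases hKS with ⟨F, iF, iFt, hodd, h3, he⟩ | ⟨⟨e⟩⟩
  · exact ⟨F, iF, iFt, hodd, h3, hSD, hKC, he⟩
  · exact (h.false_alt hC.small hL hne htE e).elim

omit hy hmix in
/-- No nontrivial normal subgroup of `C(t)` fixed by `s` commutes with `y` and with an
`s`-inverted element of `O ∩ C(y)`. -/
theorem no_fixed_normal (hy : orderOf y = q)
    (hmix : ∃ v ∈ pCoreIn q (coreAt (c ^ l)), ¬ Commute v s)
    {A : Subgroup G} (hA : A ≠ ⊥) (hAO : A ≤ coreAt (c ^ l))
    (hn : centralizer ({c ^ l} : Set G) ≤ normalizer (A : Set G))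
    (hAy : ∀ z ∈ A, Commute z y) (hAs : ∀ z ∈ A, Commute z s)
    {v : G} (hv : v ∈ coreAt (c ^ l)) (hv1 : v ≠ 1) (hvy : Commute v y)
    (hsv : s * v * s⁻¹ = v⁻¹) (hAv : ∀ z ∈ A, Commute z v) : False := by
  obtain ⟨hX, htE, hsE, -, -, hinv⟩ := fused_of_mixed hC hmax hL hg hyD hyF hy hmix
  have hts : Commute (c ^ l) s := (hC.gen.z_central hC.gen.mem_s).symm
  have hne : layerIn (centralizer ({y} : Set G)) ≠ ⊥ := fun e =>
    H39.ne_one_of_orderOf_eq_two hC.gen.z_order ((mem_bot (G := G)).1 (e ▸ htE))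
  have hLS := hL S l c s hC _ hX hne
  have hvE := hinv v hv hvy hsv
  obtain ⟨g', hg'E, hg', hgA⟩ := hLS.fuse_fixed (c ^ l) s htE hsE hC.gen.z_order hC.gen.os
    (fun e => hC.gen.out (e ▸ Subgroup.pow_mem _ (mem_zpowers c) l)) hts A
    (fun z hz => mem_centralizer_singleton_iff.2 (hAy z hz).eq)
    ((odd_coreAt (c ^ l)).of_dvd_nat (card_dvd_of_le hAO))
    (fun z hz => ⟨(commute_of_mem_coreAt (hAO hz)).symm, hAs z hz⟩)
  set v' := g' * v * g'⁻¹ with hv'
  have hv'C : v' ∈ centralizer (A : Set G) := mem_centralizer_iff.2 fun z hz => by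
    set w := g' * z * g'⁻¹ * z⁻¹ with hw
    have h1 : Commute v' w := H36.GW.commute_core _
      (mul_mem (mul_mem hg'E hvE) (inv_mem hg'E)) _ (hgA z hz)
    have h2 : Commute v' (g' * z * g'⁻¹) := (hAv z hz).symm.map (MulAut.conj g').toMonoidHom
    have e : z = w⁻¹ * (g' * z * g'⁻¹) := by rw [hw]; group
    rw [e]
    exact ((h1.inv_right.mul_right h2).eq).symm
  have hv't : Commute v' (c ^ l) := mem_centralizer_singleton_iff.1
    (normalizer_le hC hmax hA (hAO.trans (coreAt_le _)) hn (centralizer_le_normalizer _ hv'C))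
  have hv's : Commute v' s := by
    have := (commute_of_mem_coreAt hv).symm.map (MulAut.conj g').toMonoidHom
    simp only [MulEquiv.coe_toMonoidHom, MulAut.conj_apply, hg'.1] at this
    exact this
  have hinv' : c ^ l * s * v' * (c ^ l * s)⁻¹ = v'⁻¹ := by
    rw [← hg'.2, hv', show g' * s * g'⁻¹ * (g' * v * g'⁻¹) * (g' * s * g'⁻¹)⁻¹ =
      g' * (s * v * s⁻¹) * g'⁻¹ by group, hsv]
    group
  have h1 : v' = 1 := eq_one_of_inverted (by
    rw [hv', ← MulAut.conj_apply, MulEquiv.orderOf_eq]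
    exact odd_orderOf_of_mem (odd_coreAt _) hv) hinv' (hv't.symm.mul_left hv's.symm)
  exact hv1 (conj_eq_one_iff.1 h1)

/-- No `O_r(O) ≠ 1` is centralised by `s` when some `O_q(O)` is mixed. -/
theorem no_centralised_prime {r : ℕ} [Fact r.Prime] (hr : pCoreIn r (coreAt (c ^ l)) ≠ ⊥) :
    ¬ ∀ v ∈ pCoreIn r (coreAt (c ^ l)), Commute v s := by
  intro hs
  have h : Centred S l c s q y := ⟨hC, hmax, Fact.out, hyF, hy⟩
  have hrq : r ≠ q := by
    rintro rfl
    obtain ⟨v, hv, hvs⟩ := hmix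
    exact hvs (hs v hv)
  obtain ⟨v, hv, hvo, hsv, hvy⟩ := h.exists_inverted_core (H39.mul_self_of_orderOf_eq_two hC.gen.os)
    (hC.gen.z_central hC.gen.mem_s) (mem_centralizer_singleton_iff.1 hyD.2).symm hmix
  refine no_fixed_normal hC hmax hL hg hyD hyF hy hmix (centreCore_ne_bot hr)
    (inf_le_left.trans (pCoreAt_le _ r)) (centreCore_normal r _)
    (fun z hz => h.commute_other hrq hz.1) (fun z hz => hs z hz.1) (pCoreAt_le _ _ hv)
    (fun e => h.prime.ne_one (by rw [← hvo, e, orderOf_one])) hvy hsv fun z hz => ?_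
  exact H77.GW.commute_cross hrq hz.1 (pCoreAt_le _ _ hz.1) hv (pCoreAt_le _ _ hv)

end Cfsg.Agent.H62.GW
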