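import Cfsg.Agent.H62.GW.Torus
import Cfsg.Agent.H62.GW.Mixed
import Cfsg.Agent.H82.GW.Layer

/-!
# GW programme, M3: the setting of the mixed case

`E = F(O) ∩ C(s)` for `O = O(C(t))`; all its elements of prime order have the same layer `L` in
their centralisers, `τ = |O ∩ L|`, `j = |F(O) : N_{F(O)}(E)|` and `m = |O : F(O) N_O(E)|`, so that
`|O| = j m τ |D|`.  See `notes/helper62_gw_m3.md`.
-/

set_option autoImplicit false

namespace Cfsg.Agent.H62.GW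

open Subgroup Cfsg.Agent
open Cfsg.Agent.GW (Cfg coreAt coreIn pairCore CentMax Fuses)
open Cfsg.Agent.Components (pCoreIn fitIn layerIn)
open Cfsg.Agent.H56 (PSLn)

universe u

variable {G : Type u} [Group G] [Finite G]

/-- `F(O(C(t))) ∩ C(s)`. -/
noncomputable def fixPart (t s : G) : Subgroup G :=
  fitIn (coreAt t) ⊓ centralizer ({s} : Set G)

/-- `O(C(t)) ∩ L`: the odd part of the torus of `t` in the layer. -/
noncomputable def torusPart (t : G) (L : Subgroup G) : Subgroup G :=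
  coreAt t ⊓ L

/-- `|F(O) : N_{F(O)}(E)|`. -/
noncomputable def jNum (t s : G) : ℕ :=
  (fitIn (coreAt t) ⊓ normalizer (fixPart t s : Set G)).relIndex (fitIn (coreAt t))

/-- `|O : F(O) N_O(E)|`. -/
noncomputable def mNum (t s : G) : ℕ :=
  (fitIn (coreAt t) ⊔ (coreAt t ⊓ normalizer (fixPart t s : Set G))).relIndex (coreAt t)

/-- The facts of the mixed case. -/
structure MixedData (S : Sylow 2 G) (l : ℕ) (c s : G) (L : Subgroup G) : Prop where
  cfg : Cfg S l c s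
  cmax : CentMax l c
  ne : fixPart (c ^ l) s ≠ ⊥
  fix_cyclic : IsCyclic ↥(fixPart (c ^ l) s)
  layer_eq : ∀ e ∈ fixPart (c ^ l) s, (orderOf e).Prime → layerIn (centralizer ({e} : Set G)) = L
  t_mem : c ^ l ∈ L
  s_mem : s ∈ L
  fuse : ∃ g ∈ L, Fuses g (c ^ l) s
  commute_fix : ∀ x ∈ L, ∀ e ∈ fixPart (c ^ l) s, Commute x e
  core_disjoint : ∀ e ∈ fixPart (c ^ l) s, (orderOf e).Prime →
    L ⊓ coreIn (centralizer ({e} : Set G)) = ⊥
  psl : ∃ (F : Type) (_ : Field F) (_ : Fintype F), Odd (Fintype.card F) ∧ 3 < Fintype.card F ∧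
    Nonempty (↥L ≃* PSLn 2 F)
  torus_cyclic : IsCyclic ↥(torusPart (c ^ l) L)
  torus_inverted : ∀ v ∈ torusPart (c ^ l) L, s * v * s⁻¹ = v⁻¹
  /-- an `s`-inverted element of `O` commuting with some element `≠ 1` of `E` lies in `L` -/
  mem_torus : ∀ v ∈ coreAt (c ^ l), s * v * s⁻¹ = v⁻¹ →
    ∀ e ∈ fixPart (c ^ l) s, e ≠ 1 → Commute v e → v ∈ torusPart (c ^ l) L
  ti : ∀ h ∈ centralizer ({c ^ l} : Set G), ∀ e ∈ fixPart (c ^ l) s, e ≠ 1 →
    h * e * h⁻¹ ∈ fixPart (c ^ l) s → h ∈ normalizer (fixPart (c ^ l) s : Set G)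
  layer_norm : ∀ h ∈ centralizer ({c ^ l} : Set G),
    h ∈ normalizer (fixPart (c ^ l) s : Set G) → h ∈ normalizer (L : Set G)
  pair_norm : pairCore (c ^ l) s ≤ normalizer (fixPart (c ^ l) s : Set G)
  /-- `N_O(E) = τ D` -/
  split : ∀ g ∈ coreAt (c ^ l), g ∈ normalizer (fixPart (c ^ l) s : Set G) →
    ∃ k ∈ torusPart (c ^ l) L, ∃ d ∈ pairCore (c ^ l) s, g = k * d
  /-- `C_F(e) = E (τ ∩ F)` -/
  fit_split : ∀ v ∈ fitIn (coreAt (c ^ l)), ∀ e ∈ fixPart (c ^ l) s, e ≠ 1 → Commute v e →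
    ∃ f ∈ fixPart (c ^ l) s, ∃ k ∈ torusPart (c ^ l) L, k ∈ fitIn (coreAt (c ^ l)) ∧ v = f * k
  /-- an element of `C(t)` centralising `E (τ ∩ F)` centralises the coprime parts of `F` -/
  coprime_fixed : ∀ x ∈ centralizer ({c ^ l} : Set G), ∀ r : ℕ, r.Prime →
    (orderOf x).Coprime r → (∀ e ∈ fixPart (c ^ l) s, Commute x e) →
    (∀ k ∈ torusPart (c ^ l) L, k ∈ fitIn (coreAt (c ^ l)) → Commute x k) →
    ∀ v ∈ pCoreIn r (coreAt (c ^ l)), Commute x v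
  torus_prime : ∀ r : ℕ, r.Prime → r ∣ Nat.card ↥(fitIn (coreAt (c ^ l))) →
    ∃ z ∈ pCoreIn r (coreAt (c ^ l)), z ∈ L ∧ orderOf z = r
  fit_prime : ∀ r : ℕ, r.Prime → r ∣ Nat.card ↥(torusPart (c ^ l) L) →
    r ∣ Nat.card ↥(fitIn (coreAt (c ^ l)))
  card_core : Nat.card ↥(coreAt (c ^ l)) = jNum (c ^ l) s * mNum (c ^ l) s *
    Nat.card ↥(torusPart (c ^ l) L) * Nat.card ↥(pairCore (c ^ l) s)

end Cfsg.Agent.H62.GW
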