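import Cfsg.Agent.H62.GW.Basic
import Cfsg.Agent.H4.GW.Reduction

/-!
# GW programme, M1: the image of the layer of a proper subgroup modulo its core
-/

set_option autoImplicit false
set_option linter.unusedSectionVars false
set_option linter.style.haveILetI false

namespace Cfsg.Agent.H62.GW

open Subgroup Cfsg.Agent
open Cfsg.Agent.GW (Cfg coreIn)
open Cfsg.Agent.Components (layerIn)
open Cfsg.Agent.H63.GW (SylowDType PerfectHyp SimpleShape)

universe u

variable {G : Type u} [Group G] [Finite G] {S : Sylow 2 G} {l : ℕ} {c s : G}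

/-- Groups smaller than `G` with cyclic or dihedral Sylow `2`-subgroups have the known shapes. -/
abbrev SmallHyp (G : Type u) : Prop :=
  ∀ (Z : Type u) [Group Z] [Finite Z], Nat.card Z < Nat.card G → SylowDType Z → PerfectHyp Z

theorem layerIn_le (X : Subgroup G) : layerIn X ≤ X := map_subtype_le _

theorem coreIn_le (X : Subgroup G) : coreIn X ≤ X := map_subtype_le _

theorem le_normalizer_layerIn (X : Subgroup G) : X ≤ normalizer (layerIn X : Set G) :=
  Components.le_normalizer_map_subtype _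

theorem le_normalizer_coreIn (X : Subgroup G) : X ≤ normalizer (coreIn X : Set G) :=
  Components.le_normalizer_map_subtype _

theorem odd_coreIn (X : Subgroup G) : Odd (Nat.card (coreIn X)) := by
  unfold Cfsg.Agent.GW.coreIn
  rw [Subgroup.card_subtype]
  exact Cores.odd_card_oddCore

theorem commutator_mem_layerIn {X : Subgroup G} {a v : G} (ha : a ∈ layerIn X) (hv : v ∈ X) :
    a * v * a⁻¹ * v⁻¹ ∈ layerIn X := by
  rw [show a * v * a⁻¹ * v⁻¹ = a * (v * a⁻¹ * v⁻¹) by group]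
  exact mul_mem ha (Coprime.conj_mem (le_normalizer_layerIn X hv) (inv_mem ha))

/-- An element of odd order inverted by an element of the layer lies in the layer. -/
theorem mem_layerIn_of_inverted {X : Subgroup G} {a v : G} (ha : a ∈ layerIn X) (hv : v ∈ X)
    (hav : a * v * a⁻¹ = v⁻¹) (ho : Odd (orderOf v)) : v ∈ layerIn X := by
  have h := commutator_mem_layerIn ha hv
  rw [hav, ← mul_inv_rev] at h
  obtain ⟨k, hk⟩ := sq_pow_self ho
  exact hk ▸ pow_mem (inv_mem_iff.1 h) k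

theorem mk_eq_one_iff {X : Subgroup G} (x : ↥X) :
    QuotientGroup.mk' (Cfsg.oddCore ↥X) x = 1 ↔ (x : G) ∈ coreIn X := by
  rw [QuotientGroup.mk'_apply, QuotientGroup.eq_one_iff]
  exact ⟨fun h => ⟨x, h, rfl⟩, fun ⟨w, hw, e⟩ => Subtype.ext e ▸ hw⟩

/-- The image of the layer in `X / O(X)` is `PSL(2,q)` or `A₇`, with trivial centraliser. -/
theorem layer_quot (hC : Cfg S l c s) (hsmall : SmallHyp G) {X : Subgroup G} (hX : X ≠ ⊤)
    (hE : layerIn X ≠ ⊥) :
    ∃ (K : Subgroup (↥X ⧸ Cfsg.oddCore ↥X)) (_ : K.Normal),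
      K = (Cfsg.layer ↥X).map (QuotientGroup.mk' (Cfsg.oddCore ↥X)) ∧
      centralizer (K : Set (↥X ⧸ Cfsg.oddCore ↥X)) = ⊥ ∧ SimpleShape ↥K ∧
      SylowDType (↥X ⧸ Cfsg.oddCore ↥X) := by
  set π := QuotientGroup.mk' (Cfsg.oddCore ↥X) with hπ
  have hπs : Function.Surjective π := QuotientGroup.mk'_surjective _
  have hSD : SylowDType (↥X ⧸ Cfsg.oddCore ↥X) :=
    ((H36.GW.sylowDType_of_dGen hC.gen).subgroup X).quotient _ Cores.odd_card_oddCore
  have hO : Cfsg.oddCore (↥X ⧸ Cfsg.oddCore ↥X) = ⊥ := Cores.pPrimeCore_quotient_pPrimeCore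
  have hP : PerfectHyp (↥X ⧸ Cfsg.oddCore ↥X) := hsmall _
    ((Nat.card_le_card_of_surjective π hπs).trans_lt (H4.GW.card_lt_of_ne_top hX)) hSD
  set K := (Cfsg.layer ↥X).map π with hK
  haveI hKn : K.Normal := Subgroup.Normal.map inferInstance π hπs
  have hKp : ⁅K, K⁆ = K := by rw [hK, ← Subgroup.map_commutator, Components.layer_perfect]
  haveI : Group.IsPerfect ↥K := ⟨by
    apply Subgroup.map_injective K.subtype_injective
    rw [_root_.commutator_def, Subgroup.map_commutator, ← MonoidHom.range_eq_map, Subgroup.range_subtype,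
      hKp]⟩
  have hE' : Cfsg.layer ↥X ≠ ⊥ := H36.GW.layerIn_ne_bot_iff.1 hE
  have hK1 : K ≠ ⊥ := by
    intro h
    rw [hK, Subgroup.map_eq_bot_iff, QuotientGroup.ker_mk'] at h
    haveI : Group.IsSolvable ↥(Cfsg.oddCore ↥X) := S0205.result Cores.odd_card_oddCore
    haveI := Coprime.isSolvable_of_le h inferInstance
    haveI : Nontrivial ↥(Cfsg.layer ↥X) := (Subgroup.nontrivial_iff_ne_bot _).2 hE'
    exact Group.IsPerfect.not_isSolvable ↥(Cfsg.layer ↥X) inferInstance
  haveI : Nontrivial ↥K := (Subgroup.nontrivial_iff_ne_bot _).2 hK1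
  have hns : ¬ Group.IsSolvable (↥X ⧸ Cfsg.oddCore ↥X) := fun hs => by
    haveI := hs
    exact Group.IsPerfect.not_isSolvable ↥K inferInstance
  obtain ⟨L, hLn, hLS, hLC⟩ := H63.GW.nonsolvable_shape hSD hO hP hns
  haveI := hLn
  have hLK : L ≤ K := by
    haveI := hLS.isSimpleGroup
    haveI : (K.subgroupOf L).Normal := inferInstance
    rcases IsSimpleGroup.eq_bot_or_eq_top_of_normal (K.subgroupOf L) inferInstance with h | h
    · exfalso
      rw [subgroupOf_eq_bot] at h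
      refine hK1 (le_bot_iff.1 (hLC ▸ fun x hx => mem_centralizer_iff.2 fun y hy => ?_))
      exact (Subgroup.commute_of_normal_of_disjoint L K inferInstance inferInstance h.symm y x hy hx).eq
    · exact subgroupOf_eq_top.1 h
  haveI : (L.subgroupOf K).Normal := inferInstance
  have hKL : L.subgroupOf K = ⊤ := H4.GW.SimpleShape.eq_top (L.subgroupOf K)
    (hLS.congr (subgroupOfEquivOfLe hLK).symm) (by
      rw [eq_bot_iff]
      intro x hx
      have h1 : (x : ↥X ⧸ Cfsg.oddCore ↥X) ∈ centralizer (L : Set (↥X ⧸ Cfsg.oddCore ↥X)) :=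
        mem_centralizer_iff.2 fun y hy =>
          congrArg Subtype.val (mem_centralizer_iff.1 hx ⟨y, hLK hy⟩ hy)
      rw [hLC, mem_bot] at h1
      exact (mem_bot).2 (Subtype.ext h1))
  have hEq : K = L := le_antisymm (subgroupOf_eq_top.1 hKL) hLK
  refine ⟨K, hKn, rfl, ?_, ?_, hSD⟩
  · rw [hEq]; exact hLC
  · exact hLS.congr (MulEquiv.subgroupCongr hEq.symm)

/-- An involution mapping into the image of the layer lies in the layer. -/
theorem mem_layerIn_of_involution {X : Subgroup G} {a : G} (ha : a ∈ X) (haa : a * a = 1)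
    (h : QuotientGroup.mk' (Cfsg.oddCore ↥X) ⟨a, ha⟩ ∈
      (Cfsg.layer ↥X).map (QuotientGroup.mk' (Cfsg.oddCore ↥X))) : a ∈ layerIn X := by
  obtain ⟨e, he, hea⟩ := h
  set w : ↥X := e⁻¹ * ⟨a, ha⟩ with hw
  have hwO : (w : G) ∈ coreIn X := (mk_eq_one_iff w).1 (by rw [hw, map_mul, map_inv, hea, inv_mul_cancel])
  have hc : Commute e w := Subtype.ext (H36.GW.commute_core _ ⟨e, he, rfl⟩ _ hwO).eq
  have hodd := odd_orderOf_of_mem (odd_coreIn X) hwO
  have h1 : (⟨a, ha⟩ : ↥X) ^ orderOf (w : G) = e ^ orderOf (w : G) := by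
    have hw' : (⟨a, ha⟩ : ↥X) = e * w := by rw [hw, mul_inv_cancel_left]
    rw [hw', hc.mul_pow, show w ^ orderOf (w : G) = 1 from Subtype.ext (by simp), mul_one]
  obtain ⟨m, hm⟩ := hodd
  have h2 : (⟨a, ha⟩ : ↥X) ^ orderOf (w : G) = ⟨a, ha⟩ := by
    rw [hm, pow_succ, pow_mul, sq, show (⟨a, ha⟩ : ↥X) * ⟨a, ha⟩ = 1 from Subtype.ext haa, one_pow,
      one_mul]
  exact ⟨⟨a, ha⟩, h2 ▸ h1 ▸ pow_mem he _, rfl⟩

/-- An involution of the image of the layer lifts to one of the layer. -/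
theorem exists_involution_lift {X : Subgroup G} {k : ↥X ⧸ Cfsg.oddCore ↥X}
    (hk : k ∈ (Cfsg.layer ↥X).map (QuotientGroup.mk' (Cfsg.oddCore ↥X))) (hk1 : k ≠ 1)
    (hkk : k * k = 1) :
    ∃ b : ↥X, (b : G) ∈ layerIn X ∧ orderOf (b : G) = 2 ∧
      QuotientGroup.mk' (Cfsg.oddCore ↥X) b = k := by
  obtain ⟨e, he, hek⟩ := hk
  have hwO : ((e * e : ↥X) : G) ∈ coreIn X :=
    (mk_eq_one_iff _).1 (by rw [map_mul, hek, hkk])
  obtain ⟨m, hm⟩ := odd_orderOf_of_mem (odd_coreIn X) hwO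
  set b : ↥X := e ^ (2 * m + 1) with hb
  have hπb : QuotientGroup.mk' (Cfsg.oddCore ↥X) b = k := by
    rw [hb, map_pow, hek, pow_succ, pow_mul, sq, hkk, one_pow, one_mul]
  have hbb : b * b = 1 := by
    rw [hb, ← (Commute.refl e).mul_pow, ← hm]
    exact Subtype.ext (by rw [Subgroup.coe_pow, pow_orderOf_eq_one, Subgroup.coe_one])
  refine ⟨b, ⟨b, pow_mem he _, rfl⟩, ?_, hπb⟩
  refine H39.orderOf_eq_two_of_mul_self ?_ fun h => hk1 ?_
  · rw [← Subgroup.coe_mul, hbb, Subgroup.coe_one]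
  · rw [← hπb, show b = 1 from Subtype.ext h, map_one]

/-- Involutions of `X`, one in the layer, commuting modulo `O(X)`, commute. -/
theorem commute_of_quot {X : Subgroup G} {a b : ↥X} (ha : (a : G) ∈ layerIn X)
    (haa : (a : G) * a = 1)
    (h : Commute (QuotientGroup.mk' (Cfsg.oddCore ↥X) a) (QuotientGroup.mk' (Cfsg.oddCore ↥X) b)) :
    Commute (a : G) b := by
  set w : G := (b : G) * a * (b : G)⁻¹ * (a : G)⁻¹ with hw
  have hwO : w ∈ coreIn X := by
    have := (mk_eq_one_iff (b * a * b⁻¹ * a⁻¹)).1 (by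
      rw [map_mul, map_mul, map_mul, map_inv, map_inv, h.symm.eq, mul_inv_cancel_right,
        mul_inv_cancel])
    simpa [hw] using this
  have hca : Commute (a : G) w := H36.GW.commute_core _ ha _ hwO
  have hwa : (b : G) * a * (b : G)⁻¹ = w * a := by rw [hw]; group
  have hsq : (w * (a : G)) * (w * a) = 1 := by
    rw [← hwa, conj_mul, haa, mul_one, mul_inv_cancel]
  have hww : w * w = 1 := by
    calc w * w = w * w * ((a : G) * a) := by rw [haa, mul_one]
      _ = (w * (a : G)) * (w * a) := by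
        rw [mul_assoc w (a : G), ← mul_assoc (a : G) w, hca.eq]; group
      _ = 1 := hsq
  have h1 : w = 1 := eq_one_of_odd (odd_orderOf_of_mem (odd_coreIn X) hwO) hww
  rw [hw, mul_inv_eq_one] at h1
  exact (mul_inv_eq_iff_eq_mul.1 h1).symm

end Cfsg.Agent.H62.GW
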