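import Cfsg.Agent.H62.GW.MixedGlue
import Cfsg.Agent.H80.GW.MixedKlein
import Cfsg.Agent.H35.GW.PairCoreFit
import Cfsg.Agent.H15.GW.MixedFix
import Cfsg.Agent.H77.GW.MixedBound
import Cfsg.Agent.H82.GW.Final

/-!
# GW programme, M3: the mixed case from the three remaining facts
-/

set_option autoImplicit false

namespace Cfsg.Agent.H62.GW

open Subgroup Cfsg.Agent
open Cfsg.Agent.GW (Cfg coreAt coreIn pairCore CentMax Fuses MixedCase)
open Cfsg.Agent.Components (pCoreIn fitIn layerIn)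

universe u

/-- `c` centralises `F(O)`. -/
def FixHyp (G : Type u) [Group G] [Finite G] : Prop :=
  ∀ (S : Sylow 2 G) (l : ℕ) (c s : G) (L : Subgroup G), MixedData S l c s L →
    ∀ v ∈ fitIn (coreAt (c ^ l)), Commute c v

/-- The bound on `j` and `m`. -/
def BoundHyp (G : Type u) [Group G] [Finite G] : Prop :=
  ∀ (S : Sylow 2 G) (l : ℕ) (c s : G) (L : Subgroup G), MixedData S l c s L →
    (∀ v ∈ coreAt (c ^ l), Commute c v) →
    ∃ p, p.Prime ∧ p ∣ Nat.card ↥(fitIn (coreAt (c ^ l))) ∧ mNum (c ^ l) s + 2 ≤ p ∧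
      (jNum (c ^ l) s = 1 ∨ jNum (c ^ l) s = p ∨ ∃ B : Subgroup G, B ≤ coreAt (c ^ l) ∧
        centralizer ({c ^ l} : Set G) ≤ normalizer (B : Set G) ∧
        B ⊓ pairCore (c ^ l) s = ⊥ ∧ B ⊔ pairCore (c ^ l) s = coreAt (c ^ l))

/-- `O ∩ C(s)` lies in `F(O)` in the four group case. -/
def PairFitHyp (G : Type u) [Group G] [Finite G] : Prop :=
  ∀ (S : Sylow 2 G) (l : ℕ) (c s : G) (L : Subgroup G), MixedData S l c s L →
    (∀ v ∈ coreAt (c ^ l), Commute c v) → l = 1 →
    ∀ p, p.Prime → p ∣ Nat.card ↥(fitIn (coreAt (c ^ l))) → mNum (c ^ l) s + 2 ≤ p →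
      (jNum (c ^ l) s = 1 ∨ jNum (c ^ l) s = p) → pairCore (c ^ l) s = fixPart (c ^ l) s

/-- **The mixed case.** -/
theorem mixedCase_of {G : Type u} [Group G] [Finite G]
    (hFix : FixHyp G) (hBound : BoundHyp G) (hPair : PairFitHyp G) : MixedCase G :=
  fun S l c s hC hmax _ _ _ _ _ hyD hyF hy hmix =>
    false_of_pieces hC hmax hyD hyF hy hmix (fun L hM => hFix S l c s L hM)
      (fun L hM hc => hBound S l c s L hM hc)
      (fun L hM hc hl p hp hpF hmp hjp =>
        H80.GW.exists_order_klein hM hl (hPair S l c s L hM hc hl p hp hpF hmp hjp))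

/-- The bound is helper77's theorem. -/
theorem boundHyp {G : Type u} [Group G] [Finite G] : BoundHyp G := fun S l c s L hM _ => by
  obtain ⟨q, hq, hqF, -, hmq, h⟩ := H77.GW.Bound.bound hM
  exact ⟨q, hq, hqF, hmq, h.imp_right (Or.imp_right And.right)⟩

/-- `c` centralises `F(O)`: helper15's theorem. -/
theorem fixHyp {G : Type u} [Group G] [Finite G] : FixHyp G := fun _ _ _ _ _ hM =>
  H15.GW.commute_fit hM (fun ⟨_, hy⟩ => exists_mixedData hy) fun _ _ hM' => by
    obtain ⟨q, hq, hqF, -, hmq, -⟩ := H77.GW.Bound.bound hM'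
    exact ⟨q, hq, hqF, by omega⟩

/-- The mixed case, given `O ∩ C(s) ≤ F(O)` for `l = 1`. -/
theorem mixedCase_of_pairFit {G : Type u} [Group G] [Finite G] (h : PairFitHyp G) : MixedCase G :=
  mixedCase_of fixHyp boundHyp h

/-- `D = E` is helper35's theorem. -/
theorem pairFitHyp {G : Type u} [Group G] [Finite G] : PairFitHyp G :=
  fun S l c s L hM hc hl _ _ _ _ _ =>
    H35.GW.pairCore_eq_fixPart hM hc (mul_mem (by
      have := hM.t_mem
      simpa [hl] using this) hM.s_mem)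

/-- **The mixed case.** -/
theorem mixedCase (G : Type u) [Group G] [Finite G] : MixedCase G :=
  mixedCase_of_pairFit pairFitHyp

end Cfsg.Agent.H62.GW
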