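import Cfsg.Agent.H62.GW.MixedMain
import Cfsg.Agent.H80.GW.RankOne

/-!
# GW programme: the dihedral theorem as a library statement
-/

set_option autoImplicit false

namespace Cfsg.Agent.H62.GW

universe u

/-- The Gorenstein–Walter theorem. -/
theorem dihedralStatement : H80.GW.DihedralStatement.{u} := fun X _ _ hP S n hn hS => by
  haveI := hP
  exact Cfsg.Agent.GW.gw_of_mixed (fun G _ _ => mixedCase G) S n hn hS

end Cfsg.Agent.H62.GW
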