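import Cfsg.Agent.H62.GW.MixedLayer
import Cfsg.Agent.H65.GW.FieldTorus

/-!
# GW programme, M3: elements of `E` centralise the layer; commuting points have the same layer
-/

set_option autoImplicit false
set_option linter.unusedSectionVars false
set_option linter.style.haveILetI false

namespace Cfsg.Agent.H62.GW

open Subgroup Cfsg.Agent
open Cfsg.Agent.GW (Cfg coreAt coreIn pairCore CentMax Fuses LayerStep LayerShape)
open Cfsg.Agent.Components (pCoreIn fitIn layerIn)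
open Cfsg.Agent.H56 (PSLn)
open Cfsg.Agent.H63.GW (SylowDType)
open scoped commutatorElement

universe u

variable {G : Type u} [Group G] [Finite G] {S : Sylow 2 G} {l : ℕ} {c s : G}

/-- Conjugating a cyclic subgroup's element by an element acting as an `r`-element changes nothing
prime to `r`. -/
theorem eq_one_of_commutator {r n : ℕ} [Fact r.Prime] {d : G} {k : ℕ} (hd : d ^ r ^ k = 1)
    (hn : d ^ n = 1) (hcop : n.Coprime r) : d = 1 :=
  orderOf_eq_one_iff.1 (Nat.eq_one_of_dvd_coprimes (Nat.Coprime.pow_left k hcop.symm)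
    (orderOf_dvd_of_pow_eq_one hd) (orderOf_dvd_of_pow_eq_one hn))

variable {y : G} (P : MixPt S l c s y)
include P

/-- An element of `E` commuting with `y` lies in `O(C(y))`. -/
theorem MixPt.mem_core {x : G} (hx : x ∈ fixPart (c ^ l) s) (hxy : Commute x y) :
    x ∈ coreIn (centralizer ({y} : Set G)) := by
  obtain ⟨K, hKn, hK, hC, hSD, F, iF, iFt, hodd, -, ⟨e⟩⟩ := P.exists_model
  subst hK
  haveI := hKn
  set t := c ^ l with ht
  set X := centralizer ({y} : Set G)
  set π := QuotientGroup.mk' (Cfsg.oddCore ↥X)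
  have hxX : x ∈ X := mem_centralizer_singleton_iff.2 hxy.eq
  by_contra hno
  set f₀ : ↥X := ⟨x, hxX⟩ with hf₀
  have hf₀1 : π f₀ ≠ 1 := fun h => hno ((mk_eq_one_iff f₀).1 h)
  set n := orderOf (π f₀) with hn
  obtain ⟨r, hr, hrn⟩ := Nat.exists_prime_and_dvd
    (show n ≠ 1 from fun h => hf₀1 (orderOf_eq_one_iff.1 h))
  haveI := Fact.mk hr
  set f₁ := f₀ ^ (n / r) with hf₁
  have hn0 : 0 < n := orderOf_pos _
  have hf₁o : orderOf (π f₁) = r := by
    rw [hf₁, map_pow, orderOf_pow_of_dvd (Nat.div_pos (Nat.le_of_dvd hn0 hrn) hr.pos).ne'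
      (Nat.div_dvd_of_dvd hrn), ← hn, Nat.div_div_self hrn hn0.ne']
  obtain ⟨i, m, hm, hfo⟩ :=
    Nat.exists_eq_pow_mul_and_not_dvd (orderOf_pos f₁).ne' r hr.ne_one
  set f := f₁ ^ m with hf
  have hfr : orderOf (π f) = r := by
    rw [hf, map_pow, Nat.Coprime.orderOf_pow (by rw [hf₁o]; exact (hr.coprime_iff_not_dvd.2 hm)),
      hf₁o]
  have hfp : (f : G) ^ r ^ i = 1 := by
    have h1 : f₁ ^ (m * r ^ i) = 1 := by rw [mul_comm, ← hfo, pow_orderOf_eq_one]
    rw [hf, ← Subgroup.coe_pow, ← pow_mul, h1, Subgroup.coe_one]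
  have hfE : (f : G) ∈ fixPart t s := by
    rw [hf, hf₁, hf₀]
    simpa using pow_mem (pow_mem hx (n / r)) m
  have hfO : (f : G) ∈ coreAt t := fixPart_le_core t s hfE
  have hft : Commute (f : G) t := (commute_of_mem_coreAt hfO).symm
  have hfs : Commute (f : G) s := commute_s_of_fix hfE
  have hfodd : Odd (orderOf (f : G)) := odd_orderOf_of_mem (odd_coreAt _) hfO
  have hfF : (f : G) ∈ pCoreIn r (coreAt t) := mem_pCoreIn_of_fitIn hfE.1 hfp
  have hr2 : Odd r := by
    rw [← hfr]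
    refine hfodd.of_dvd_nat ((orderOf_map_dvd π f).trans ?_)
    rw [Subgroup.orderOf_coe]
  obtain ⟨t', ht', htt'⟩ := P.fused.2.1
  obtain ⟨s', hs', hss'⟩ := P.fused.2.2.1
  have htv : (t' : G) = t := htt'
  have hsv : (s' : G) = s := hss'
  have hne1 : ∀ {a : ↥X}, (a : G) ∈ layerIn X → a ≠ 1 → π a ≠ 1 := fun {a} ha h1 h =>
    h1 (Subtype.ext (P.eq_one_of_layer ha ((mk_eq_one_iff a).1 h)))
  have htt : t' * t' = 1 := Subtype.ext (by
    show (t' : G) * t' = 1
    rw [htv]; exact H39.mul_self_of_orderOf_eq_two P.cfg.gen.z_order)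
  have hss : s' * s' = 1 := Subtype.ext (by
    show (s' : G) * s' = 1
    rw [hsv]; exact H39.mul_self_of_orderOf_eq_two P.cfg.gen.os)
  refine H65.GW.field_torus_false e hSD hodd hC (f := π f) (a := π t') (b := π s') hr hr2 hfr
    (mem_map_of_mem π ht') (hne1 ⟨_, ht', rfl⟩ fun h => ?_)
    (by rw [← map_mul, htt, map_one]) (hne1 ⟨_, hs', rfl⟩ fun h => ?_)
    (by rw [← map_mul, hss, map_one]) (fun h => ?_)
    ((show Commute f t' from Subtype.ext (by
      show (f : G) * (t' : G) = (t' : G) * f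
      rw [htv]; exact hft.eq)).map π)
    ((show Commute f s' from Subtype.ext (by
      show (f : G) * (s' : G) = (s' : G) * f
      rw [hsv]; exact hfs.eq)).map π) ?_
  · exact H39.ne_one_of_orderOf_eq_two P.cfg.gen.z_order
      (show t = 1 by rw [← htv, h, Subgroup.coe_one])
  · exact H39.ne_one_of_orderOf_eq_two P.cfg.gen.os (show s = 1 by rw [← hsv, h, Subgroup.coe_one])
  · have h1 : π (t'⁻¹ * s') = 1 := by rw [map_mul, map_inv, h, inv_mul_cancel]
    have h2 := P.eq_one_of_layer (x := ((t'⁻¹ * s' : ↥X) : G))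
      (by
        show (t' : G)⁻¹ * (s' : G) ∈ layerIn X
        exact mul_mem (inv_mem ⟨_, ht', rfl⟩) ⟨_, hs', rfl⟩)
      ((mk_eq_one_iff _).1 h1)
    rw [Subgroup.coe_mul, Subgroup.coe_inv, htv, hsv, inv_mul_eq_one] at h2
    exact P.cfg.gen.out (h2 ▸ Subgroup.pow_mem _ (mem_zpowers c) l)
  -- the odd part of the torus, lifted to the layer
  rintro _ ⟨w, hw, rfl⟩ hwc hwodd hwcop
  have hwL : (w : G) ∈ layerIn X := ⟨w, hw, rfl⟩
  have hwt : Commute (w : G) t := by
    have h1 : (((w * t' * w⁻¹ * t'⁻¹ : ↥X)) : G) = 1 := by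
      refine P.eq_one_of_layer ?_ ((mk_eq_one_iff _).1 ?_)
      · show (w : G) * (t' : G) * (w : G)⁻¹ * (t' : G)⁻¹ ∈ layerIn X
        exact mul_mem (mul_mem (mul_mem hwL ⟨_, ht', rfl⟩) (inv_mem hwL)) (inv_mem ⟨_, ht', rfl⟩)
      · rw [map_mul, map_mul, map_mul, map_inv, map_inv, hwc.eq, mul_inv_cancel_right,
          mul_inv_cancel]
    simp only [Subgroup.coe_mul, Subgroup.coe_inv, htv] at h1
    exact mul_inv_eq_iff_eq_mul.1 (mul_inv_eq_one.1 h1)
  have hwo : orderOf (w : G) = orderOf (π w) := by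
    rw [Subgroup.orderOf_coe]
    refine Nat.dvd_antisymm (orderOf_dvd_of_pow_eq_one (Subtype.ext ?_)) (orderOf_map_dvd π w)
    refine P.eq_one_of_layer ?_ ((mk_eq_one_iff _).1 (by rw [map_pow, pow_orderOf_eq_one]))
    simpa using pow_mem hwL (orderOf (π w))
  have hwO : (w : G) ∈ coreAt t := mem_coreAt_of_odd P.cfg hwt (hwo ▸ hwodd)
  have hwT : (w : G) ∈ torusPart t (layerIn X) := ⟨hwO, hwL⟩
  have hcT : (f : G) * w * (f : G)⁻¹ ∈ torusPart t (layerIn X) :=
    ⟨conj_mem_coreAt hft hwO, Coprime.conj_mem (le_normalizer_layerIn X f.2) hwL⟩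
  set d := (f : G) * w * (f : G)⁻¹ * (w : G)⁻¹ with hd
  haveI := P.torus_cyclic
  have hcc : Commute ((f : G) * w * (f : G)⁻¹) (w : G)⁻¹ :=
    congrArg Subtype.val (mul_comm' (⟨_, hcT⟩ : ↥(torusPart t (layerIn X))) ⟨_, inv_mem hwT⟩)
  have hdn : d ^ orderOf (π w) = 1 := by
    rw [hd, hcc.mul_pow, conj_pow, inv_pow, ← hwo, pow_orderOf_eq_one, mul_one,
      mul_inv_cancel, inv_one, one_mul]
  have hdF : d ∈ pCoreIn r (coreAt t) := by
    rw [hd, show (f : G) * w * (f : G)⁻¹ * (w : G)⁻¹ =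
      (f : G) * ((w : G) * (f : G)⁻¹ * (w : G)⁻¹) by group]
    exact mul_mem hfF (Coprime.conj_mem
      (centralizer_le_normalizer_pCoreAt t r (coreAt_le t hwO)) (inv_mem hfF))
  obtain ⟨j, hj⟩ := (Components.isPGroup_pCoreIn (p := r) (coreAt t)) ⟨d, hdF⟩
  have hd1 : d = 1 := eq_one_of_commutator (congrArg Subtype.val hj) hdn hwcop
  exact (show Commute f w from Subtype.ext
    (mul_inv_eq_iff_eq_mul.1 (mul_inv_eq_one.1 (hd ▸ hd1)))).map π
where
  mul_comm' {H : Subgroup G} [IsCyclic ↥H] (a b : ↥H) : Commute a b :=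
    (IsCyclic.isMulCommutative (α := ↥H)).is_comm.comm a b

omit P in
/-- A perfect subgroup of `C(y)` lies in the layer. -/
theorem MixPt.perfect_le (P : MixPt S l c s y) {A : Subgroup G}
    (hA : A ≤ centralizer ({y} : Set G)) (hp : ⁅A, A⁆ = A) :
    A ≤ layerIn (centralizer ({y} : Set G)) := by
  obtain ⟨K, hKn, hK, hC, hSD, F, iF, iFt, hodd, -, ⟨e⟩⟩ := P.exists_model
  subst hK
  haveI := hKn
  set X := centralizer ({y} : Set G)
  set π := QuotientGroup.mk' (Cfsg.oddCore ↥X)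
  set K := (Cfsg.layer ↥X).map π with hK
  set Z := (A.subgroupOf X).map π ⊔ K with hZ
  have hAp : ⁅A.subgroupOf X, A.subgroupOf X⁆ = A.subgroupOf X := by
    refine Subgroup.map_injective X.subtype_injective ?_
    rw [Subgroup.map_commutator, Subgroup.subgroupOf_map_subtype, inf_eq_left.2 hA, hp]
  have hZp : ⁅Z, Z⁆ = Z := by
    refine le_antisymm (Subgroup.commutator_le_self Z) (sup_le ?_ ?_)
    · conv_lhs => rw [← hAp, Subgroup.map_commutator]
      exact Subgroup.commutator_mono le_sup_left le_sup_left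
    · conv_lhs => rw [hK, ← Components.layer_perfect (G := ↥X), Subgroup.map_commutator]
      exact Subgroup.commutator_mono le_sup_right le_sup_right
  haveI : Group.IsPerfect ↥Z := ⟨by
    apply Subgroup.map_injective Z.subtype_injective
    rw [_root_.commutator_def, Subgroup.map_commutator, ← MonoidHom.range_eq_map,
      Subgroup.range_subtype, hZp]⟩
  have hKZ : K ≤ Z := le_sup_right
  have htop := H4.GW.psl_eq_top (Y := ↥Z) (K := K.subgroupOf Z)
    ((subgroupOfEquivOfLe hKZ).trans e) (by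
      refine eq_bot_iff.2 fun z hz => (mem_bot).2 (Subtype.ext ?_)
      have h1 : (z : ↥X ⧸ Cfsg.oddCore ↥X) ∈ centralizer (K : Set (↥X ⧸ Cfsg.oddCore ↥X)) :=
        mem_centralizer_iff.2 fun k hk =>
          congrArg Subtype.val (mem_centralizer_iff.1 hz ⟨k, hKZ hk⟩ hk)
      rw [hC, mem_bot] at h1
      exact h1)
  have hAK : (A.subgroupOf X).map π ≤ K := le_sup_left.trans (subgroupOf_eq_top.1 htop)
  have hle : A ≤ layerIn X ⊔ coreIn X := by
    intro a ha
    obtain ⟨e', he', hea⟩ := hAK (mem_map_of_mem π (show (⟨a, hA ha⟩ : ↥X) ∈ A.subgroupOf X from ha))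
    rw [show a = (e' : G) * (((e'⁻¹ * ⟨a, hA ha⟩ : ↥X)) : G) by simp]
    exact mul_mem_sup ⟨e', he', rfl⟩ ((mk_eq_one_iff _).1
      (by rw [map_mul, map_inv, hea, inv_mul_cancel]))
  have hstep : ∀ W : Subgroup G, W ≤ coreIn X → A ≤ layerIn X ⊔ W → A ≤ layerIn X ⊔ ⁅W, W⁆ := by
    intro W hW hAW
    have hn : W ≤ normalizer (layerIn X : Set G) :=
      hW.trans ((coreIn_le X).trans (le_normalizer_layerIn X))
    rw [← hp]
    refine (Subgroup.commutator_mono hAW hAW).trans (Subgroup.commutator_le.2 fun a ha b hb => ?_)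
    obtain ⟨a₁, ha₁, a₂, ha₂, rfl⟩ := (Coprime.mem_sup_iff hn).1 ha
    obtain ⟨b₁, hb₁, b₂, hb₂, rfl⟩ := (Coprime.mem_sup_iff hn).1 hb
    have c1 : ∀ {u v : G}, u ∈ layerIn X → v ∈ W → Commute u v := fun hu hv =>
      H36.GW.commute_core _ hu _ (hW hv)
    have he : ⁅a₁ * a₂, b₁ * b₂⁆ = ⁅a₁, b₁⁆ * ⁅a₂, b₂⁆ := by
      have h1 := c1 hb₁ ha₂
      have h2 := c1 ha₁ hb₂
      have h3 : Commute (a₂ * b₂ * a₂⁻¹) b₁ :=
        ((h1.symm.mul_left (c1 hb₁ hb₂).symm).mul_left h1.symm.inv_left)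
      have h4 : Commute (a₂ * b₂ * a₂⁻¹) a₁⁻¹ :=
        (((c1 (inv_mem ha₁) ha₂).symm.mul_left (c1 (inv_mem ha₁) hb₂).symm).mul_left
          (c1 (inv_mem ha₁) ha₂).symm.inv_left)
      have h5 : Commute ⁅a₂, b₂⁆ b₁⁻¹ := by
        rw [commutatorElement_def]
        exact (((c1 (inv_mem hb₁) ha₂).symm.mul_left (c1 (inv_mem hb₁) hb₂).symm).mul_left
          (c1 (inv_mem hb₁) ha₂).symm.inv_left).mul_left (c1 (inv_mem hb₁) hb₂).symm.inv_left
      calc ⁅a₁ * a₂, b₁ * b₂⁆ = a₁ * ((a₂ * b₁) * b₂ * a₂⁻¹) * a₁⁻¹ * b₂⁻¹ * b₁⁻¹ := by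
            rw [commutatorElement_def]; group
        _ = a₁ * (b₁ * (a₂ * b₂ * a₂⁻¹)) * a₁⁻¹ * b₂⁻¹ * b₁⁻¹ := by rw [h1.symm.eq]; group
        _ = a₁ * b₁ * ((a₂ * b₂ * a₂⁻¹) * a₁⁻¹) * b₂⁻¹ * b₁⁻¹ := by group
        _ = a₁ * b₁ * a₁⁻¹ * (⁅a₂, b₂⁆ * b₁⁻¹) := by
            rw [h4.eq, commutatorElement_def]; group
        _ = _ := by rw [h5.eq, commutatorElement_def a₁]; group
    rw [he]
    refine mul_mem_sup ?_ (Subgroup.commutator_mem_commutator ha₂ hb₂)
    rw [commutatorElement_def]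
    exact mul_mem (mul_mem (mul_mem ha₁ hb₁) (inv_mem ha₁)) (inv_mem hb₁)
  haveI : Group.IsSolvable ↥(coreIn X) := S0205.result (odd_coreIn X)
  obtain ⟨n, hn⟩ := Group.IsSolvable.solvable (G := ↥(coreIn X))
  have hall : ∀ i, A ≤ layerIn X ⊔ (derivedSeries ↥(coreIn X) i).map (coreIn X).subtype := by
    intro i
    induction i with
    | zero =>
      rw [derivedSeries_zero, ← MonoidHom.range_eq_map, Subgroup.range_subtype]
      exact hle
    | succ i ih =>
      rw [derivedSeries_succ, Subgroup.map_commutator]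
      exact hstep _ (map_subtype_le _) ih
  simpa [hn] using hall n

omit P in
/-- Commuting points have the same layer. -/
theorem MixPt.layer_le (P : MixPt S l c s y) {y' : G} (P' : MixPt S l c s y') (hc : Commute y y') :
    layerIn (centralizer ({y} : Set G)) ≤ layerIn (centralizer ({y'} : Set G)) := by
  refine P'.perfect_le (fun x hx => mem_centralizer_singleton_iff.2 ?_) ?_
  · exact (H36.GW.commute_core _ hx _ (P.mem_core P'.mem hc.symm)).eq
  · rw [show layerIn (centralizer ({y} : Set G)) = (Cfsg.layer _).map (centralizer ({y} : Set G)).subtype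
      from rfl, ← Subgroup.map_commutator, Components.layer_perfect]

end Cfsg.Agent.H62.GW
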