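import Cfsg.Agent.H4.GW.Reduction

/-!
# GW programme, M1: an involution of `A₇` central on the odd part of a centraliser
-/

set_option autoImplicit false

namespace Cfsg.Agent.H62.GW

open Equiv

/-- The four moved points. -/
abbrev Moved (x : Fin 7) : Prop := (x : ℕ) < 4

/-- `(01)(23)`. -/
abbrev tZero : Perm (Fin 7) := swap 0 1 * swap 2 3

/-- `(02)(13)`. -/
abbrev bZero : Perm (Fin 7) := swap 0 2 * swap 1 3

/-- `(01)(23)` on the moved points. -/
abbrev tFour : Perm {x : Fin 7 // Moved x} :=
  swap ⟨0, by decide⟩ ⟨1, by decide⟩ * swap ⟨2, by decide⟩ ⟨3, by decide⟩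

theorem four_base : ∀ σ : Perm {x : Fin 7 // Moved x},
    (∀ x, (σ x : Fin 7) = tZero ((σ (tFour x)) : Fin 7)) →
      σ ^ 4 = 1 := by
  decide +kernel

theorem moved_iff : ∀ x : Fin 7, Moved x ↔ tZero x ≠ x := by decide

theorem swap_val : ∀ x : {x : Fin 7 // Moved x},
    (tFour x : Fin 7) = tZero x := by
  decide

theorem commute_of_fixes : ∀ x : Fin 7, Moved x →
    Moved (bZero x) := by decide

theorem fixed_of_not_moved : ∀ x : Fin 7, ¬ Moved x → bZero x = x := by
  decide

/-- A permutation of odd order commuting with `(01)(23)` commutes with `(02)(13)`. -/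
theorem commute_base {v : Perm (Fin 7)} (hv : Commute v tZero)
    (ho : Odd (orderOf v)) : Commute v bZero := by
  set t₀ := tZero with ht
  have hcomm : ∀ x, v (t₀ x) = t₀ (v x) := fun x => congrArg (fun π : Perm (Fin 7) => π x) hv.eq
  have hmoved : ∀ x, Moved (v x) ↔ Moved x := fun x => by
    rw [moved_iff, moved_iff, ← ht, ← hcomm]
    exact ⟨fun h e => h (by rw [e]), fun h e => h (v.injective e)⟩
  set σ : Perm {x : Fin 7 // Moved x} := v.subtypePerm hmoved with hσ
  have hpow : ∀ (n : ℕ) (x : {x : Fin 7 // Moved x}), ((σ ^ n) x : Fin 7) = (v ^ n) x := by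
    intro n
    induction n with
    | zero => intro x; simp
    | succ n ih =>
      intro x
      rw [pow_succ, pow_succ, Perm.mul_apply, Perm.mul_apply, ih]
      rfl
  have h4 : σ ^ 4 = 1 := by
    refine four_base σ fun x => ?_
    show v x = t₀ (v (tFour x : {x : Fin 7 // Moved x}))
    rw [swap_val, ← ht, hcomm]
    have htt : t₀ * t₀ = 1 := by rw [ht]; decide
    exact (congrArg (fun π : Perm (Fin 7) => π (v x)) htt).symm
  have hm : σ ^ orderOf v = 1 := by
    ext x
    rw [hpow, pow_orderOf_eq_one]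
    rfl
  have h1 : σ = 1 := orderOf_eq_one_iff.1 (Nat.eq_one_of_dvd_coprimes
    (Nat.Coprime.pow_left 2 (Nat.coprime_two_left.2 ho) : (2 ^ 2).Coprime (orderOf v))
    (orderOf_dvd_of_pow_eq_one h4) (orderOf_dvd_of_pow_eq_one hm))
  have hfix : ∀ x, Moved x → v x = x := fun x hx => by
    have := congrArg (fun π : Perm {x : Fin 7 // Moved x} => ((π ⟨x, hx⟩ : _) : Fin 7)) h1
    simpa [hσ] using this
  refine Equiv.ext fun x => ?_
  show v (bZero x) = bZero (v x)
  by_cases hx : Moved x
  · rw [hfix x hx, hfix _ (commute_of_fixes x hx)]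
  · rw [fixed_of_not_moved x hx, fixed_of_not_moved _ (mt (hmoved x).1 hx)]

/-- The involutions of `A₇` are double transpositions. -/
theorem cycleType_involution {π : Perm (Fin 7)} (h2 : orderOf π = 2) (hs : Perm.sign π = 1) :
    π.cycleType = Multiset.replicate 2 2 := by
  obtain ⟨n, hn⟩ := Perm.cycleType_prime_order (show (orderOf π).Prime by rw [h2]; exact Nat.prime_two)
  rw [h2] at hn
  have hsum : π.cycleType.sum ≤ 7 := by
    rw [Perm.sum_cycleType]
    exact (Finset.card_le_univ _).trans (le_of_eq (Fintype.card_fin 7))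
  rw [hn, Multiset.sum_replicate, smul_eq_mul] at hsum
  rw [Perm.sign_of_cycleType, hn, Multiset.sum_replicate, Multiset.card_replicate, smul_eq_mul] at hs
  have hn2 : n ≤ 2 := by omega
  interval_cases n
  · exact absurd hs (by decide)
  · exact hn
  · exact absurd hs (by decide)

/-- For every involution `t` of `A₇` another involution commuting with it commutes with all
elements of odd order commuting with `t`. -/
theorem exists_central (τ : alternatingGroup (Fin 7)) (hτ : orderOf τ = 2) :
    ∃ β : alternatingGroup (Fin 7), orderOf β = 2 ∧ β ≠ τ ∧ Commute β τ ∧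
      ∀ v : alternatingGroup (Fin 7), Odd (orderOf v) → Commute v τ → Commute v β := by
  have h1 := cycleType_involution (π := (τ : Perm (Fin 7))) (by rw [Subgroup.orderOf_coe, hτ]) τ.2
  have h2 := cycleType_involution (π := tZero)
    (orderOf_eq_prime (by decide) (by decide)) (by decide)
  obtain ⟨σ, hσ⟩ := isConj_iff.1 (Perm.isConj_iff_cycleType_eq.2 (h2.trans h1.symm))
  have hb : σ * bZero * σ⁻¹ ∈ alternatingGroup (Fin 7) := by
    rw [Perm.mem_alternatingGroup, map_mul, map_mul, map_inv, mul_inv_cancel_comm]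
    decide
  have hbo : orderOf (σ * bZero * σ⁻¹) = 2 := by
    rw [← MulAut.conj_apply, MulEquiv.orderOf_eq]
    exact orderOf_eq_prime (by decide) (by decide)
  refine ⟨⟨_, hb⟩, ?_, fun e => ?_, Subtype.ext ?_, fun v hv hvt => Subtype.ext ?_⟩
  · rw [← Subgroup.orderOf_coe]; exact hbo
  · have e' : σ * bZero * σ⁻¹ = σ * tZero * σ⁻¹ := (congrArg Subtype.val e).trans hσ.symm
    exact absurd (mul_left_cancel (mul_right_cancel e')) (by decide)
  · have hc : Commute bZero tZero := by show _ = _; decide
    have h3 := (hc.map (MulAut.conj σ).toMonoidHom).eq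
    simp only [MulEquiv.coe_toMonoidHom, MulAut.conj_apply, hσ] at h3
    exact h3
  · set w : Perm (Fin 7) := σ⁻¹ * (v : Perm (Fin 7)) * σ with hw
    have hwt : Commute w tZero := by
      have h0 : Commute (v : Perm (Fin 7)) (τ : Perm (Fin 7)) := congrArg Subtype.val hvt.eq
      rw [← hσ] at h0
      have h3 := h0.map (MulAut.conj σ⁻¹).toMonoidHom
      simp only [MulEquiv.coe_toMonoidHom, MulAut.conj_apply, inv_inv] at h3
      have e : σ⁻¹ * (σ * tZero * σ⁻¹) * σ = tZero := by group
      rwa [e] at h3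
    have hwo : Odd (orderOf w) := by
      have e : w = MulAut.conj σ⁻¹ (v : Perm (Fin 7)) := by simp [hw]
      rw [e, MulEquiv.orderOf_eq, Subgroup.orderOf_coe]
      exact hv
    have h3 := ((commute_base hwt hwo).map (MulAut.conj σ).toMonoidHom).eq
    have e : σ * w * σ⁻¹ = (v : Perm (Fin 7)) := by rw [hw]; group
    simp only [MulEquiv.coe_toMonoidHom, MulAut.conj_apply, e] at h3
    exact h3

end Cfsg.Agent.H62.GW
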