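import Cfsg.Agent.H4.GW.Reduction
import Cfsg.Agent.H86.PSLSizes.PSLFacts

/-!
# GW programme, M1: centralisers of elements of odd order over `PSL(2,q)`

`K` is a self-centralising normal subgroup isomorphic to `PSL(2,F)` of a group with cyclic or
dihedral Sylow `2`-subgroups.
-/

set_option autoImplicit false
set_option linter.unusedSectionVars false
set_option linter.style.haveILetI false

namespace Cfsg.Agent.H62.GW

open Subgroup Matrix Cfsg.Agent Cfsg.Agent.Linear Cfsg.Agent.H55
open Cfsg.Agent.H56 (PSLn SLn semiAut)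
open Cfsg.Agent.H5.EvenCyclic (linAut)
open Cfsg.Agent.H63.GW (SylowDType)
open Cfsg.Agent.H4.GW (actHom fieldPartHom)

universe u

section Linear2

variable {F : Type} [Field F] [Fintype F]

local notation "M2" => Matrix (Fin 2) (Fin 2) F
local notation "P2" => Matrix.ProjectiveSpecialLinearGroup (Fin 2) F

theorem trace_ne_zero_of_sq {X : SLn 2 F} (hx : toPSL X * toPSL X ≠ 1) : (X : M2).trace ≠ 0 := by
  intro h0
  exact hx (by rw [← sq]; exact orderOf_dvd_iff_pow_eq_one.1 (trace_zero_order h0))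

/-- An involution of `PGL(2,q)` fixing a non-involution and a commuting involution of `PSL(2,q)` is
a multiple of that involution. -/
theorem det_eq_sq_of_fixes (h2 : (2 : F) ≠ 0) {X A : SLn 2 F} (hX : toPSL X * toPSL X ≠ 1)
    (hA1 : toPSL A ≠ 1) (hA2 : toPSL A * toPSL A = 1) (hXA : Commute (toPSL A) (toPSL X))
    {g : GL (Fin 2) F} (hgX : linAut g (toPSL X) = toPSL X) (hg1 : linAut g ≠ (1 : MulAut (PSLn 2 F)))
    (hg2 : linAut g * linAut g = (1 : MulAut (PSLn 2 F))) :
    ∃ c : Fˣ, Matrix.GeneralLinearGroup.det g = c * c := by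
  have htr := trace_ne_zero_of_sq hX
  have hns : ¬ IsScalarTwo (X : M2) := not_scalar_of_ne_one fun h => hX (by rw [h, one_mul])
  -- `g` commutes with `X`
  have hgXm : (g : M2) * (X : M2) = (X : M2) * (g : M2) := by
    have e : toPSL (H56.semiSL g (RingEquiv.refl F) X) = toPSL X := hgX
    have hm : H56.smat (H56.semiSL g (RingEquiv.refl F) X) =
        (g : M2) * (X : M2) * ((g⁻¹ : GL (Fin 2) F) : M2) := by
      rw [H56.smat_semiSL]; congr
    have hinv : ((g⁻¹ : GL (Fin 2) F) : M2) * (g : M2) = 1 := by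
      rw [← Units.val_mul, inv_mul_cancel, Units.val_one]
    rcases (toPSL_two_eq_iff _ _).1 e with e' | e'
    · have e'' : (g : M2) * (X : M2) * ((g⁻¹ : GL (Fin 2) F) : M2) = (X : M2) := by
        rw [← hm, e']
      calc (g : M2) * (X : M2) = (g : M2) * (X : M2) * ((g⁻¹ : GL (Fin 2) F) : M2) * (g : M2) := by
            rw [mul_assoc ((g : M2) * (X : M2)), hinv, mul_one]
        _ = _ := by rw [e'']
    · exfalso
      have e'' : (g : M2) * (X : M2) * ((g⁻¹ : GL (Fin 2) F) : M2) = -(X : M2) := by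
        rw [← hm, e']; exact Matrix.SpecialLinearGroup.coe_neg X
      have ht : ((g : M2) * (X : M2) * ((g⁻¹ : GL (Fin 2) F) : M2)).trace = (X : M2).trace := by
        rw [Matrix.trace_mul_cycle, hinv, one_mul]
      rw [e'', Matrix.trace_neg] at ht
      exact htr ((mul_eq_zero.1 (show (2 : F) * (X : M2).trace = 0 by linear_combination -ht)).resolve_left h2)
  obtain ⟨α, β, hg⟩ := exists_of_commute hns hgXm
  -- `g` is not scalar
  have hβ : β ≠ 0 := by
    rintro rfl
    rw [zero_smul, add_zero] at hg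
    have hα : α ≠ 0 := by
      rintro rfl
      rw [zero_smul] at hg
      exact g.det_ne_zero (by rw [hg, Matrix.det_zero])
    refine hg1 ?_
    have : g = Matrix.GeneralLinearGroup.scalar (Fin 2) (Units.mk0 α hα) := by
      apply Units.ext
      rw [Matrix.GeneralLinearGroup.coe_scalar, hg]
      ext i j
      fin_cases i <;> fin_cases j <;> simp
    rw [this, H5.EvenCyclic.linAut_scalar]
  -- its square is scalar
  have hgg : 2 * α + β * (X : M2).trace = 0 := by
    rw [← map_mul] at hg2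
    have hc : g * g ∈ Subgroup.center (GL (Fin 2) F) := by
      rw [← H56.pglToAut_ker (n := 2) le_rfl]; exact hg2
    rw [Matrix.GeneralLinearGroup.center_eq_range_scalar] at hc
    obtain ⟨d, hd⟩ := hc
    have hd' : (g : M2) * (g : M2) = (d : F) • (1 : M2) + (0 : F) • (X : M2) := by
      rw [← Units.val_mul, ← hd, Matrix.GeneralLinearGroup.coe_scalar, zero_smul, add_zero]
      ext i j
      fin_cases i <;> fin_cases j <;> simp
    have hsq : (g : M2) * (g : M2) =
        (α * α - β * β) • (1 : M2) + (β * (2 * α + β * (X : M2).trace)) • (X : M2) := by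
      rw [hg]
      simp only [add_mul, mul_add, Matrix.smul_mul, Matrix.mul_smul, one_mul, mul_one, SL_sq_eq,
        smul_smul, smul_sub, sub_smul, add_smul, two_mul]
      rw [mul_comm α β, ← mul_assoc β β]
      abel
    exact (mul_eq_zero.1 (smul_add_smul_injective hns (hsq.symm.trans hd')).2).resolve_left hβ
  -- `A` is in the same line
  have hAX : A ∈ Subgroup.centralizer ({X} : Set (SLn 2 F)) := by
    rw [← comap_eq_centralizer (Or.inl htr), Subgroup.mem_comap, Subgroup.mem_centralizer_singleton_iff]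
    exact hXA
  obtain ⟨γ, δ, hA⟩ := (mem_centralizer_SL_two hns).1 hAX
  have hAt : (A : M2).trace = 0 := by
    by_contra hne
    have hAns := not_scalar_of_ne_one hA1
    rw [← map_mul, toPSL_two_eq_one_iff] at hA2
    refine hAns (isScalarTwo_iff.2 ?_)
    have hsq := SL_sq_eq A
    rcases hA2 with e | e <;> have e' := congrArg (fun Z : SLn 2 F => (Z : M2)) e <;>
      simp only [Matrix.SpecialLinearGroup.coe_mul, Matrix.SpecialLinearGroup.coe_one,
        Matrix.SpecialLinearGroup.coe_neg] at e' <;> rw [hsq] at e'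
    · refine ⟨(A : M2).trace⁻¹ * 2, ?_⟩
      rw [sub_eq_iff_eq_add] at e'
      rw [mul_smul, two_smul, ← e', inv_smul_smul₀ hne]
    · refine ⟨0, ?_⟩
      rw [sub_eq_iff_eq_add, neg_add_cancel] at e'
      rw [zero_smul, ← inv_smul_smul₀ hne (A : M2), e', smul_zero]
  have hA' : 2 * γ + δ * (X : M2).trace = 0 := by
    rw [← hAt, hA, trace_smul_add_smul]
  have hδ : δ ≠ 0 := by
    rintro rfl
    exact not_scalar_of_ne_one hA1 (isScalarTwo_iff.2 ⟨γ, by rw [hA, zero_smul, add_zero]⟩)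
  have hgA : (g : M2) = (β / δ) • (A : M2) := by
    rw [hg, hA, smul_add, smul_smul, smul_smul, div_mul_cancel₀ _ hδ]
    have : α = β / δ * γ := by
      rw [div_mul_eq_mul_div, eq_div_iff hδ]
      apply mul_left_cancel₀ h2
      linear_combination δ * hgg - β * hA'
    rw [← this]
  refine ⟨Units.mk0 (β / δ) (div_ne_zero hβ hδ), Units.ext ?_⟩
  rw [Matrix.GeneralLinearGroup.val_det_apply, hgA, Matrix.det_smul, Matrix.SpecialLinearGroup.det_coe,
    Fintype.card_fin, mul_one, Units.val_mul, Units.val_mk0, pow_two]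

/-- Two distinct commuting involutions of `PSL(2,q)`, `q > 5`: some third involution commutes with
the first but not with the second. -/
theorem exists_noncommuting_psl (h2 : (2 : F) ≠ 0) (h6 : 6 < Fintype.card F) {t b : P2}
    (ht1 : t ≠ 1) (ht : t * t = 1) (hb1 : b ≠ 1) (hb : b * b = 1) (htb : Commute b t) (hne : b ≠ t) :
    ∃ b' : P2, b' ≠ 1 ∧ b' * b' = 1 ∧ Commute b' t ∧ ¬ Commute b' b := by
  obtain ⟨X, rfl⟩ := H86.PSLSizes.exists_lift t
  obtain ⟨B, rfl⟩ := H86.PSLSizes.exists_lift b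
  have hns := not_scalar_of_ne_one ht1
  have htr0 : ∀ Z : SLn 2 F, toPSL Z ≠ 1 → toPSL Z * toPSL Z = 1 → (Z : M2).trace = 0 := by
    intro Z hZ1 hZ2
    by_contra hne
    refine not_scalar_of_ne_one hZ1 (isScalarTwo_iff.2 ?_)
    rw [← map_mul, toPSL_two_eq_one_iff] at hZ2
    have hsq := SL_sq_eq Z
    rcases hZ2 with e | e <;> have e' := congrArg (fun Z : SLn 2 F => (Z : M2)) e <;>
      simp only [Matrix.SpecialLinearGroup.coe_mul, Matrix.SpecialLinearGroup.coe_one,
        Matrix.SpecialLinearGroup.coe_neg] at e' <;> rw [hsq] at e'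
    · refine ⟨(Z : M2).trace⁻¹ * 2, ?_⟩
      rw [sub_eq_iff_eq_add] at e'
      rw [mul_smul, two_smul, ← e', inv_smul_smul₀ hne]
    · refine ⟨0, ?_⟩
      rw [sub_eq_iff_eq_add, neg_add_cancel] at e'
      rw [zero_smul, ← inv_smul_smul₀ hne (Z : M2), e', smul_zero]
  have hXt := htr0 X ht1 ht
  have hBt := htr0 B hb1 hb
  -- `B` inverts the centraliser of `X`
  have hBX : B * X * B⁻¹ = -X := by
    refine ((mem_preimage_centralizer X B).1 (Subgroup.mem_centralizer_singleton_iff.2 htb)).resolve_left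
      fun h => ?_
    obtain ⟨α, β, hB⟩ := (mem_centralizer_SL_two hns).1 (mem_centralizer_iff_conj.2 h)
    have hα : α = 0 := by
      have := congrArg Matrix.trace hB
      rw [hBt, trace_smul_add_smul, hXt, mul_zero, add_zero] at this
      exact (mul_eq_zero.1 this.symm).resolve_left h2
    rw [hα, zero_smul, zero_add] at hB
    have hd := congrArg Matrix.det hB
    rw [Matrix.det_smul, Matrix.SpecialLinearGroup.det_coe, Matrix.SpecialLinearGroup.det_coe,
      Fintype.card_fin, mul_one] at hd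
    rcases sq_eq_one_iff.1 hd.symm with e | e
    · refine hne ((toPSL_two_eq_iff B X).2 (Or.inl (Subtype.ext ?_)))
      rw [hB, e, one_smul]
    · refine hne ((toPSL_two_eq_iff B X).2 (Or.inr (Subtype.ext ?_)))
      rw [hB, e, Matrix.SpecialLinearGroup.coe_neg, neg_smul, one_smul]
  -- an element of order greater than four
  haveI := H86.PSLSizes.isCyclic_centralizer_trace_zero h2 hXt
  obtain ⟨A, hA⟩ := IsCyclic.exists_ofOrder_eq_natCard
    (α := ↥(Subgroup.centralizer ({X} : Set (SLn 2 F))))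
  have h5 : 4 < orderOf (A : SLn 2 F) := by
    rw [Subgroup.orderOf_coe, hA]
    have h4 : (X : M2).trace ^ 2 ≠ 4 := by
      rw [hXt]
      intro h
      exact h2 (mul_self_eq_zero.1 (show (2 : F) * 2 = 0 by linear_combination -h))
    rcases card_centralizer_cases h4 with e | e <;> rw [e] <;> omega
  have haa : toPSL (A : SLn 2 F) * toPSL (A : SLn 2 F) ≠ 1 := by
    rw [← map_mul]
    intro h
    have h4 : (A : SLn 2 F) ^ 4 = 1 := by
      rw [show (A : SLn 2 F) ^ 4 = ((A : SLn 2 F) * A) * ((A : SLn 2 F) * A) by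
        simp [pow_succ, mul_assoc]]
      rcases (toPSL_two_eq_one_iff _).1 h with e | e <;> rw [e] <;> simp
    exact absurd (Nat.le_of_dvd (by norm_num) (orderOf_dvd_of_pow_eq_one h4)) (by omega)
  -- `B` inverts `A`
  have hBA : toPSL B * toPSL (A : SLn 2 F) * (toPSL B)⁻¹ = (toPSL (A : SLn 2 F))⁻¹ := by
    obtain ⟨a, c, hab⟩ := (mem_centralizer_SL_two hns).1 A.2
    have hY' := congrArg (fun Z : SLn 2 F => (Z : M2)) hBX
    simp only [Matrix.SpecialLinearGroup.coe_mul, Matrix.SpecialLinearGroup.coe_neg] at hY'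
    have hYA : ((B * (A : SLn 2 F) * B⁻¹ : SLn 2 F) : M2) = a • (1 : M2) - c • (X : M2) := by
      rw [Matrix.SpecialLinearGroup.coe_mul, Matrix.SpecialLinearGroup.coe_mul, hab, mul_add, add_mul,
        Matrix.mul_smul, Matrix.mul_smul, Matrix.smul_mul, Matrix.smul_mul, hY', mul_one,
        ← Matrix.SpecialLinearGroup.coe_mul, mul_inv_cancel, Matrix.SpecialLinearGroup.coe_one,
        smul_neg, sub_eq_add_neg]
    have htA : ((A : SLn 2 F) : M2).trace = 2 * a := by
      rw [hab, trace_smul_add_smul, hXt, mul_zero, add_zero]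
    have key : B * (A : SLn 2 F) * B⁻¹ * (A : SLn 2 F) = 1 := Subtype.ext (by
      rw [Matrix.SpecialLinearGroup.coe_mul, hYA, Matrix.SpecialLinearGroup.coe_one,
        show a • (1 : M2) - c • (X : M2) =
          ((A : SLn 2 F) : M2).trace • (1 : M2) - ((A : SLn 2 F) : M2) by
          rw [htA, hab, two_mul, add_smul]; abel,
        sub_mul, Matrix.smul_mul, one_mul, SL_sq_eq]
      abel)
    rw [← map_inv, ← map_inv, ← map_mul, ← map_mul, eq_inv_of_mul_eq_one_left key]
  have hAt : Commute (toPSL (A : SLn 2 F)) (toPSL X) :=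
    (show Commute ((A : SLn 2 F)) X from Subgroup.mem_centralizer_singleton_iff.1 A.2).map _
  set a := toPSL (A : SLn 2 F) with ha
  set b := toPSL B with hbdef
  have hbi : b⁻¹ = b := inv_eq_of_mul_eq_one_right hb
  rw [hbi] at hBA
  refine ⟨a * b, fun h => haa ?_, ?_, hAt.mul_left htb, fun hc => haa ?_⟩
  · rw [mul_eq_one_iff_eq_inv.1 h, hbi, hb]
  · rw [mul_assoc, ← mul_assoc b, hBA, mul_inv_cancel]
  · have e : a⁻¹ = a := by
      calc a⁻¹ = b * (a * b) := by rw [← mul_assoc, hBA]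
        _ = a * b * b := hc.eq.symm
        _ = a := by rw [mul_assoc, hb, mul_one]
    calc a * a = a * a⁻¹ := by rw [e]
      _ = 1 := mul_inv_cancel a

end Linear2

section Over

variable {Y : Type u} [Group Y] [Finite Y] {K : Subgroup Y} [K.Normal]
  {F : Type} [Field F] [Fintype F] (e : ↥K ≃* PSLn 2 F)

include e

/-- Outside the involutions centralisers in `K` are abelian. -/
theorem commute_of_common {x u v : Y} (hx : x ∈ K) (hxx : x * x ≠ 1) (hu : u ∈ K) (hv : v ∈ K)
    (hux : Commute u x) (hvx : Commute v x) : Commute u v := by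
  have key := H86.PSLSizes.commute_of_mem_centralizer (F := F) (x := e ⟨x, hx⟩)
    (a := e ⟨u, hu⟩) (b := e ⟨v, hv⟩)
    (fun h => hxx (by
      have h1 : x = 1 := congrArg Subtype.val (e.injective (h.trans (map_one e).symm))
      rw [h1, one_mul]))
    (Or.inl fun h => hxx (congrArg Subtype.val
      (e.injective ((map_mul e _ _).trans (h.trans (map_one e).symm)))))
    (mem_centralizer_singleton_iff.2 (by rw [← map_mul, ← map_mul]; congr 1; exact Subtype.ext hux.eq))
    (mem_centralizer_singleton_iff.2 (by rw [← map_mul, ← map_mul]; congr 1; exact Subtype.ext hvx.eq))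
  rw [Commute, SemiconjBy, ← map_mul, ← map_mul] at key
  exact congrArg Subtype.val (e.injective key)

variable (h : SylowDType Y) (hodd : Odd (Fintype.card F)) (hC : centralizer (K : Set Y) = ⊥)
include h hodd hC

/-- An involution commuting with a non-involution of `K` and an involution of `K` commuting with
it lies in `K`. -/
theorem mem_of_fixes {x a b : Y} (hx : x ∈ K) (hxx : x * x ≠ 1) (ha : a ∈ K) (ha1 : a ≠ 1)
    (haa : a * a = 1) (hax : Commute a x) (hb1 : b ≠ 1) (hbb : b * b = 1) (hbx : Commute b x) :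
    b ∈ K := by
  obtain ⟨g, hg⟩ := H4.GW.exists_lin e (y := b)
    (MonoidHom.mem_ker.2 (H4.GW.fieldPart_involution e h hodd hC hbb))
  obtain ⟨X, hX⟩ := H86.PSLSizes.exists_lift (e ⟨x, hx⟩)
  obtain ⟨A, hA⟩ := H86.PSLSizes.exists_lift (e ⟨a, ha⟩)
  obtain ⟨c, hc⟩ := det_eq_sq_of_fixes (H4.GW.two_ne hodd) (X := X) (A := A) (g := g)
    (by
      rw [hX, ← map_mul]
      exact fun hh => hxx (congrArg Subtype.val (e.injective (hh.trans (map_one e).symm))))
    (by
      rw [hA]
      exact fun hh => ha1 (congrArg Subtype.val (e.injective (hh.trans (map_one e).symm))))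
    (by
      rw [hA, ← map_mul, show (⟨a, ha⟩ : K) * ⟨a, ha⟩ = 1 from Subtype.ext haa, map_one])
    (by
      rw [hA, hX, Commute, SemiconjBy, ← map_mul, ← map_mul]
      congr 1
      exact Subtype.ext hax.eq)
    (by
      rw [← hg, hX, H4.GW.actHom_apply, e.symm_apply_apply]
      congr 1
      refine Subtype.ext ?_
      rw [MulAut.conjNormal_apply]
      show b * x * b⁻¹ = x
      rw [hbx.eq, mul_inv_cancel_right])
    (by
      rw [← hg]
      exact fun hh => hb1 (H4.GW.actHom_injective hC e (hh.trans (map_one _).symm)))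
    (by rw [← hg, ← map_mul, hbb, map_one])
  exact H4.GW.mem_of_det_sq e hC hg hc

/-- Elements of odd order without field part lie in `K`. -/
theorem mem_of_odd {y : Y} (hy : fieldPartHom e y = 1) (ho : Odd (orderOf y)) : y ∈ K := by
  obtain ⟨g, hg⟩ := H4.GW.exists_lin e (MonoidHom.mem_ker.2 hy)
  have h2 : y * y ∈ K := H4.GW.mem_of_det_sq e hC (y := y * y) (g := g * g)
    (c := Matrix.GeneralLinearGroup.det g) (by rw [map_mul, hg, ← map_mul]) (map_mul _ _ _)
  obtain ⟨m, hm⟩ := ho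
  have : (y * y) ^ (m + 1) = y := by
    rw [← sq, ← pow_mul, show 2 * (m + 1) = orderOf y + 1 by omega, pow_succ, pow_orderOf_eq_one,
      one_mul]
  exact this ▸ K.pow_mem h2 _

/-- An element of odd order inverted by an involution lies in `K`. -/
theorem mem_of_inverted {x b : Y} (hbb : b * b = 1) (hbx : b * x * b⁻¹ = x⁻¹)
    (ho : Odd (orderOf x)) : x ∈ K := by
  refine mem_of_odd e h hodd hC ?_ ho
  set φ := fieldPartHom e with hφ
  have h1 : φ x = (φ x)⁻¹ := by
    rw [← map_inv, ← hbx, map_mul, map_mul, map_inv, H4.GW.fieldPart_involution e h hodd hC hbb,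
      one_mul, inv_one, mul_one]
  have h2 : φ x ^ 2 = 1 := by rw [sq]; nth_rw 2 [h1]; exact mul_inv_cancel _
  obtain ⟨m, hm⟩ := ho
  have h3 : φ x ^ (2 * m + 1) = 1 := by rw [← hm, ← map_pow, pow_orderOf_eq_one, map_one]
  rwa [pow_succ, pow_mul, h2, one_pow, one_mul] at h3

/-- Over `PSL(2,5)` every element of odd order lies in `K`. -/
theorem mem_of_card_five (h5 : Fintype.card F = 5) {y : Y} (ho : Odd (orderOf y)) : y ∈ K := by
  refine mem_of_odd e h hodd hC ?_ ho
  obtain ⟨p, hp, k, hk, hcard⟩ := FiniteField.card' F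
  haveI := Fact.mk hk
  obtain ⟨ε⟩ := H56.ringAut_equiv F (show 1 ≤ (k : ℕ) from k.pos) hcard
  have hk1 : (k : ℕ) = 1 := by
    have h1 : p ^ (k : ℕ) = 5 := by rw [← hcard, h5]
    have hd : p ∣ 5 := h1 ▸ dvd_pow_self p k.pos.ne'
    have hp5 : p = 5 := (Nat.prime_dvd_prime_iff_eq hk (by norm_num)).1 hd
    subst hp5
    exact Nat.pow_right_injective (le_refl 2 |>.trans (by norm_num)) (h1.trans (pow_one 5).symm)
  refine ε.injective ?_
  have : Subsingleton (Multiplicative (ZMod (k : ℕ))) := by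
    rw [hk1]; infer_instance
  exact Subsingleton.elim _ _

omit h in
/-- Over `PSL(2,q)`, `q ≠ 5`, distinct commuting involutions of `K` are separated. -/
theorem exists_noncommuting (h3 : 3 < Fintype.card F) (h5 : Fintype.card F ≠ 5) {t b : Y}
    (ht : t ∈ K) (ht1 : t ≠ 1) (htt : t * t = 1) (hb : b ∈ K) (hb1 : b ≠ 1) (hbb : b * b = 1)
    (hbt : Commute b t) (hne : b ≠ t) :
    ∃ b' ∈ K, b' ≠ 1 ∧ b' * b' = 1 ∧ Commute b' t ∧ ¬ Commute b' b := by
  have h6 : 6 < Fintype.card F := by
    obtain ⟨m, hm⟩ := hodd; omega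
  have hne1 : ∀ {z : Y} (hz : z ∈ K), z ≠ 1 → e ⟨z, hz⟩ ≠ 1 := fun {z} hz h1 hh =>
    h1 (congrArg Subtype.val (e.injective (hh.trans (map_one e).symm)))
  have hsq : ∀ {z : Y} (hz : z ∈ K), z * z = 1 → e ⟨z, hz⟩ * e ⟨z, hz⟩ = 1 := fun {z} hz h1 => by
    rw [← map_mul, show (⟨z, hz⟩ : K) * ⟨z, hz⟩ = 1 from Subtype.ext h1, map_one]
  obtain ⟨b', h1, h2, h3', h4⟩ := exists_noncommuting_psl (H4.GW.two_ne hodd) h6
    (hne1 ht ht1) (hsq ht htt) (hne1 hb hb1) (hsq hb hbb)
    (by rw [Commute, SemiconjBy, ← map_mul, ← map_mul]; congr 1; exact Subtype.ext hbt.eq)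
    (fun hh => hne (congrArg Subtype.val (e.injective hh)))
  refine ⟨e.symm b', SetLike.coe_mem _, fun hh => h1 ?_, ?_, ?_, fun hh => h4 ?_⟩
  · have : e.symm b' = 1 := Subtype.ext hh
    rw [← e.apply_symm_apply b', this, map_one]
  · rw [← Subgroup.coe_mul, ← map_mul, h2, map_one, Subgroup.coe_one]
  · show ((e.symm b' : K) : Y) * t = t * (e.symm b' : K)
    have := congrArg (fun z => ((e.symm z : K) : Y)) h3'.eq
    simpa using this
  · have e1 : e.symm b' * (⟨b, hb⟩ : K) = ⟨b, hb⟩ * e.symm b' := Subtype.ext hh.eq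
    have := congrArg e e1
    simpa [Commute, SemiconjBy] using this

/-- No prime divides both an element centralised by an inner and one centralised by an outer
involution. -/
theorem false_of_inner_outer {q : ℕ} [Fact q.Prime] (hq : q ≠ 2) {x x' a b : Y}
    (hx : x ∈ K) (hxo : orderOf x = q) (hx' : x' ∈ K) (hx'o : orderOf x' = q)
    (ha : a ∈ K) (ha1 : a ≠ 1) (haa : a * a = 1) (hax : Commute a x)
    (hb1 : b ≠ 1) (hbb : b * b = 1) (hbx' : Commute b x') (hb : b ∉ K) : False := by
  have hqp : q.Prime := Fact.out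
  have hsq : ∀ z : Y, orderOf z = q → z * z ≠ 1 := by
    intro z hz h1
    have := orderOf_dvd_of_pow_eq_one (show z ^ 2 = 1 by rw [sq, h1])
    rw [hz] at this
    exact hq ((Nat.prime_dvd_prime_iff_eq hqp Nat.prime_two).1 this)
  have hpg : ∀ z : ↥K, orderOf (z : Y) = q → IsPGroup q (zpowers z) := fun z hz =>
    IsPGroup.of_card (n := 1) (by rw [Nat.card_zpowers, ← Subgroup.orderOf_coe, hz, pow_one])
  obtain ⟨P, hP⟩ := (hpg ⟨x, hx⟩ hxo).exists_le_sylow
  obtain ⟨Q, hQ⟩ := (hpg ⟨x', hx'⟩ hx'o).exists_le_sylow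
  obtain ⟨k, hk⟩ := MulAction.exists_smul_eq ↥K Q P
  set x'' : ↥K := k * ⟨x', hx'⟩ * k⁻¹ with hx''
  have hx''P : x'' ∈ (P : Subgroup ↥K) := by
    rw [← hk, Sylow.coe_subgroup_smul]
    exact ⟨_, hQ (mem_zpowers _), rfl⟩
  have hxP : (⟨x, hx⟩ : ↥K) ∈ (P : Subgroup ↥K) := hP (mem_zpowers _)
  -- the Sylow subgroup is abelian
  haveI : Nontrivial ↥(P : Subgroup ↥K) := by
    refine ⟨⟨⟨_, hxP⟩, 1, fun hh => hsq x hxo ?_⟩⟩
    have h1 : x = 1 := congrArg (fun w : ↥(P : Subgroup ↥K) => ((w.1 : ↥K) : Y)) hh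
    rw [h1, one_mul]
  haveI := P.isPGroup'.center_nontrivial
  obtain ⟨z, hz⟩ := exists_ne (1 : center ↥(P : Subgroup ↥K))
  have hzz : ((z.1.1 : ↥K) : Y) * z.1.1 ≠ 1 := by
    intro hh
    obtain ⟨n, hn⟩ := P.isPGroup' z.1
    have h1 : orderOf ((z.1.1 : ↥K) : Y) ∣ 2 := orderOf_dvd_of_pow_eq_one (by rw [sq, hh])
    have h2 : orderOf ((z.1.1 : ↥K) : Y) ∣ q ^ n := orderOf_dvd_of_pow_eq_one (by
      have := congrArg (fun w : ↥(P : Subgroup ↥K) => ((w.1 : ↥K) : Y)) hn
      simpa using this)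
    have h3 := Nat.eq_one_of_dvd_coprimes (((Nat.coprime_primes Nat.prime_two hqp).2 (Ne.symm hq)).pow_right n) h1 h2
    exact hz (Subtype.ext (Subtype.ext (Subtype.ext (orderOf_eq_one_iff.1 h3))))
  have hcz : ∀ w : ↥K, w ∈ (P : Subgroup ↥K) → Commute (w : Y) (z.1.1 : ↥K) := fun w hw =>
    congrArg (fun w : ↥(P : Subgroup ↥K) => ((w.1 : ↥K) : Y)) (mem_center_iff.1 z.2 ⟨w, hw⟩)
  have hxx'' : Commute x (x'' : Y) :=
    commute_of_common e (SetLike.coe_mem _) hzz hx x''.2 (hcz _ hxP) (hcz _ hx''P)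
  have hax'' : Commute a (x'' : Y) :=
    commute_of_common e hx (hsq x hxo) ha x''.2 hax hxx''.symm
  set b' : Y := (k : Y) * b * (k : Y)⁻¹ with hb'
  have hb'K : b' ∈ K := by
    refine mem_of_fixes e h hodd hC x''.2 ?_ ha ha1 haa hax'' ?_ ?_ ?_
    · refine hsq _ ?_
      rw [hx'', Subgroup.coe_mul, Subgroup.coe_mul, Subgroup.coe_inv, ← MulAut.conj_apply,
        MulEquiv.orderOf_eq]
      exact hx'o
    · exact fun hh => hb1 (conj_eq_one_iff.1 hh)
    · rw [hb', conj_mul, hbb, mul_one, mul_inv_cancel]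
    · rw [hb', hx'', Subgroup.coe_mul, Subgroup.coe_mul, Subgroup.coe_inv]
      exact hbx'.map (MulAut.conj (k : Y)).toMonoidHom
  refine hb ?_
  have := mul_mem (mul_mem (inv_mem k.2) hb'K) k.2
  simpa [hb', mul_assoc] using this

end Over

end Cfsg.Agent.H62.GW
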