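import Cfsg.Agent.H62.GW.MixedCentral
import Cfsg.Agent.H62.GW.PSLFacts
import Cfsg.Agent.H62.GW.AltSevenFacts

/-!
# GW programme, M1: the four group `⟨t, s⟩` lies in the layer of `C(y)`

The involutions of `⟨t, s⟩` outside the layer induce outer automorphisms of `PSL(2,q₀)`; the
`q`-elements fixed by `s` and by `t s` then exclude every case but `⟨t, s⟩` inside the layer, and
the layer is not `A₇`.
-/

set_option autoImplicit false
set_option linter.unusedSectionVars false
set_option linter.style.haveILetI false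

namespace Cfsg.Agent.H62.GW

open Subgroup Cfsg.Agent
open Cfsg.Agent.GW (Cfg coreAt coreIn pairCore CentMax Fuses LayerStep LayerShape)
open Cfsg.Agent.Components (pCoreIn fitIn layerIn)
open Cfsg.Agent.H56 (PSLn)
open Cfsg.Agent.H63.GW (SimpleShape SylowDType)

universe u

variable {G : Type u} [Group G] [Finite G] {S : Sylow 2 G} {l : ℕ} {c s : G} {q : ℕ} {y : G}

/-- The projection of `X` modulo its core. -/
abbrev proj (X : Subgroup G) : ↥X →* ↥X ⧸ Cfsg.oddCore ↥X := QuotientGroup.mk' _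

theorem proj_mem {X : Subgroup G} {e : G} (he : e ∈ layerIn X) (heX : e ∈ X) :
    proj X ⟨e, heX⟩ ∈ (Cfsg.layer ↥X).map (QuotientGroup.mk' (Cfsg.oddCore ↥X)) := by
  obtain ⟨e', he', rfl⟩ := he
  exact ⟨e', he', rfl⟩

variable (h : Centred S l c s q y)
include h

theorem Centred.proj_ne {a x : G} (hao : orderOf a = 2) (hay : Commute a y) (hxo : orderOf x = q)
    (hxy : Commute x y) (hxt : c ^ l * x * (c ^ l)⁻¹ = x⁻¹) (hxa : Commute x a)
    (hx : x ∈ centralizer ({y} : Set G)) : proj _ ⟨x, hx⟩ ≠ 1 := fun e =>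
  h.not_centralizes_layer hao hay hxo hxy hxt hxa fun z hz =>
    (H36.GW.commute_core z hz x ((mk_eq_one_iff _).1 e)).symm

theorem Centred.orderOf_proj {a x : G} (hao : orderOf a = 2) (hay : Commute a y)
    (hxo : orderOf x = q) (hxy : Commute x y) (hxt : c ^ l * x * (c ^ l)⁻¹ = x⁻¹)
    (hxa : Commute x a) (hx : x ∈ centralizer ({y} : Set G)) :
    orderOf (proj _ ⟨x, hx⟩) = q := by
  have hd : orderOf (proj _ ⟨x, hx⟩) ∣ q := by
    refine (orderOf_map_dvd _ _).trans (dvd_of_eq ?_)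
    rw [← Subgroup.orderOf_coe]; exact hxo
  exact ((Nat.dvd_prime h.prime).1 hd).resolve_left fun e =>
    h.proj_ne hao hay hxo hxy hxt hxa hx (orderOf_eq_one_iff.1 e)

/-- `X = C(y)` has components as soon as it has a `q`-element inverted by `t` and fixed by an
involution of `X`. -/
theorem Centred.layerIn_ne_bot {a x : G} (hao : orderOf a = 2) (hay : Commute a y)
    (hxo : orderOf x = q) (hxy : Commute x y) (hxt : c ^ l * x * (c ^ l)⁻¹ = x⁻¹)
    (hxa : Commute x a) : layerIn (centralizer ({y} : Set G)) ≠ ⊥ := fun hb =>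
  h.not_centralizes_layer hao hay hxo hxy hxt hxa fun e he => by
    rw [hb] at he
    rw [(mem_bot (G := G)).1 he]
    exact Commute.one_right x

variable (hsmall : SmallHyp G)
include hsmall

/-- No involution outside the layer fixes a `q`-element inverted by `t` if one inside does. -/
theorem Centred.false_of_outer_pair {a b x x' : G}
    (haE : a ∈ layerIn (centralizer ({y} : Set G))) (hao : orderOf a = 2)
    (hby : Commute b y) (hbo : orderOf b = 2) (hbE : b ∉ layerIn (centralizer ({y} : Set G)))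
    (hxo : orderOf x = q) (hxy : Commute x y) (hxt : c ^ l * x * (c ^ l)⁻¹ = x⁻¹)
    (hxa : Commute x a)
    (hxo' : orderOf x' = q) (hxy' : Commute x' y) (hxt' : c ^ l * x' * (c ^ l)⁻¹ = x'⁻¹)
    (hxb' : Commute x' b) : False := by
  haveI := Fact.mk h.prime
  have hay : Commute a y := mem_centralizer_singleton_iff.1 (layerIn_le _ haE)
  have hne := h.layerIn_ne_bot hao hay hxo hxy hxt hxa
  obtain ⟨K, hKn, hK, hKC, hKS, hSD⟩ := layer_quot h.cfg hsmall h.proper hne
  haveI := hKn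
  have hxX : x ∈ centralizer ({y} : Set G) := mem_centralizer_singleton_iff.2 hxy.eq
  have hxX' : x' ∈ centralizer ({y} : Set G) := mem_centralizer_singleton_iff.2 hxy'.eq
  have hbX : b ∈ centralizer ({y} : Set G) := mem_centralizer_singleton_iff.2 hby.eq
  have haX := layerIn_le _ haE
  have haa := H39.mul_self_of_orderOf_eq_two hao
  have hbb := H39.mul_self_of_orderOf_eq_two hbo
  have hbK : proj _ ⟨b, hbX⟩ ∉ K := fun e =>
    hbE (mem_layerIn_of_involution hbX hbb (hK ▸ e))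
  have haK : proj _ ⟨a, haX⟩ ∈ K := hK ▸ proj_mem haE haX
  rcases hKS with ⟨F, iF, iFt, hodd, -, ⟨e⟩⟩ | ⟨⟨e⟩⟩
  · have hinvK : ∀ {w : G} (hw : w ∈ centralizer ({y} : Set G)), orderOf w = q →
        c ^ l * w * (c ^ l)⁻¹ = w⁻¹ → proj _ ⟨w, hw⟩ ∈ K := by
      intro w hw hwo hwt
      refine mem_of_inverted e hSD hodd hKC (b := proj _ ⟨c ^ l, h.t_mem⟩) ?_ ?_ ?_
      · rw [← map_mul]
        exact (congrArg (proj _) (Subtype.ext h.tt)).trans (map_one _)
      · rw [← map_inv, ← map_inv, ← map_mul, ← map_mul]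
        exact congrArg (proj _) (Subtype.ext hwt)
      · refine h.odd_q.of_dvd_nat ((orderOf_map_dvd _ _).trans (dvd_of_eq ?_))
        rw [← Subgroup.orderOf_coe]; exact hwo
    refine false_of_inner_outer e hSD hodd hKC h.q_ne (x := proj _ ⟨x, hxX⟩)
      (x' := proj _ ⟨x', hxX'⟩) (a := proj _ ⟨a, haX⟩) (b := proj _ ⟨b, hbX⟩)
      (hinvK hxX hxo hxt) (h.orderOf_proj hao hay hxo hxy hxt hxa hxX) (hinvK hxX' hxo' hxt')
      (h.orderOf_proj hbo hby hxo' hxy' hxt' hxb' hxX') haK ?_ ?_ ?_ ?_ ?_ ?_ hbK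
    · intro e1
      exact H39.ne_one_of_orderOf_eq_two hao (eq_one_of_odd
        (odd_orderOf_of_mem (odd_coreIn _) ((mk_eq_one_iff _).1 e1)) haa)
    · rw [← map_mul]
      exact (congrArg (proj _) (Subtype.ext haa)).trans (map_one _)
    · exact (show Commute (⟨a, haX⟩ : centralizer ({y} : Set G)) ⟨x, hxX⟩ from
        Subtype.ext hxa.symm.eq).map _
    · exact fun e1 => hbK (e1 ▸ K.one_mem)
    · rw [← map_mul]
      exact (congrArg (proj _) (Subtype.ext hbb)).trans (map_one _)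
    · exact (show Commute (⟨b, hbX⟩ : centralizer ({y} : Set G)) ⟨x', hxX'⟩ from
        Subtype.ext hxb'.symm.eq).map _
  · exact hbK (H4.GW.alt_shape hSD hKC e ▸ mem_top _)

/-- The layer contains `t` only together with `s`. -/
theorem Centred.false_half (hL : LayerStep (G := G)) {b x : G}
    (htE : c ^ l ∈ layerIn (centralizer ({y} : Set G)))
    (hby : Commute b y) (hbo : orderOf b = 2) (hbE : b ∉ layerIn (centralizer ({y} : Set G)))
    (hxo : orderOf x = q) (hxy : Commute x y) (hxt : c ^ l * x * (c ^ l)⁻¹ = x⁻¹)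
    (hxb : Commute x b) : False := by
  haveI := Fact.mk h.prime
  have hne := h.layerIn_ne_bot hbo hby hxo hxy hxt hxb
  have hLS := hL S l c s h.cfg _ h.proper hne
  obtain ⟨K, hKn, hK, hKC, hKS, hSD⟩ := layer_quot h.cfg hsmall h.proper hne
  haveI := hKn
  have hxX : x ∈ centralizer ({y} : Set G) := mem_centralizer_singleton_iff.2 hxy.eq
  have hbX : b ∈ centralizer ({y} : Set G) := mem_centralizer_singleton_iff.2 hby.eq
  have hbb := H39.mul_self_of_orderOf_eq_two hbo
  have hbK : proj _ ⟨b, hbX⟩ ∉ K := fun e =>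
    hbE (mem_layerIn_of_involution hbX hbb (hK ▸ e))
  have htK : proj _ ⟨c ^ l, h.t_mem⟩ ∈ K := hK ▸ proj_mem htE h.t_mem
  have htt' : proj _ (⟨c ^ l, h.t_mem⟩ : centralizer ({y} : Set G)) * proj _ ⟨c ^ l, h.t_mem⟩ = 1 := by
    rw [← map_mul]
    exact (congrArg (proj _) (Subtype.ext h.tt)).trans (map_one _)
  have ht1 : proj _ (⟨c ^ l, h.t_mem⟩ : centralizer ({y} : Set G)) ≠ 1 := fun e1 =>
    h.t_ne (eq_one_of_odd (odd_orderOf_of_mem (odd_coreIn _) ((mk_eq_one_iff _).1 e1)) h.tt)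
  rcases hKS with ⟨F, iF, iFt, hodd, h3, ⟨e⟩⟩ | ⟨⟨e⟩⟩
  swap
  · exact hbK (H4.GW.alt_shape hSD hKC e ▸ mem_top _)
  -- no `q`-elements of the layer in the inner torus
  have hxK : proj _ ⟨x, hxX⟩ ∈ K := by
    refine mem_of_inverted e hSD hodd hKC htt' ?_ ?_
    · rw [← map_inv, ← map_inv, ← map_mul, ← map_mul]
      exact congrArg (proj _) (Subtype.ext hxt)
    · refine h.odd_q.of_dvd_nat ((orderOf_map_dvd _ _).trans (dvd_of_eq ?_))
      rw [← Subgroup.orderOf_coe]; exact hxo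
  have claim : ∀ k ∈ K, ∀ m : ℕ, k ^ q ^ m = 1 → Commute k (proj _ ⟨c ^ l, h.t_mem⟩) → k = 1 := by
    intro k hk m hm hkt
    obtain ⟨i, -, hi⟩ := (Nat.dvd_prime_pow h.prime).1 (orderOf_dvd_of_pow_eq_one hm)
    rcases i with _ | i
    · exact orderOf_eq_one_iff.1 hi
    exfalso
    refine false_of_inner_outer e hSD hodd hKC h.q_ne (x := k ^ q ^ i)
      (x' := proj _ ⟨x, hxX⟩) (a := proj _ ⟨c ^ l, h.t_mem⟩) (b := proj _ ⟨b, hbX⟩)
      (pow_mem hk _) ?_ hxK (h.orderOf_proj hbo hby hxo hxy hxt hxb hxX) htK ht1 htt'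
      (hkt.symm.pow_right _) ?_ ?_ ?_ hbK
    · rw [orderOf_pow' k (pow_ne_zero _ h.prime.ne_zero), hi,
        Nat.gcd_eq_right (pow_dvd_pow q i.le_succ), pow_succ,
        Nat.mul_div_cancel_left _ (pow_pos h.prime.pos i)]
    · exact fun e1 => hbK (e1 ▸ K.one_mem)
    · rw [← map_mul]
      exact (congrArg (proj _) (Subtype.ext hbb)).trans (map_one _)
    · exact (show Commute (⟨b, hbX⟩ : centralizer ({y} : Set G)) ⟨x, hxX⟩ from
        Subtype.ext hxb.symm.eq).map _
  set Z := centreCore q (c ^ l) with hZ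
  have hZX : Z ≤ centralizer ({y} : Set G) := fun z hz =>
    mem_centralizer_singleton_iff.2 (hz.2 y h.memF).symm
  have hZp : IsPGroup q Z := (Components.isPGroup_pCoreIn _).to_le inf_le_left
  have hZO : Z ≤ coreAt (c ^ l) := inf_le_left.trans (pCoreAt_le _ _)
  have hZt : ∀ z ∈ Z, Commute (c ^ l) z := fun z hz => commute_of_mem_coreAt (hZO hz)
  -- the involutions of the layer in `C(t)` centralise `Z`
  have hbZ : ∀ b' ∈ layerIn (centralizer ({y} : Set G)), b' * b' = 1 → Commute b' (c ^ l) →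
      ∀ z ∈ Z, Commute z b' := by
    intro b' hb' hbb' hbt' z hz
    set d := b' * z * b'⁻¹ * z⁻¹ with hd
    have hdZ : d ∈ Z := mul_mem (Coprime.conj_mem
      (centreCore_normal q (c ^ l) (mem_centralizer_singleton_iff.2 hbt'.eq)) hz) (inv_mem hz)
    have hdE : d ∈ layerIn (centralizer ({y} : Set G)) := commutator_mem_layerIn hb' (hZX hz)
    obtain ⟨m, hm⟩ := hZp ⟨d, hdZ⟩
    have hdK : proj _ (⟨d, hZX hdZ⟩ : centralizer ({y} : Set G)) = 1 := by
      refine claim _ (hK ▸ proj_mem hdE (hZX hdZ)) m ?_ ?_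
      · have hm' : (⟨d, hZX hdZ⟩ : centralizer ({y} : Set G)) ^ q ^ m = 1 :=
          Subtype.ext (congrArg Subtype.val hm :)
        rw [← map_pow, hm', map_one]
      · exact (show Commute (⟨d, hZX hdZ⟩ : centralizer ({y} : Set G)) ⟨c ^ l, h.t_mem⟩ from
          Subtype.ext (hZt d hdZ).symm.eq).map _
    have h1 : d = 1 := eq_one_of_inverted
      (odd_orderOf_of_mem (odd_coreAt _) (hZO hdZ)) (conj_commutator_inverted hbb')
      (H36.GW.commute_core _ hb' _ ((mk_eq_one_iff _).1 hdK))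
    exact (mul_inv_eq_iff_eq_mul.1 (mul_inv_eq_one.1 h1) : b' * z = z * b').symm
  obtain ⟨g₁, hg₁, b₀, hb₀o, hb₀t, htb₀, hfus⟩ := hLS.fused_inner _ htE h.cfg.gen.z_order
  have hb₀E : b₀ ∈ layerIn (centralizer ({y} : Set G)) := hfus.1 ▸ mul_mem (mul_mem hg₁ htE) (inv_mem hg₁)
  have hb₀b₀ := H39.mul_self_of_orderOf_eq_two hb₀o
  obtain ⟨g, hgE, hg, hgZ⟩ := hLS.fuse_fixed (c ^ l) b₀ htE hb₀E h.cfg.gen.z_order hb₀o hb₀t.symm
    htb₀ Z hZX ((odd_coreAt (c ^ l)).of_dvd_nat (card_dvd_of_le hZO))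
    fun z hz => ⟨(hZt z hz).symm, hbZ b₀ hb₀E hb₀b₀ htb₀.symm z hz⟩
  have hpre := (Fuses.preimage hg h.tt htb₀).1
  -- all of them commute with `b₀`
  have hall : ∀ b' ∈ layerIn (centralizer ({y} : Set G)), b' * b' = 1 → Commute b' (c ^ l) →
      Commute b' b₀ := by
    intro b' hb' hbb' hbt'
    have hgb : g * b' * g⁻¹ ∈ centralizer (Z : Set G) := mem_centralizer_iff.2 fun z hz => by
      set w := g * z * g⁻¹ * z⁻¹ with hw
      have h1 : Commute (g * b' * g⁻¹) w := H36.GW.commute_core _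
        (mul_mem (mul_mem hgE hb') (inv_mem hgE)) _ (hgZ z hz)
      have h2 : Commute (g * b' * g⁻¹) (g * z * g⁻¹) :=
        (hbZ b' hb' hbb' hbt' z hz).symm.map (MulAut.conj g).toMonoidHom
      have e : z = w⁻¹ * (g * z * g⁻¹) := by rw [hw]; group
      rw [e]
      exact ((h1.inv_right.mul_right h2).eq).symm
    have hH : Commute (g * b' * g⁻¹) (c ^ l) :=
      mem_centralizer_singleton_iff.1 (centralizer_centreCore_le h.cfg h.max h.core_ne hgb)
    have h3 := hH.map (MulAut.conj g⁻¹).toMonoidHom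
    simp only [MulEquiv.coe_toMonoidHom, MulAut.conj_apply, inv_inv] at h3
    rw [hpre, show g⁻¹ * (g * b' * g⁻¹) * g = b' by group] at h3
    have h4 := hbt'.mul_right h3
    rwa [← mul_assoc, h.tt, one_mul] at h4
  by_cases h5 : Fintype.card F = 5
  · -- the image of `Z` is trivial
    refine hb₀t ?_
    have hgC : g ∈ centralizer (Z : Set G) := mem_centralizer_iff.2 fun z hz => by
      obtain ⟨m, hm⟩ := hZp ⟨z, hz⟩
      have ho : Odd (orderOf (proj _ (⟨z, hZX hz⟩ : centralizer ({y} : Set G)))) := by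
        refine (odd_orderOf_of_mem (odd_coreAt _) (hZO hz)).of_dvd_nat ((orderOf_map_dvd _ _).trans
          (dvd_of_eq ?_))
        rw [← Subgroup.orderOf_coe]
      have hzK : proj _ (⟨z, hZX hz⟩ : centralizer ({y} : Set G)) = 1 := by
        refine claim _ (mem_of_card_five e hSD hodd hKC h5 ho) m ?_ ?_
        · have hm' : (⟨z, hZX hz⟩ : centralizer ({y} : Set G)) ^ q ^ m = 1 :=
            Subtype.ext (congrArg Subtype.val hm :)
          rw [← map_pow, hm', map_one]
        · exact (show Commute (⟨z, hZX hz⟩ : centralizer ({y} : Set G)) ⟨c ^ l, h.t_mem⟩ from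
            Subtype.ext (hZt z hz).symm.eq).map _
      exact (H36.GW.commute_core g hgE z ((mk_eq_one_iff _).1 hzK)).eq.symm
    have hgt : Commute g (c ^ l) :=
      mem_centralizer_singleton_iff.1 (centralizer_centreCore_le h.cfg h.max h.core_ne hgC)
    rw [← hg.1, hgt.eq, mul_inv_cancel_right]
  have hb₀X := layerIn_le _ hb₀E
  have hb₀K : proj _ ⟨b₀, hb₀X⟩ ∈ K := hK ▸ proj_mem hb₀E hb₀X
  have hb₀1 : proj _ (⟨b₀, hb₀X⟩ : centralizer ({y} : Set G)) ≠ 1 := fun e1 =>
    H39.ne_one_of_orderOf_eq_two hb₀o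
      (eq_one_of_odd (odd_orderOf_of_mem (odd_coreIn _) ((mk_eq_one_iff _).1 e1)) hb₀b₀)
  obtain ⟨k, hk, hk1, hkk, hkt, hkb⟩ := exists_noncommuting e hodd hKC h3 h5 htK ht1 htt' hb₀K
    hb₀1 (by rw [← map_mul]; exact (congrArg (proj _) (Subtype.ext hb₀b₀)).trans (map_one _))
    ((show Commute (⟨b₀, hb₀X⟩ : centralizer ({y} : Set G)) ⟨c ^ l, h.t_mem⟩ from
      Subtype.ext htb₀.symm.eq).map _)
    (fun e1 => by
      have h1 : b₀ * c ^ l ∈ coreIn (centralizer ({y} : Set G)) :=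
        (mk_eq_one_iff (⟨b₀, hb₀X⟩ * ⟨c ^ l, h.t_mem⟩ : centralizer ({y} : Set G))).1 (by
          rw [map_mul, e1, htt'])
      have h2 : b₀ * c ^ l * (b₀ * c ^ l) = 1 := by
        rw [mul_assoc, ← mul_assoc (c ^ l), htb₀.eq, mul_assoc, h.tt, mul_one, hb₀b₀]
      have h3' := eq_one_of_odd (odd_orderOf_of_mem (odd_coreIn _) h1) h2
      rw [mul_eq_one_iff_eq_inv, h.t_inv] at h3'
      exact hb₀t h3')
  obtain ⟨b', hb', hb'o, hb'k⟩ := exists_involution_lift (hK ▸ hk) hk1 hkk
  have hb'b' := H39.mul_self_of_orderOf_eq_two hb'o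
  have hcbt : Commute (b' : G) (c ^ l) :=
    commute_of_quot (b := ⟨c ^ l, h.t_mem⟩) hb' hb'b' (by rw [hb'k]; exact hkt)
  refine hkb ?_
  rw [← hb'k]
  exact (show Commute b' ⟨b₀, hb₀X⟩ from Subtype.ext (hall _ hb' hb'b' hcbt).eq).map _

/-- With `⟨t, s⟩` in it the layer is not `A₇`. -/
theorem Centred.false_alt (hL : LayerStep (G := G))
    (hne : layerIn (centralizer ({y} : Set G)) ≠ ⊥)
    (htE : c ^ l ∈ layerIn (centralizer ({y} : Set G)))
    (e : ↥((Cfsg.layer ↥(centralizer ({y} : Set G))).map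
      (QuotientGroup.mk' (Cfsg.oddCore ↥(centralizer ({y} : Set G))))) ≃* alternatingGroup (Fin 7)) :
    False := by
  haveI := Fact.mk h.prime
  have hLS := hL S l c s h.cfg _ h.proper hne
  have htK := proj_mem htE h.t_mem
  have hτ : orderOf (e ⟨_, htK⟩) = 2 := by
    refine H39.orderOf_eq_two_of_mul_self ?_ fun e1 => ?_
    · rw [← map_mul]
      refine (congrArg e (Subtype.ext ?_)).trans (map_one e)
      rw [Subgroup.coe_mul, ← map_mul]
      exact (congrArg (proj _) (Subtype.ext h.tt)).trans (map_one _)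
    · exact h.t_ne (eq_one_of_odd (odd_orderOf_of_mem (odd_coreIn _)
        ((mk_eq_one_iff _).1 (congrArg Subtype.val (e.injective (e1.trans (map_one e).symm))))) h.tt)
  obtain ⟨β, hβo, hβne, hβτ, hβ⟩ := exists_central _ hτ
  have hβ1 : Subtype.val (e.symm β) ≠ 1 := fun e1 =>
    H39.ne_one_of_orderOf_eq_two hβo (by
      have : e.symm β = 1 := Subtype.ext e1
      rw [← e.apply_symm_apply β, this, map_one])
  obtain ⟨⟨b, hbX⟩, hbE, hbo, hbk⟩ := exists_involution_lift (SetLike.coe_mem (e.symm β)) hβ1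
    (by rw [← Subgroup.coe_mul, ← map_mul, H39.mul_self_of_orderOf_eq_two hβo, map_one,
      Subgroup.coe_one])
  have hbb := H39.mul_self_of_orderOf_eq_two hbo
  have hbt : Commute b (c ^ l) := commute_of_quot (a := ⟨b, hbX⟩) (b := ⟨c ^ l, h.t_mem⟩) hbE hbb (by
    rw [hbk]
    have h1 := congrArg (fun z => Subtype.val (e.symm z)) hβτ.eq
    simpa [Commute, SemiconjBy] using h1)
  have hbne : c ^ l ≠ b := fun e1 => hβne (by
    rw [← e.apply_symm_apply β]
    refine congrArg e (Subtype.ext ?_)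
    rw [← hbk]
    exact congrArg (proj _) (Subtype.ext e1.symm))
  have hby : Commute b y := mem_centralizer_singleton_iff.1 hbX
  -- `b` centralises `O ∩ C(y)`
  have hbO : ∀ v ∈ coreAt (c ^ l), Commute v y → Commute b v := by
    intro v hv hvy
    set d := b * v * b⁻¹ * v⁻¹ with hd
    have hdE : d ∈ layerIn (centralizer ({y} : Set G)) :=
      commutator_mem_layerIn hbE (mem_centralizer_singleton_iff.2 hvy.eq)
    have hdX := layerIn_le _ hdE
    have hdO : d ∈ coreAt (c ^ l) := mul_mem (conj_mem_coreAt hbt hv) (inv_mem hv)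
    have hdK : proj _ (⟨d, hdX⟩ : centralizer ({y} : Set G)) = 1 := by
      have hdK' := proj_mem hdE hdX
      have hod : Odd (orderOf (proj _ (⟨d, hdX⟩ : centralizer ({y} : Set G)))) := by
        refine (odd_orderOf_of_mem (odd_coreAt _) hdO).of_dvd_nat ((orderOf_map_dvd _ _).trans
          (dvd_of_eq ?_))
        rw [← Subgroup.orderOf_coe]
      refine eq_one_of_inverted hod (a := proj _ ⟨b, hbX⟩) ?_ ?_
      · rw [← map_inv, ← map_inv, ← map_mul, ← map_mul]
        exact congrArg (proj _) (Subtype.ext (conj_commutator_inverted hbb))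
      · have h2 : Commute (e ⟨_, hdK'⟩) (e ⟨_, htK⟩) := by
          refine Commute.map ?_ e
          exact Subtype.ext (((show Commute (⟨d, hdX⟩ : centralizer ({y} : Set G))
            ⟨c ^ l, h.t_mem⟩ from Subtype.ext (commute_of_mem_coreAt hdO).symm.eq).map (proj _)).eq)
        have h3 := hβ (e ⟨_, hdK'⟩) (by
          rw [MulEquiv.orderOf_eq, ← Subgroup.orderOf_coe]
          exact hod) h2
        have h4 := congrArg (fun z => Subtype.val (e.symm z)) h3.eq
        show proj _ ⟨b, hbX⟩ * _ = _ * proj _ ⟨b, hbX⟩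
        rw [show proj _ (⟨b, hbX⟩ : centralizer ({y} : Set G)) = _ from hbk]
        simpa using h4.symm
    have h1 : d = 1 := eq_one_of_inverted (odd_orderOf_of_mem (odd_coreAt _) hdO)
      (conj_commutator_inverted hbb) (H36.GW.commute_core _ hbE _ ((mk_eq_one_iff _).1 hdK))
    exact mul_inv_eq_iff_eq_mul.1 (mul_inv_eq_one.1 h1)
  have hbF : ∀ r : ℕ, r.Prime → ∀ w ∈ pCoreIn r (coreAt (c ^ l)), Commute b w := by
    intro r hr w hw
    haveI := Fact.mk hr
    by_cases hrq : r = q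
    · subst hrq
      by_contra hne'
      obtain ⟨v, hv, hvo, hvb, hvy⟩ := h.exists_inverted_core hbb hbt hby
        ⟨w, hw, fun e1 => hne' e1.symm⟩
      have := eq_one_of_inverted (hvo ▸ h.odd_q) hvb (hbO v (pCoreAt_le _ _ hv) hvy)
      rw [this, orderOf_one] at hvo
      exact h.prime.ne_one hvo.symm
    · exact hbO w (pCoreAt_le _ _ hw) (h.commute_other hrq hw)
  have hbOall := commute_coreAt_of_fit hbb hbt hbF
  obtain ⟨g, hgE, hg, -⟩ := hLS.fuse_fixed (c ^ l) b htE hbE h.cfg.gen.z_order hbo hbne hbt.symm ⊥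
    bot_le (by rw [Subgroup.card_bot]; exact odd_one) (fun z hz => by
      rw [(mem_bot (G := G)).1 hz]; exact ⟨Commute.one_left _, Commute.one_left _⟩)
  have key : ∀ {g : G} {d : G}, Fuses g (c ^ l) d → d * d = 1 →
      (∀ v ∈ coreAt (c ^ l), Commute d v) → ∀ v ∈ coreAt (c ^ l), g * v * g⁻¹ ∈ coreAt (c ^ l) := by
    intro g d hf hdd hd v hv
    have h1 : Commute (g * v * g⁻¹) d := by
      have := (commute_of_mem_coreAt hv).symm.map (MulAut.conj g).toMonoidHom
      simp only [MulEquiv.coe_toMonoidHom, MulAut.conj_apply, hf.1] at this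
      exact this
    have h2 : Commute (g * v * g⁻¹) (c ^ l * d) := by
      have := (hd v hv).symm.map (MulAut.conj g).toMonoidHom
      simp only [MulEquiv.coe_toMonoidHom, MulAut.conj_apply, hf.2] at this
      exact this
    have h3 : Commute (g * v * g⁻¹) (c ^ l) := by
      have := h2.mul_right h1
      rwa [mul_assoc (c ^ l), hdd, mul_one] at this
    refine mem_coreAt_of_odd h.cfg h3 ?_
    rw [← MulAut.conj_apply, MulEquiv.orderOf_eq]
    exact odd_orderOf_of_mem (odd_coreAt _) hv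
  have hgN : g ∈ normalizer (coreAt (c ^ l) : Set G) := by
    refine mem_normalizer_iff.2 fun v => ⟨key hg hbb hbOall v, fun hv => ?_⟩
    have h2 : ∀ v ∈ coreAt (c ^ l), Commute (c ^ l * b) v := fun v hv =>
      (commute_of_mem_coreAt hv).mul_left (hbOall v hv)
    have := key (fuses_inv hg h.tt hbt.symm) (by
      rw [mul_assoc, ← mul_assoc b, hbt.eq, mul_assoc, hbb, mul_one, h.tt]) h2 _ hv
    simpa [mul_assoc] using this
  have hgt : Commute g (c ^ l) := mem_centralizer_singleton_iff.1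
    (normalizer_le h.cfg h.max (fun e1 => h.y_ne ((mem_bot (G := G)).1 (e1 ▸ h.memO)))
      (coreAt_le _) (centralizer_le_normalizer_coreAt _) hgN)
  exact hbne (by rw [← hg.1, hgt.eq, mul_inv_cancel_right])

end Cfsg.Agent.H62.GW
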