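import Cfsg.Agent.H62.GW.Quot

/-!
# GW programme, M1: the centraliser of an element of `D ∩ F(O)` of prime order

`y` has order `q` and lies in `D ∩ O_q(O)`, `s` moves `O_q(O)`, `X = C(y)`.  The odd part of
`F(X)` is centralised or inverted by `t`, and `X` contains `q`-elements inverted by `t` and
centralised by `s`, resp. `t s`; these centralise no layer, so `X` has components.
-/

set_option autoImplicit false
set_option linter.unusedSectionVars false
set_option linter.style.haveILetI false

namespace Cfsg.Agent.H62.GW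

open Subgroup Cfsg.Agent
open Cfsg.Agent.GW (Cfg coreAt coreIn pairCore CentMax Fuses LayerStep LayerShape)
open Cfsg.Agent.Components (pCoreIn fitIn layerIn)

universe u

variable {G : Type u} [Group G] [Finite G] {S : Sylow 2 G} {l : ℕ} {c s : G} {q : ℕ} {y : G}

/-- An element of prime order of `D ∩ O_q(O)` in the maximal centraliser case. -/
structure Centred (S : Sylow 2 G) (l : ℕ) (c s : G) (q : ℕ) (y : G) : Prop where
  cfg : Cfg S l c s
  max : CentMax l c
  prime : q.Prime
  memF : y ∈ pCoreIn q (coreAt (c ^ l))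
  order : orderOf y = q

variable (h : Centred S l c s q y)
include h

theorem Centred.tt : c ^ l * c ^ l = 1 := H39.mul_self_of_orderOf_eq_two h.cfg.gen.z_order

theorem Centred.t_inv : (c ^ l)⁻¹ = c ^ l := inv_eq_of_mul_eq_one_right h.tt

theorem Centred.t_ne : c ^ l ≠ 1 := H39.ne_one_of_orderOf_eq_two h.cfg.gen.z_order

theorem Centred.memO : y ∈ coreAt (c ^ l) := pCoreAt_le _ _ h.memF

theorem Centred.t_y : Commute (c ^ l) y := commute_of_mem_coreAt h.memO

theorem Centred.q_ne : q ≠ 2 := prime_ne_two_of_mem h.memO h.order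

theorem Centred.y_ne : y ≠ 1 := fun e => h.prime.ne_one (by rw [← h.order, e, orderOf_one])

theorem Centred.core_ne : pCoreIn q (coreAt (c ^ l)) ≠ ⊥ := fun e =>
  h.y_ne ((mem_bot (G := G)).1 (e ▸ h.memF))

theorem Centred.t_mem : c ^ l ∈ centralizer ({y} : Set G) :=
  mem_centralizer_singleton_iff.2 h.t_y.eq

theorem Centred.proper : centralizer ({y} : Set G) ≠ ⊤ :=
  centralizer_singleton_ne_top h.cfg h.y_ne

theorem Centred.odd_q : Odd q := h.prime.odd_of_ne_two h.q_ne

theorem Centred.y_pow : y ^ q ^ 1 = 1 := by rw [pow_one, ← h.order, pow_orderOf_eq_one]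

/-- `O_r(O) ≤ C(y)` for `r ≠ q`. -/
theorem Centred.commute_other {r : ℕ} [Fact r.Prime] (hr : r ≠ q) {w : G}
    (hw : w ∈ pCoreIn r (coreAt (c ^ l))) : Commute w y := by
  haveI := Fact.mk h.prime
  exact H77.GW.commute_cross hr hw (pCoreAt_le _ _ hw) h.memF h.memO

/-- `[O_r(X), t] = 1` for `r ∈ π(F(O))`. -/
theorem Centred.commute_t {r : ℕ} [Fact r.Prime] (hr : pCoreIn r (coreAt (c ^ l)) ≠ ⊥) :
    ∀ v ∈ pCoreIn r (centralizer ({y} : Set G)), Commute (c ^ l) v := by
  haveI := Fact.mk h.prime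
  set X := centralizer ({y} : Set G) with hX
  set B := pCoreIn r (coreAt (c ^ l)) ⊓ X with hB
  have hZB : centreCore r (c ^ l) ≤ B := by
    rintro z ⟨hz, hzc⟩
    refine ⟨hz, mem_centralizer_singleton_iff.2 ?_⟩
    by_cases hrq : r = q
    · subst hrq
      exact (hzc y h.memF).symm
    · exact (h.commute_other hrq hz).eq
  have hr2 : r ≠ 2 := fun e => hr (e ▸ pCoreIn_two_eq_bot _)
  have hcop : (Nat.card (zpowers (c ^ l))).Coprime r := by
    rw [Nat.card_zpowers, h.cfg.gen.z_order]
    exact (Nat.coprime_primes Nat.prime_two Fact.out).2 (Ne.symm hr2)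
  have hle : zpowers (c ^ l) ≤ centralizer (pCoreIn r X : Set G) := by
    refine Coprime.thompson_AxB ((Components.isPGroup_pCoreIn _).to_le inf_le_left : IsPGroup r B)
      hcop (fun b hb => mem_centralizer_iff.2 fun z hz => ?_) _ (Components.isPGroup_pCoreIn _)
      (inf_le_right.trans (H77.GW.le_normalizer_pCoreIn X))
      ((zpowers_le.2 h.t_mem).trans (H77.GW.le_normalizer_pCoreIn X)) ?_
    · obtain ⟨i, rfl⟩ := mem_zpowers_iff.1 hz
      exact ((commute_of_mem_coreAt (pCoreAt_le _ _ hb.1)).zpow_left i).eq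
    · rintro v ⟨-, hv⟩
      have h1 : v ∈ centralizer ({c ^ l} : Set G) :=
        centralizer_centreCore_le h.cfg h.max hr fun b hb => hv b (hZB hb)
      refine mem_centralizer_iff.2 fun z hz => ?_
      obtain ⟨i, rfl⟩ := mem_zpowers_iff.1 hz
      exact ((show Commute (c ^ l) v from (mem_centralizer_singleton_iff.1 h1).symm).zpow_left i).eq
  intro v hv
  exact (mem_centralizer_iff.1 (hle (mem_zpowers _)) v hv).symm

/-- `t` inverts `O_r(X)` for odd `r ∉ π(F(O))`. -/
theorem Centred.inverted {r : ℕ} [Fact r.Prime] (hr2 : r ≠ 2)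
    (hr : pCoreIn r (coreAt (c ^ l)) = ⊥) :
    ∀ v ∈ pCoreIn r (centralizer ({y} : Set G)),
      c ^ l * v * (c ^ l)⁻¹ = v⁻¹ := by
  haveI := Fact.mk h.prime
  set X := centralizer ({y} : Set G) with hX
  have hrq : r ≠ q := fun e => h.core_ne (e ▸ hr)
  refine H77.GW.inverts_of_fpf h.tt (H77.GW.le_normalizer_pCoreIn X h.t_mem) fun v hv htv => ?_
  obtain ⟨k, hk⟩ := (Components.isPGroup_pCoreIn (p := r) X) ⟨v, hv⟩
  have hvk : v ^ r ^ k = 1 := congrArg Subtype.val hk
  have hdvd : orderOf v ∣ r ^ k := orderOf_dvd_of_pow_eq_one hvk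
  have hvO : v ∈ coreAt (c ^ l) := mem_coreAt_of_odd h.cfg htv.symm
    ((((Fact.out : r.Prime).odd_of_ne_two hr2).pow).of_dvd_nat hdvd)
  have hvX : v ∈ X := H77.GW.pCoreIn_le_self X hv
  have hvy : Commute v y := mem_centralizer_singleton_iff.1 hvX
  have hF : ∀ p : ℕ, p.Prime → ∀ w ∈ pCoreIn p (coreAt (c ^ l)), Commute v w := by
    intro p hp w hw
    haveI := Fact.mk hp
    by_cases hpr : p = r
    · subst hpr
      rw [hr] at hw
      rw [(mem_bot (G := G)).1 hw]
      exact Commute.one_right v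
    by_cases hpq : p = q
    · subst hpq
      have hle : zpowers v ≤ centralizer (pCoreIn p (coreAt (c ^ l)) : Set G) := by
        refine Coprime.thompson_AxB
          (IsPGroup.of_card (n := 1) (by rw [Nat.card_zpowers, h.order, pow_one]) :
            IsPGroup p (zpowers y))
          ?_ (zpowers_le.2 (mem_centralizer_iff.2 fun z hz => ?_)) _ (Components.isPGroup_pCoreIn _)
          (zpowers_le.2 (centralizer_le_normalizer_pCoreAt _ p (coreAt_le _ h.memO)))
          (zpowers_le.2 (centralizer_le_normalizer_pCoreAt _ p (coreAt_le _ hvO))) ?_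
        · rw [Nat.card_zpowers]
          exact Nat.Coprime.coprime_dvd_left hdvd
            (((Nat.coprime_primes Fact.out hp).2 (Ne.symm hpr)).pow_left k)
        · obtain ⟨i, rfl⟩ := mem_zpowers_iff.1 hz
          exact (hvy.zpow_left i).eq
        · rintro u ⟨hu, huy⟩
          refine mem_centralizer_iff.2 fun z hz => ?_
          obtain ⟨i, rfl⟩ := mem_zpowers_iff.1 hz
          have huX : u ∈ X :=
            mem_centralizer_singleton_iff.2 (mem_centralizer_iff.1 huy y (mem_zpowers y)).symm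
          exact ((H77.GW.commute_cross (Ne.symm hpr) hv hvO hu huX).zpow_left i).eq
      exact (mem_centralizer_iff.1 (hle (mem_zpowers v)) w hw).symm
    · exact H77.GW.commute_cross (Ne.symm hpr) hv hvO hw
        (mem_centralizer_singleton_iff.2 (h.commute_other hpq hw).eq)
  have hvF := mem_pCoreIn_of_fitIn (p := r) (mem_fitIn_of_commute hvO hF) hvk
  rw [hr] at hvF
  exact (mem_bot (G := G)).1 hvF

/-- A `q`-element of `X` inverted by `t` and fixed by an involution of `C(t) ∩ X` centralises no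
layer. -/
theorem Centred.not_centralizes_layer {a x : G} (hao : orderOf a = 2)
    (hay : Commute a y) (hxo : orderOf x = q) (hxy : Commute x y)
    (hxt : c ^ l * x * (c ^ l)⁻¹ = x⁻¹) (hxa : Commute x a)
    (hE : ∀ e ∈ layerIn (centralizer ({y} : Set G)), Commute x e) : False := by
  haveI := Fact.mk h.prime
  set X := centralizer ({y} : Set G) with hX
  have hxX : x ∈ X := mem_centralizer_singleton_iff.2 hxy.eq
  have haX : a ∈ X := mem_centralizer_singleton_iff.2 hay.eq
  have hxodd : Odd (orderOf x) := hxo ▸ h.odd_q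
  have hF : ∀ r : ℕ, r.Prime → ∀ w ∈ pCoreIn r X, Commute x w := by
    intro r hr w hw
    haveI := Fact.mk hr
    have hw' : x⁻¹ * w * x ∈ pCoreIn r X :=
      Coprime.conj_mem' (H77.GW.le_normalizer_pCoreIn X hxX) hw
    have hw'' : x * w * x⁻¹ ∈ pCoreIn r X :=
      Coprime.conj_mem (H77.GW.le_normalizer_pCoreIn X hxX) hw
    have htw : c ^ l * (x * w * x⁻¹) * (c ^ l)⁻¹ =
        x⁻¹ * (c ^ l * w * (c ^ l)⁻¹) * x := by
      rw [show c ^ l * (x * w * x⁻¹) * (c ^ l)⁻¹ =
        (c ^ l * x * (c ^ l)⁻¹) * (c ^ l * w * (c ^ l)⁻¹) * (c ^ l * x * (c ^ l)⁻¹)⁻¹ by group,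
        hxt, inv_inv]
    by_cases hr2 : r = 2
    · subst hr2
      set U := pCoreIn 2 X with hU
      have hUp : IsPGroup 2 U := Components.isPGroup_pCoreIn X
      have hSD := H36.GW.sylowDType_of_dGen h.cfg.gen
      have hxU : x ∈ normalizer (U : Set G) := H77.GW.le_normalizer_pCoreIn X hxX
      by_cases hK : IsKleinFour ↥U
      · have hU1 : U ≠ ⊥ := fun e => by
          have := hK.card_four
          rw [e, Subgroup.card_bot] at this
          omega
        obtain ⟨v, ⟨hvU, hva⟩, hv1⟩ : ∃ v ∈ U ⊓ centralizer (zpowers a : Set G), v ≠ 1 := by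
          refine (Subgroup.bot_or_exists_ne_one _).resolve_left ?_
          exact H77.GW.inf_centralizer_ne_bot (q := 2)
            (IsPGroup.of_card (n := 1) (by rw [Nat.card_zpowers, hao, pow_one]))
            hUp (zpowers_le.2 (H77.GW.le_normalizer_pCoreIn X haX)) hU1
        have hav : Commute a v := mem_centralizer_iff.1 hva a (mem_zpowers a)
        by_cases hxv : Commute x v
        · exact commute_klein_of_fixes hK hxU hxodd hvU hv1 hxv w hw
        have hv' : x * v * x⁻¹ ∈ U := Coprime.conj_mem hxU hvU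
        have hav' : Commute a (x * v * x⁻¹) :=
          (hxa.symm.mul_right hav).mul_right hxa.symm.inv_right
        have hmul : ∀ z ∈ U, z * z = 1 := fun z hz => H39.klein_mul_self hK hz
        obtain ⟨V, hV, hVs⟩ := H4.GW.exists_klein (hmul v hvU) (hmul _ hv')
          (H39.commute_of_klein hK hvU hv') hv1 (fun e => hv1 (conj_eq_one_iff.1 e))
          (fun e => hxv (mul_inv_eq_iff_eq_mul.1 e.symm))
        have hVU : V = U := H39.klein_eq_of_le hV hK fun z hz => by
          rcases (hVs ▸ (SetLike.mem_coe.2 hz) :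
            z ∈ ({1, v, x * v * x⁻¹, v * (x * v * x⁻¹)} : Set G)) with rfl | rfl | rfl | rfl
          exacts [one_mem _, hvU, hv', mul_mem hvU hv']
        have haU' : ∀ z ∈ U, Commute a z := fun z hz => by
          rcases (hVs ▸ (hVU.symm ▸ hz : z ∈ V) :
            z ∈ ({1, v, x * v * x⁻¹, v * (x * v * x⁻¹)} : Set G)) with rfl | rfl | rfl | rfl
          exacts [Commute.one_right a, hav, hav', hav.mul_right hav']
        have haU : a ∈ U := by
          by_contra haU
          refine H39.ne_one_of_orderOf_eq_two hao (H63.GW.eq_one_of_centralizes_four hSD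
            (L := U) (C := zpowers a) ?_ (fun z hz b hb => ?_) hK le_rfl (mem_zpowers a)
            (H39.mul_self_of_orderOf_eq_two hao))
          · rw [Subgroup.disjoint_def]
            intro z hz hza
            rcases H5.EvenCyclic.eq_one_or_eq_of_mem_zpowers hao hza with e | e
            · exact e
            · exact absurd (e ▸ hz) haU
          · obtain ⟨i, rfl⟩ := mem_zpowers_iff.1 hb
            exact (haU' z hz).symm.zpow_right i
        exact commute_klein_of_fixes hK hxU hxodd haU (H39.ne_one_of_orderOf_eq_two hao) hxa w hw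
      · exact (mem_centralizer_iff.1 (H63.GW.mem_centralizer_of_odd hSD hUp hK hxU
          (Nat.coprime_two_right.2 hxodd)) w hw).symm
    · refine commute_of_sq hxodd (mul_inv_eq_iff_eq_mul.1 ?_)
      by_cases hrO : pCoreIn r (coreAt (c ^ l)) = ⊥
      · have h1 := h.inverted hr2 hrO _ hw''
        rw [htw, h.inverted hr2 hrO _ hw] at h1
        have h2 : x⁻¹ * w * x = x * w * x⁻¹ := by
          calc x⁻¹ * w * x = (x⁻¹ * w⁻¹ * x)⁻¹ := by group
            _ = (x * w * x⁻¹)⁻¹⁻¹ := by rw [h1]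
            _ = _ := inv_inv _
        calc x * x * w * (x * x)⁻¹ = x * (x * w * x⁻¹) * x⁻¹ := by group
          _ = x * (x⁻¹ * w * x) * x⁻¹ := by rw [h2]
          _ = w := by group
      · have ht1 : c ^ l * w * (c ^ l)⁻¹ = w := by
          rw [(h.commute_t hrO _ hw).eq, mul_inv_cancel_right]
        have ht2 : c ^ l * (x * w * x⁻¹) * (c ^ l)⁻¹ = x * w * x⁻¹ := by
          rw [(h.commute_t hrO _ hw'').eq, mul_inv_cancel_right]
        rw [htw, ht1] at ht2
        calc x * x * w * (x * x)⁻¹ = x * (x * w * x⁻¹) * x⁻¹ := by group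
          _ = x * (x⁻¹ * w * x) * x⁻¹ := by rw [← ht2]
          _ = w := by group
  -- inside `X`
  set x' : ↥X := ⟨x, hxX⟩ with hx'
  have hxE : Cfsg.layer ↥X ≤ centralizer {x'} := fun e he => mem_centralizer_singleton_iff.2
    (Subtype.ext (hE _ ⟨e, he, rfl⟩).eq.symm)
  have hxF : Cfsg.fittingSubgroup ↥X ≤ centralizer {x'} := by
    rw [Components.fitting_eq_iSup_pCore]
    exact iSup_le fun p => fun w hw => mem_centralizer_singleton_iff.2
      (Subtype.ext (hF p (Nat.prime_of_mem_primeFactors p.2) _ ⟨w, hw, rfl⟩).eq.symm)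
  have hxC : x' ∈ Cfsg.generalizedFittingSubgroup ↥X := Components.centralizer_genFitting_le
    (mem_centralizer_iff.2 fun z hz => mem_centralizer_singleton_iff.1
      ((sup_le hxE hxF : Cfsg.generalizedFittingSubgroup ↥X ≤ centralizer {x'}) hz))
  obtain ⟨e, he, f, hf, hef⟩ := mem_sup_of_normal_left.1
    (hxC : x' ∈ Cfsg.layer ↥X ⊔ Cfsg.fittingSubgroup ↥X)
  have heF : e ∈ Cfsg.fittingSubgroup ↥X := by
    have h1 : e ∈ (Subgroup.center (Cfsg.layer ↥X)).map (Cfsg.layer ↥X).subtype := by
      refine (Components.mem_center_map_iff _ e).2 ⟨he, fun z hz => ?_⟩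
      have h2 : Commute z f :=
        Components.commute_of_commutator_eq_bot Components.layer_commutator_fitting hz hf
      have h3 : Commute z x' := mem_centralizer_singleton_iff.1 (hxE hz)
      have h4 : e = x' * f⁻¹ := by rw [← hef, mul_inv_cancel_right]
      rw [h4]
      exact (h3.mul_right h2.inv_right).eq
    rw [Components.center_layer_eq_fitting_inf] at h1
    exact h1.1
  have hxfit : x ∈ fitIn X := ⟨x', hef ▸ mul_mem heF hf, rfl⟩
  have hxp : x ∈ pCoreIn q X :=
    mem_pCoreIn_of_fitIn hxfit (k := 1) (by rw [pow_one, ← hxo, pow_orderOf_eq_one])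
  have h1 := eq_one_of_inverted hxodd hxt (h.commute_t h.core_ne _ hxp)
  rw [h1, orderOf_one] at hxo
  exact h.prime.ne_one hxo.symm

/-- An element of order `q` inverted by `t`, fixed by `t b` and commuting with `y`. -/
theorem Centred.exists_inverted {b g : G} (hbb : b * b = 1) (hbt : Commute b (c ^ l))
    (hyb : Commute b y) (hg : Fuses g (c ^ l) b)
    (hne : ∃ v ∈ pCoreIn q (coreAt (c ^ l)), ¬ Commute v b) :
    ∃ x : G, orderOf x = q ∧ Commute x y ∧ c ^ l * x * (c ^ l)⁻¹ = x⁻¹ ∧
      Commute x (c ^ l * b) := by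
  haveI := Fact.mk h.prime
  set t := c ^ l with ht
  obtain ⟨hp1, hp2⟩ := Fuses.preimage hg h.tt hbt.symm
  set y' := g * y * g⁻¹ with hy'
  have hy'o : orderOf y' = q := by
    rw [hy', ← MulAut.conj_apply, MulEquiv.orderOf_eq]; exact h.order
  have hconj : ∀ {a : G}, Commute y a → Commute y' (g * a * g⁻¹) := fun {a} ha =>
    ha.map (MulAut.conj g).toMonoidHom
  have hy'b : Commute y' b := by
    have := hconj h.t_y.symm
    rwa [hg.1] at this
  have hy'tb : Commute y' (t * b) := by
    have := hconj hyb.symm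
    rwa [hg.2] at this
  have hy't : Commute y' t := by
    have := hy'tb.mul_right hy'b
    rwa [mul_assoc, hbb, mul_one] at this
  have hy'O : y' ∈ coreAt t := mem_coreAt_of_odd h.cfg hy't (hy'o ▸ h.odd_q)
  have hN := centralizer_le_normalizer_pCoreAt t q
  obtain ⟨v, hv, hvo, hvb, hvy⟩ := exists_inverted_fixed h.q_ne
    (Components.isPGroup_pCoreIn (coreAt t)) hbb (hN (mem_centralizer_singleton_iff.2 hbt.eq))
    (hN (coreAt_le t hy'O)) (k := 1) (by rw [pow_one, ← hy'o, pow_orderOf_eq_one]) hy'b.symm hne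
  refine ⟨g⁻¹ * v * g, ?_, ?_, ?_, ?_⟩
  · rw [show g⁻¹ * v * g = MulAut.conj g⁻¹ v by simp, MulEquiv.orderOf_eq]; exact hvo
  · have h1 := hvy.map (MulAut.conj g⁻¹).toMonoidHom
    simp only [MulEquiv.coe_toMonoidHom, MulAut.conj_apply, inv_inv] at h1
    have e : g⁻¹ * y' * g = y := by rw [hy']; group
    rwa [e] at h1
  · calc t * (g⁻¹ * v * g) * t⁻¹ = (g⁻¹ * b * g) * (g⁻¹ * v * g) * (g⁻¹ * b * g)⁻¹ := by rw [hp2]
      _ = g⁻¹ * (b * v * b⁻¹) * g := by group
      _ = (g⁻¹ * v * g)⁻¹ := by rw [hvb]; group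
  · have h1 := (commute_of_mem_coreAt (pCoreAt_le t q hv)).symm.map (MulAut.conj g⁻¹).toMonoidHom
    simp only [MulEquiv.coe_toMonoidHom, MulAut.conj_apply, inv_inv] at h1
    rwa [hp1] at h1

/-- An element of order `q` of `O_q(O) ∩ C(y)` inverted by `b`. -/
theorem Centred.exists_inverted_core {b : G} (hbb : b * b = 1) (hbt : Commute b (c ^ l))
    (hyb : Commute b y) (hne : ∃ v ∈ pCoreIn q (coreAt (c ^ l)), ¬ Commute v b) :
    ∃ v ∈ pCoreIn q (coreAt (c ^ l)), orderOf v = q ∧ b * v * b⁻¹ = v⁻¹ ∧ Commute v y := by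
  haveI := Fact.mk h.prime
  exact exists_inverted_fixed h.q_ne (Components.isPGroup_pCoreIn _) hbb
    (centralizer_le_normalizer_pCoreAt _ q (mem_centralizer_singleton_iff.2 hbt.eq))
    (centralizer_le_normalizer_pCoreAt _ q (coreAt_le _ h.memO)) h.y_pow hyb hne

end Cfsg.Agent.H62.GW
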