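import Cfsg.Agent.H62.GW.MixedCore

/-!
# GW programme, M3: the data of the mixed case

With one point `y` all elements of `E = F(O) ∩ C(s)` share one layer `L`, and `MixedData` holds.
-/

set_option autoImplicit false
set_option linter.unusedSectionVars false
set_option linter.style.haveILetI false

namespace Cfsg.Agent.H62.GW

open Subgroup Cfsg.Agent
open Cfsg.Agent.GW (Cfg coreAt coreIn pairCore CentMax Fuses LayerStep LayerShape)
open Cfsg.Agent.Components (pCoreIn fitIn layerIn)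
open Cfsg.Agent.H56 (PSLn)

universe u

variable {G : Type u} [Group G] [Finite G] {S : Sylow 2 G} {l : ℕ} {c s : G}

theorem centralizer_le_normalizer_fit (t : G) :
    centralizer ({t} : Set G) ≤ normalizer (fitIn (coreAt t) : Set G) :=
  (centralizer_le_normalizer_coreAt t).trans (by
    intro g hg
    refine mem_normalizer_fintype ?_
    rintro _ ⟨v, hv, rfl⟩
    let φ : ↥(coreAt t) ≃* ↥(coreAt t) := normalizerMonoidHom (H := coreAt t) ⟨g, hg⟩
    haveI : (Cfsg.fittingSubgroup ↥(coreAt t)).Characteristic := inferInstance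
    refine ⟨φ v, ?_, rfl⟩
    have := (Subgroup.characteristic_iff_map_eq.1
      (inferInstance : (Cfsg.fittingSubgroup ↥(coreAt t)).Characteristic) φ)
    exact this.le (mem_map_of_mem _ hv))

theorem isNilpotent_fitIn (A : Subgroup G) : Group.IsNilpotent ↥(fitIn A) := by
  haveI := Cores.fittingSubgroup_isNilpotent (G := ↥A)
  exact Group.nilpotent_of_mulEquiv
    ((Cfsg.fittingSubgroup ↥A).equivMapOfInjective _ A.subtype_injective)

theorem pCoreIn_le_fitIn (r : ℕ) [Fact r.Prime] (A : Subgroup G) : pCoreIn r A ≤ fitIn A :=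
  Subgroup.map_mono (Cores.pCore_le_fittingSubgroup (p := r) (G := ↥A) Fact.out)

theorem conj_mem_fit {t h v : G} (hh : h ∈ centralizer ({t} : Set G)) (hv : v ∈ fitIn (coreAt t)) :
    h * v * h⁻¹ ∈ fitIn (coreAt t) :=
  Coprime.conj_mem (centralizer_le_normalizer_fit t hh) hv

/-- A power of prime order. -/
theorem exists_prime_power {x : G} (hx : x ≠ 1) :
    ∃ n : ℕ, (orderOf (x ^ n)).Prime := by
  obtain ⟨r, hr, hrn⟩ := Nat.exists_prime_and_dvd
    (show orderOf x ≠ 1 from fun h => hx (orderOf_eq_one_iff.1 h))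
  have h0 := orderOf_pos x
  exact ⟨orderOf x / r, by
    rwa [orderOf_pow_of_dvd (Nat.div_pos (Nat.le_of_dvd h0 hrn) hr.pos).ne'
      (Nat.div_dvd_of_dvd hrn), Nat.div_div_self hrn h0.ne']⟩

/-- The hypotheses under which `MixedData` is built: a point and its propagation. -/
structure MixBase (S : Sylow 2 G) (l : ℕ) (c s y₀ : G) : Prop where
  pt : MixPt S l c s y₀
  all : ∀ e ∈ fixPart (c ^ l) s, (orderOf e).Prime → MixPt S l c s e
  central : ∀ e ∈ fixPart (c ^ l) s, Commute e y₀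

variable {y₀ : G} (B : MixBase S l c s y₀)
include B

set_option quotPrecheck false in
local notation "T₀" => torusPart (c ^ l) (layerIn (centralizer ({y₀} : Set G)))
set_option quotPrecheck false in
local notation "L₀" => layerIn (centralizer ({y₀} : Set G))

theorem MixBase.layer_eq {e : G} (he : e ∈ fixPart (c ^ l) s) (hp : (orderOf e).Prime) :
    layerIn (centralizer ({e} : Set G)) = L₀ :=
  le_antisymm ((B.all e he hp).layer_le B.pt (B.central e he))
    (B.pt.layer_le (B.all e he hp) (B.central e he).symm)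

theorem MixBase.commute_fix {x e : G} (hx : x ∈ L₀) (he : e ∈ fixPart (c ^ l) s) : Commute x e :=
  H36.GW.commute_core _ hx _ (B.pt.mem_core he (B.central e he))

theorem MixBase.not_normal :
    ¬ centralizer ({c ^ l} : Set G) ≤ normalizer (fixPart (c ^ l) s : Set G) := by
  intro h
  have hne : fixPart (c ^ l) s ≠ ⊥ := fun e =>
    B.pt.ne_one ((mem_bot (G := G)).1 (e ▸ B.pt.mem))
  have hle := normalizer_le B.pt.cfg B.pt.cmax hne
    ((fixPart_le_core _ _).trans (coreAt_le _)) h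
  obtain ⟨g, hg, hgf⟩ := B.pt.fused.2.2.2.1
  have hgt : Commute g (c ^ l) := mem_centralizer_singleton_iff.1 (hle (mem_normalizer_fintype
    fun e he => by
      show g * e * g⁻¹ ∈ fixPart (c ^ l) s
      rw [(B.commute_fix hg he).eq, mul_inv_cancel_right]
      exact he))
  refine B.pt.cfg.gen.out ?_
  rw [← hgf.1, hgt.eq, mul_inv_cancel_right]
  exact Subgroup.pow_mem _ (mem_zpowers c) l

theorem MixBase.layer_norm_of {h e : G} (_hh : h ∈ centralizer ({c ^ l} : Set G))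
    (he : e ∈ fixPart (c ^ l) s) (he1 : e ≠ 1) (hhe : h * e * h⁻¹ ∈ fixPart (c ^ l) s) :
    h ∈ normalizer (L₀ : Set G) := by
  obtain ⟨n, hn⟩ := exists_prime_power he1
  have he' : e ^ n ∈ fixPart (c ^ l) s := pow_mem he n
  have hhe' : h * e ^ n * h⁻¹ ∈ fixPart (c ^ l) s := by rw [← conj_pow]; exact pow_mem hhe n
  have hp' : (orderOf (h * e ^ n * h⁻¹)).Prime := by
    rwa [← MulAut.conj_apply, MulEquiv.orderOf_eq]
  have hle : (L₀).map (MulAut.conj h).toMonoidHom ≤ L₀ := by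
    conv_rhs => rw [← B.layer_eq hhe' hp']
    refine (B.all _ hhe' hp').perfect_le ?_ ?_
    · rintro _ ⟨x, hx, rfl⟩
      refine mem_centralizer_singleton_iff.2 ?_
      exact ((Commute.conj_iff h).2 (B.commute_fix hx he')).eq
    · rw [← Subgroup.map_commutator]
      congr 1
      rw [show L₀ = (Cfsg.layer _).map (centralizer ({y₀} : Set G)).subtype from rfl,
        ← Subgroup.map_commutator, Components.layer_perfect]
  exact mem_normalizer_fintype fun x hx => hle ⟨x, hx, rfl⟩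

theorem MixBase.ti {h e : G} (hh : h ∈ centralizer ({c ^ l} : Set G))
    (he : e ∈ fixPart (c ^ l) s) (he1 : e ≠ 1) (hhe : h * e * h⁻¹ ∈ fixPart (c ^ l) s) :
    h ∈ normalizer (fixPart (c ^ l) s : Set G) := by
  have hn := B.layer_norm_of hh he he1 hhe
  refine mem_normalizer_fintype fun f hf => ⟨conj_mem_fit hh hf.1, ?_⟩
  refine mem_centralizer_singleton_iff.2 ?_
  have hs' : h⁻¹ * s * h ∈ L₀ := Coprime.conj_mem' hn B.pt.fused.2.2.1
  have h1 := (Commute.conj_iff h).2 (B.commute_fix hs' hf)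
  simp only [← mul_assoc, mul_inv_cancel, one_mul, mul_inv_cancel_right] at h1
  exact h1.symm.eq

theorem MixBase.mem_torus {v e : G} (hv : v ∈ coreAt (c ^ l)) (hsv : s * v * s⁻¹ = v⁻¹)
    (he : e ∈ fixPart (c ^ l) s) (he1 : e ≠ 1) (hve : Commute v e) : v ∈ T₀ := by
  obtain ⟨n, hn⟩ := exists_prime_power he1
  have := (B.all _ (pow_mem he n) hn).mem_torus hv (hve.pow_right n) hsv
  rwa [B.layer_eq (pow_mem he n) hn] at this

theorem MixBase.pair_norm :
    pairCore (c ^ l) s ≤ normalizer (fixPart (c ^ l) s : Set G) := fun d hd =>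
  mem_normalizer_fintype fun f hf => ⟨conj_mem_fit (coreAt_le _ hd.1) hf.1,
    mem_centralizer_singleton_iff.2
      (((show Commute d s from mem_centralizer_singleton_iff.1 hd.2).mul_left
        (commute_s_of_fix hf)).mul_left
        (show Commute d s from mem_centralizer_singleton_iff.1 hd.2).inv_left).eq⟩

theorem MixBase.exists_root {w : G} (hw : w ∈ coreAt (c ^ l)) (hsw : s * w * s⁻¹ = w⁻¹)
    {e : G} (he : e ∈ fixPart (c ^ l) s) (he1 : e ≠ 1) (hwe : Commute w e) :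
    ∃ k ∈ T₀, k * k = w ∧ k ∈ zpowers w := by
  obtain ⟨m, hm⟩ := sq_pow_self (odd_orderOf_of_mem (odd_coreAt _) hw)
  exact ⟨w ^ m, pow_mem (B.mem_torus hw hsw he he1 hwe) m,
    by rw [← (Commute.refl w).mul_pow, hm], pow_mem (mem_zpowers w) m⟩

theorem MixBase.ne_one_mem : ∃ e ∈ fixPart (c ^ l) s, e ≠ 1 := ⟨y₀, B.pt.mem, B.pt.ne_one⟩

theorem MixBase.split_aux {g : G} (hg : g ∈ coreAt (c ^ l))
    (hgE : g ∈ normalizer (fixPart (c ^ l) s : Set G)) :
    ∃ k ∈ T₀, ∃ d ∈ pairCore (c ^ l) s, g = k * d ∧ k ∈ zpowers (g * s * g⁻¹ * s) := by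
  have hss := H39.mul_self_of_orderOf_eq_two B.pt.cfg.gen.os
  have hsinv : s⁻¹ = s := inv_eq_of_mul_eq_one_right hss
  have hst : Commute s (c ^ l) := B.pt.cfg.gen.z_central B.pt.cfg.gen.mem_s
  set w := g * s * g⁻¹ * s with hw
  have hwO : w ∈ coreAt (c ^ l) := by
    rw [hw, show g * s * g⁻¹ * s = g * (s * g⁻¹ * s⁻¹) by rw [hsinv]; group]
    exact mul_mem hg (conj_mem_coreAt hst (inv_mem hg))
  have hsw : s * w * s⁻¹ = w⁻¹ := by
    rw [hw]; simp only [mul_inv_rev, inv_inv, hsinv, mul_assoc, hss, mul_one]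
  have hwe : Commute w y₀ := by
    have h1 : Commute (g⁻¹ * y₀ * g) s :=
      commute_s_of_fix (Coprime.conj_mem' hgE B.pt.mem)
    have h2 := (Commute.conj_iff g).2 h1
    simp only [← mul_assoc, mul_inv_cancel, one_mul, mul_inv_cancel_right] at h2
    exact h2.symm.mul_left (commute_s_of_fix B.pt.mem).symm
  obtain ⟨k, hk, hkk, hkw⟩ := B.exists_root hwO hsw B.pt.mem B.pt.ne_one hwe
  refine ⟨k, hk, k⁻¹ * g, mem_inf.2 ⟨mul_mem (inv_mem (mem_inf.1 hk).1) hg, ?_⟩,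
    by rw [mul_inv_cancel_left], hkw⟩
  refine mem_centralizer_singleton_iff.2 ?_
  have hsk : s * k = k⁻¹ * s := by
    rw [← B.pt.torus_inverted k hk, inv_mul_cancel_right]
  have e1 : g * s * g⁻¹ = k * k * s := by
    rw [hkk, hw, mul_assoc (g * s * g⁻¹), hss, mul_one]
  calc k⁻¹ * g * s = k⁻¹ * (g * s * g⁻¹) * g := by group
    _ = k⁻¹ * (k * k * s) * g := by rw [e1]
    _ = k * s * g := by group
    _ = s * (k⁻¹ * g) := by
      rw [show k * s = s * k⁻¹ from ?_, mul_assoc]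
      calc k * s = s * (s * k) * s := by rw [← mul_assoc s s, hss, one_mul]
        _ = s * k⁻¹ := by rw [hsk]; simp [mul_assoc, hss]

theorem MixBase.split {g : G} (hg : g ∈ coreAt (c ^ l))
    (hgE : g ∈ normalizer (fixPart (c ^ l) s : Set G)) :
    ∃ k ∈ T₀, ∃ d ∈ pairCore (c ^ l) s, g = k * d := by
  obtain ⟨k, hk, d, hd, he, -⟩ := B.split_aux hg hgE
  exact ⟨k, hk, d, hd, he⟩

theorem MixBase.fit_split_norm {v : G} (hv : v ∈ fitIn (coreAt (c ^ l)))
    (hvn : v ∈ normalizer (fixPart (c ^ l) s : Set G)) :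
    ∃ f ∈ fixPart (c ^ l) s, ∃ k ∈ T₀, k ∈ fitIn (coreAt (c ^ l)) ∧ v = f * k := by
  have hvO : v ∈ coreAt (c ^ l) := map_subtype_le _ hv
  obtain ⟨k, hk, d, hd, he, hkw⟩ := B.split_aux hvO hvn
  have hkF : k ∈ fitIn (coreAt (c ^ l)) := by
    refine (zpowers_le.2 ?_) hkw
    rw [show v * s * v⁻¹ * s = v * (s * v⁻¹ * s⁻¹) by
      rw [inv_eq_of_mul_eq_one_right (H39.mul_self_of_orderOf_eq_two B.pt.cfg.gen.os)]; group]
    exact mul_mem hv (conj_mem_fit (mem_centralizer_singleton_iff.2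
      (B.pt.cfg.gen.z_central B.pt.cfg.gen.mem_s)) (inv_mem hv))
  have hdE : d ∈ fixPart (c ^ l) s := mem_inf.2 ⟨by
    rw [show d = k⁻¹ * v by rw [he]; group]
    exact mul_mem (inv_mem hkF) hv, hd.2⟩
  exact ⟨d, hdE, k, hk, hkF, by rw [he, (B.commute_fix hk.2 hdE).eq]⟩

theorem MixBase.fit_split {v e : G} (hv : v ∈ fitIn (coreAt (c ^ l)))
    (he : e ∈ fixPart (c ^ l) s) (he1 : e ≠ 1) (hve : Commute v e) :
    ∃ f ∈ fixPart (c ^ l) s, ∃ k ∈ T₀, k ∈ fitIn (coreAt (c ^ l)) ∧ v = f * k :=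
  B.fit_split_norm hv (B.ti (coreAt_le _ (map_subtype_le _ hv)) he he1
    (by rw [hve.eq, mul_inv_cancel_right]; exact he))

theorem MixBase.inf_torus {x : G} (hx : x ∈ T₀) (hxs : Commute x s) : x = 1 :=
  eq_one_of_inverted (odd_orderOf_of_mem (odd_coreAt _) hx.1) (B.pt.torus_inverted x hx) hxs.symm

theorem MixBase.torus_prime {r : ℕ} (hr : r.Prime)
    (hd : r ∣ Nat.card ↥(fitIn (coreAt (c ^ l)))) :
    ∃ z ∈ pCoreIn r (coreAt (c ^ l)), z ∈ L₀ ∧ orderOf z = r := by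
  haveI := Fact.mk hr
  obtain ⟨w, hw⟩ := exists_prime_orderOf_dvd_card' r hd
  have hwo : orderOf (w : G) = r := by rw [Subgroup.orderOf_coe]; exact hw
  have hwP : (w : G) ∈ pCoreIn r (coreAt (c ^ l)) :=
    mem_pCoreIn_of_fitIn w.2 (k := 1) (by rw [pow_one, ← hwo, pow_orderOf_eq_one])
  have hne : pCoreIn r (coreAt (c ^ l)) ≠ ⊥ := fun h => hr.ne_one (by
    have h1 : (w : G) = 1 := (mem_bot (G := G)).1 (h ▸ hwP)
    rw [← hwo, h1, orderOf_one])
  obtain ⟨q, hq, hy, hyF, hmix⟩ := B.pt.mixed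
  haveI := Fact.mk hq
  by_cases hrq : r = q
  · subst hrq
    obtain ⟨z, hzL, hzF, hzo, -⟩ := B.pt.exists_inverted
    exact ⟨z, hy ▸ hzF, hzL, hzo.trans hy⟩
  have hr2 : r ≠ 2 := prime_ne_two_of_mem (pCoreAt_le _ _ hwP) hwo
  obtain ⟨g, hg⟩ := H61.GW.exists_fuses_left B.pt.cfg
  have hns : ∃ v ∈ pCoreIn r (coreAt (c ^ l)), ¬ Commute v s := by
    by_contra! hno
    exact no_centralised_prime B.pt.cfg B.pt.cmax layerStep' hg B.pt.mem_pair hyF hy hmix hne hno
  have hst : Commute s (c ^ l) := B.pt.cfg.gen.z_central B.pt.cfg.gen.mem_s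
  obtain ⟨z, hz, hzo, hsz, -⟩ := exists_inverted_fixed hr2 (Components.isPGroup_pCoreIn _)
    (H39.mul_self_of_orderOf_eq_two B.pt.cfg.gen.os)
    (centralizer_le_normalizer_pCoreAt _ r (mem_centralizer_singleton_iff.2 hst.eq))
    (y := 1) (one_mem _) (k := 0) (one_pow _) (Commute.one_right _) hns
  have hzy : Commute z y₀ :=
    (⟨B.pt.cfg, B.pt.cmax, hq, hyF, hy⟩ : Centred S l c s q y₀).commute_other hrq hz
  exact ⟨z, hz, (B.pt.mem_torus (pCoreAt_le _ _ hz) hzy hsz).2, hzo⟩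

theorem MixBase.fix_cyclic : IsCyclic ↥(fixPart (c ^ l) s) := by
  set E := fixPart (c ^ l) s with hE
  set F₁ := fitIn (coreAt (c ^ l)) with hF
  have hF1O : F₁ ≤ centralizer ({c ^ l} : Set G) := (map_subtype_le _).trans (coreAt_le _)
  -- a conjugate of `E` inside `E (T ∩ F)`
  obtain ⟨h, hh, hhn, hA⟩ : ∃ h ∈ centralizer ({c ^ l} : Set G),
      h ∉ normalizer (E : Set G) ∧ ∀ x ∈ E, h * x * h⁻¹ ∈ normalizer (E : Set G) := by
    by_cases hle : F₁ ≤ normalizer (E : Set G)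
    · obtain ⟨h, hh, hhn⟩ := SetLike.not_le_iff_exists.1 B.not_normal
      exact ⟨h, hh, hhn, fun x hx => hle (conj_mem_fit hh hx.1)⟩
    set N := F₁ ⊓ normalizer (E : Set G) with hN
    haveI := isNilpotent_fitIn (coreAt (c ^ l))
    have hlt : N.subgroupOf F₁ < ⊤ := by
      rw [lt_top_iff_ne_top, ne_eq, subgroupOf_eq_top]
      exact fun hh => hle (hh.trans inf_le_right)
    obtain ⟨i, hi, hiN⟩ :=
      SetLike.exists_of_lt (Group.normalizerCondition_of_isNilpotent (N.subgroupOf F₁) hlt)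
    refine ⟨i, hF1O i.2, fun hin => hiN (show (i : G) ∈ N from ⟨i.2, hin⟩), fun x hx => ?_⟩
    have hxN : (⟨x, hx.1⟩ : ↥F₁) ∈ N.subgroupOf F₁ :=
      show x ∈ N from ⟨hx.1, le_normalizer hx⟩
    exact ((mem_normalizer_iff.1 hi _).1 hxN : ((i * ⟨x, hx.1⟩ * i⁻¹ : ↥F₁) : G) ∈ N).2
  -- projection to the torus
  have hsplit : ∀ x : E, ∃ f ∈ E, ∃ k ∈ T₀, h * (x : G) * h⁻¹ = f * k := fun x => by
    obtain ⟨f, hf, k, hk, -, he⟩ := B.fit_split_norm (conj_mem_fit hh x.2.1) (hA x x.2)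
    exact ⟨f, hf, k, hk, he⟩
  choose f hf k hk he using hsplit
  have huniq : ∀ {f₁ f₂ k₁ k₂ : G}, f₁ ∈ E → f₂ ∈ E → k₁ ∈ T₀ → k₂ ∈ T₀ →
      f₁ * k₁ = f₂ * k₂ → k₁ = k₂ := by
    intro f₁ f₂ k₁ k₂ hf₁ hf₂ hk₁ hk₂ e
    have h1 : k₁ * k₂⁻¹ = f₁⁻¹ * f₂ := by
      calc k₁ * k₂⁻¹ = f₁⁻¹ * (f₁ * k₁) * k₂⁻¹ := by group
        _ = f₁⁻¹ * f₂ := by rw [e]; group
    exact mul_inv_eq_one.1 (B.inf_torus (mul_mem hk₁ (inv_mem hk₂))
      (h1 ▸ commute_s_of_fix (mul_mem (inv_mem hf₁) hf₂)))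
  let ρ : E →* T₀ := MonoidHom.mk' (fun x => ⟨k x, hk x⟩) fun a b => Subtype.ext <| by
    show k (a * b) = k a * k b
    refine huniq (hf (a * b)) (mul_mem (hf a) (hf b)) (hk (a * b)) (mul_mem (hk a) (hk b)) ?_
    calc f (a * b) * k (a * b) = h * (a : G) * h⁻¹ * (h * (b : G) * h⁻¹) := by
          rw [← he, Subgroup.coe_mul]; group
      _ = f a * (k a * f b) * k b := by rw [he, he]; group
      _ = _ := by rw [(B.commute_fix (hk a).2 (hf b)).eq]; group
  haveI := B.pt.torus_cyclic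
  refine isCyclic_of_injective ρ ((injective_iff_map_eq_one ρ).2 fun x hx => ?_)
  have hk1 : k x = 1 := congrArg Subtype.val hx
  by_contra hx1
  refine hhn (B.ti hh x.2 (fun e => hx1 (Subtype.ext e)) ?_)
  rw [he, hk1, mul_one]
  exact hf x

theorem MixBase.coprime_fixed {x : G} (hx : x ∈ centralizer ({c ^ l} : Set G)) {r : ℕ}
    (hr : r.Prime) (hxr : (orderOf x).Coprime r) (hxE : ∀ e ∈ fixPart (c ^ l) s, Commute x e)
    (hxT : ∀ k ∈ T₀, k ∈ fitIn (coreAt (c ^ l)) → Commute x k) :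
    ∀ v ∈ pCoreIn r (coreAt (c ^ l)), Commute x v := by
  haveI := Fact.mk hr
  obtain ⟨q, hq, hy, hyF, -⟩ := B.pt.mixed
  haveI := Fact.mk hq
  set P := pCoreIn r (coreAt (c ^ l)) with hP
  have hA : ∀ v ∈ P, Commute v y₀ → Commute x v := fun v hv hvy => by
    obtain ⟨f, hf, k, hk, hkF, rfl⟩ :=
      B.fit_split (pCoreIn_le_fitIn r _ hv) B.pt.mem B.pt.ne_one hvy
    exact (hxE f hf).mul_right (hxT k hk hkF)
  by_cases hrq : r = q
  swap
  · exact fun v hv => hA v hv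
      ((⟨B.pt.cfg, B.pt.cmax, hq, hyF, hy⟩ : Centred S l c s q y₀).commute_other hrq hv)
  subst hrq
  set C₀ := P ⊓ centralizer ({x} : Set G) with hC₀
  by_contra hcon
  have hlt : C₀.subgroupOf P < ⊤ := by
    rw [lt_top_iff_ne_top, ne_eq, subgroupOf_eq_top]
    exact fun hle => hcon fun v hv => (mem_centralizer_singleton_iff.1 (hle hv).2 : Commute v x).symm
  haveI : Group.IsNilpotent ↥P := (Components.isPGroup_pCoreIn (p := r) _).isNilpotent
  obtain ⟨i, hi, hiC⟩ :=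
    SetLike.exists_of_lt (Group.normalizerCondition_of_isNilpotent (C₀.subgroupOf P) hlt)
  set d := x * (i : G) * x⁻¹ * (i : G)⁻¹ with hd
  have hdP : d ∈ P :=
    mul_mem (Coprime.conj_mem (centralizer_le_normalizer_pCoreAt _ r hx) i.2) (inv_mem i.2)
  have hy0 : y₀ ∈ C₀ := ⟨hyF, mem_centralizer_singleton_iff.2 (hxE y₀ B.pt.mem).symm.eq⟩
  have hdy : Commute d y₀ := by
    have h1 : (i : G)⁻¹ * y₀ * (i : G) ∈ C₀ := by
      have := (mem_normalizer_iff.1 (inv_mem hi) ⟨y₀, hyF⟩).1 (show y₀ ∈ C₀ from hy0)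
      simpa [Subgroup.mem_subgroupOf] using this
    have hzx : x * ((i : G)⁻¹ * y₀ * i) = (i : G)⁻¹ * y₀ * i * x :=
      (mem_centralizer_singleton_iff.1 h1.2).symm
    refine mul_inv_eq_iff_eq_mul.1 ?_
    calc d * y₀ * d⁻¹ = x * ((i : G) * (x⁻¹ * ((i : G)⁻¹ * y₀ * i) * x) * (i : G)⁻¹) * x⁻¹ := by
          rw [hd]; group
      _ = x * y₀ * x⁻¹ := by
        rw [show x⁻¹ * ((i : G)⁻¹ * y₀ * i) * x = (i : G)⁻¹ * y₀ * i by
          rw [mul_assoc, ← hzx, inv_mul_cancel_left]]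
        group
      _ = y₀ := by rw [(hxE y₀ B.pt.mem).eq, mul_inv_cancel_right]
  have hxd : Commute x d := hA d hdP hdy
  have hpow : ∀ n : ℕ, x ^ n * i = d ^ n * i * x ^ n := by
    intro n
    induction n with
    | zero => simp
    | succ n ih =>
      rw [pow_succ', mul_assoc, ih, ← mul_assoc, ← mul_assoc, (hxd.pow_right n).eq,
        mul_assoc (d ^ n) x, show x * (i : G) = d * i * x by rw [hd]; group]
      rw [pow_succ d]; group
  have hdo : d ^ orderOf x = 1 := by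
    have := hpow (orderOf x)
    rw [pow_orderOf_eq_one, one_mul, mul_one] at this
    exact mul_eq_right.1 this.symm
  obtain ⟨j, hj⟩ := (Components.isPGroup_pCoreIn (p := r) (coreAt (c ^ l))) ⟨d, hdP⟩
  have hd1 : d = 1 := eq_one_of_commutator (congrArg Subtype.val hj) hdo hxr
  refine hiC (show (i : G) ∈ C₀ from ⟨i.2, mem_centralizer_singleton_iff.2 ?_⟩)
  exact (mul_inv_eq_iff_eq_mul.1 (mul_inv_eq_one.1 (hd ▸ hd1))).symm

theorem MixBase.fit_prime {r : ℕ} (hr : r.Prime) (hd : r ∣ Nat.card ↥T₀) :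
    r ∣ Nat.card ↥(fitIn (coreAt (c ^ l))) := by
  haveI := Fact.mk hr
  obtain ⟨z, hz⟩ := exists_prime_orderOf_dvd_card' r hd
  have hzo : orderOf (z : G) = r := by rw [Subgroup.orderOf_coe]; exact hz
  by_contra hno
  haveI := B.pt.torus_cyclic
  have hzF : (z : G) ∈ fitIn (coreAt (c ^ l)) := mem_fitIn_of_commute z.2.1 fun p hp v hv => by
    haveI := Fact.mk hp
    by_cases hpr : p = r
    · subst hpr
      obtain ⟨j, hj⟩ := (Components.isPGroup_pCoreIn (p := p) (coreAt (c ^ l))) ⟨v, hv⟩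
      obtain ⟨i, -, hi⟩ := (Nat.dvd_prime_pow hp).1
        (orderOf_dvd_of_pow_eq_one (congrArg Subtype.val hj : v ^ p ^ j = 1))
      rcases i with _ | i
      · rw [pow_zero, orderOf_eq_one_iff] at hi
        rw [show v = 1 from hi]
        exact Commute.one_right _
      · exact absurd ((hi ▸ dvd_pow_self p i.succ_ne_zero : p ∣ orderOf v).trans
          (orderOf_dvd_natCard _ (pCoreIn_le_fitIn p _ hv))) hno
    · refine B.coprime_fixed (coreAt_le _ z.2.1) hp ?_ (fun e he => B.commute_fix z.2.2 he) ?_ v hv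
      · rw [hzo]; exact (Nat.coprime_primes hr hp).2 (Ne.symm hpr)
      · exact fun k hk _ => congrArg Subtype.val
          ((IsCyclic.isMulCommutative (α := ↥T₀)).is_comm.comm z ⟨k, hk⟩)
  exact hno (hzo ▸ orderOf_dvd_natCard _ hzF)

theorem MixBase.card_norm :
    Nat.card ↥(coreAt (c ^ l) ⊓ normalizer (fixPart (c ^ l) s : Set G)) =
      Nat.card ↥T₀ * Nat.card ↥(pairCore (c ^ l) s) := by
  have hT : T₀ ≤ coreAt (c ^ l) ⊓ normalizer (fixPart (c ^ l) s : Set G) := fun x hx =>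
    ⟨hx.1, mem_normalizer_fintype fun e he => by
      rw [(B.commute_fix hx.2 he).eq, mul_inv_cancel_right]; exact he⟩
  have hD : pairCore (c ^ l) s ≤ coreAt (c ^ l) ⊓ normalizer (fixPart (c ^ l) s : Set G) :=
    le_inf inf_le_left B.pair_norm
  rw [← Nat.card_prod]
  refine (Nat.card_congr (Equiv.ofBijective
    (fun p : ↥T₀ × ↥(pairCore (c ^ l) s) =>
      (⟨(p.1 : G) * p.2, mul_mem (hT p.1.2) (hD p.2.2)⟩ :
        ↥(coreAt (c ^ l) ⊓ normalizer (fixPart (c ^ l) s : Set G))))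
    ⟨fun p q e => ?_, fun x => ?_⟩)).symm
  · refine Subgroup.mul_injective_of_disjoint ?_ (congrArg Subtype.val e)
    rw [Subgroup.disjoint_def]
    exact fun {w} hw hwD => B.inf_torus hw (mem_centralizer_singleton_iff.1 hwD.2)
  · obtain ⟨k, hk, d, hd, he⟩ := B.split x.2.1 x.2.2
    exact ⟨(⟨k, hk⟩, ⟨d, hd⟩), Subtype.ext he.symm⟩

theorem MixBase.card_core :
    Nat.card ↥(coreAt (c ^ l)) = jNum (c ^ l) s * mNum (c ^ l) s *
      Nat.card ↥T₀ * Nat.card ↥(pairCore (c ^ l) s) := by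
  set O := coreAt (c ^ l) with hO
  set F₁ := fitIn O with hF
  set N := O ⊓ normalizer (fixPart (c ^ l) s : Set G) with hN
  have hFO : F₁ ≤ O := map_subtype_le _
  have hFN : F₁ ⊓ normalizer (fixPart (c ^ l) s : Set G) = F₁ ⊓ N := by
    rw [hN, ← inf_assoc, inf_eq_left.2 hFO]
  have h1 : Nat.card ↥O = mNum (c ^ l) s * Nat.card ↥(F₁ ⊔ N) := by
    rw [mNum, ← relIndex_bot_left, ← relIndex_bot_left (H := F₁ ⊔ N), mul_comm]
    exact (relIndex_mul_relIndex _ _ _ bot_le (sup_le hFO inf_le_left)).symm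
  have h2 : Nat.card ↥F₁ = jNum (c ^ l) s * Nat.card ↥(F₁ ⊓ N) := by
    rw [jNum, hFN, ← relIndex_bot_left, ← relIndex_bot_left (H := F₁ ⊓ N), mul_comm]
    exact (relIndex_mul_relIndex _ _ _ bot_le inf_le_left).symm
  have hn : N ≤ normalizer (F₁ : Set G) :=
    inf_le_left.trans ((coreAt_le _).trans (centralizer_le_normalizer_fit _))
  have h3 : Nat.card ↥(F₁ ⊔ N) * Nat.card ↥(F₁ ⊓ N) = Nat.card ↥F₁ * Nat.card ↥N := by
    have hle : F₁ ⊔ N ≤ normalizer (F₁ : Set G) := sup_le le_normalizer hn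
    haveI : (F₁.subgroupOf (F₁ ⊔ N)).Normal := normal_subgroupOf_of_le_normalizer hle
    have e := relIndex_sup_right (H := N.subgroupOf (F₁ ⊔ N)) (K := F₁.subgroupOf (F₁ ⊔ N))
    rw [← subgroupOf_sup le_sup_right le_sup_left, sup_comm N F₁, subgroupOf_self,
      relIndex_top_right, relIndex_subgroupOf le_sup_right] at e
    have a1 : Nat.card ↥F₁ * F₁.relIndex (F₁ ⊔ N) = Nat.card ↥(F₁ ⊔ N) := by
      rw [← relIndex_bot_left (H := F₁ ⊔ N), ← relIndex_bot_left (H := F₁)]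
      exact relIndex_mul_relIndex _ _ _ bot_le le_sup_left
    have a2 : Nat.card ↥(F₁ ⊓ N) * F₁.relIndex N = Nat.card ↥N := by
      rw [← inf_relIndex_right F₁ N, ← relIndex_bot_left (H := N),
        ← relIndex_bot_left (H := F₁ ⊓ N)]
      exact relIndex_mul_relIndex _ _ _ bot_le inf_le_right
    rw [← a1, ← a2, show F₁.relIndex (F₁ ⊔ N) = F₁.relIndex N from e]
    ring
  rw [h2] at h3
  have h4 : Nat.card ↥(F₁ ⊔ N) = jNum (c ^ l) s * Nat.card ↥N :=
    Nat.eq_of_mul_eq_mul_right Nat.card_pos (by rw [h3]; ring)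
  rw [h1, h4, B.card_norm]
  ring

theorem MixBase.data : MixedData S l c s L₀ where
  cfg := B.pt.cfg
  cmax := B.pt.cmax
  ne := fun e => B.pt.ne_one ((mem_bot (G := G)).1 (e ▸ B.pt.mem))
  fix_cyclic := B.fix_cyclic
  layer_eq := fun _ he hp => B.layer_eq he hp
  t_mem := B.pt.fused.2.1
  s_mem := B.pt.fused.2.2.1
  fuse := B.pt.fused.2.2.2.1
  commute_fix := fun _ hx _ he => B.commute_fix hx he
  core_disjoint := fun e he hp => by rw [← B.layer_eq he hp]; exact (B.all e he hp).disjoint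
  psl := B.pt.layer_iso
  torus_cyclic := B.pt.torus_cyclic
  torus_inverted := B.pt.torus_inverted
  mem_torus := fun _ hv hsv _ he he1 hve => B.mem_torus hv hsv he he1 hve
  ti := fun _ hh _ he he1 hhe => B.ti hh he he1 hhe
  layer_norm := fun h hh hn => B.layer_norm_of hh B.pt.mem B.pt.ne_one
    (Coprime.conj_mem hn B.pt.mem)
  pair_norm := B.pair_norm
  split := fun _ hg hgE => B.split hg hgE
  fit_split := fun _ hv _ he he1 hve => B.fit_split hv he he1 hve
  coprime_fixed := fun _ hx _ hr hxr hxE hxT => B.coprime_fixed hx hr hxr hxE hxT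
  torus_prime := fun _ hr hd => B.torus_prime hr hd
  fit_prime := fun _ hr hd => B.fit_prime hr hd
  card_core := B.card_core

omit B in
/-- `MixedData` from one point. -/
theorem exists_mixedData {y : G} (P : MixPt S l c s y) :
    ∃ L, MixedData S l c s L := by
  obtain ⟨q, hq, hy, hyF, hmix⟩ := P.mixed
  haveI := Fact.mk hq
  have hall : ∀ e ∈ fixPart (c ^ l) s, (orderOf e).Prime → MixPt S l c s e := fun e he hp =>
    MixPt.of_mixed P.cfg P.cmax P.mem_pair hyF hy hmix he hp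
  haveI := isNilpotent_fitIn (coreAt (c ^ l))
  haveI : Group.IsNilpotent ↥(fixPart (c ^ l) s) :=
    Group.nilpotent_of_mulEquiv (subgroupOfEquivOfLe
      (inf_le_left : fixPart (c ^ l) s ≤ fitIn (coreAt (c ^ l))))
  haveI : Nontrivial ↥(fixPart (c ^ l) s) :=
    ⟨⟨y, P.mem⟩, 1, fun e => P.ne_one (congrArg Subtype.val e)⟩
  haveI : Nontrivial ↥(Subgroup.center ↥(fixPart (c ^ l) s)) :=
    (nontrivial_iff_ne_bot _).2 (Group.IsNilpotent.center_ne_bot _)
  obtain ⟨z, hz⟩ := exists_ne (1 : ↥(Subgroup.center ↥(fixPart (c ^ l) s)))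
  obtain ⟨n, hn⟩ := exists_prime_power (x := ((z : ↥(fixPart (c ^ l) s)) : G))
    (fun e => hz (Subtype.ext (Subtype.ext e)))
  exact ⟨_, MixBase.data (y₀ := ((z : ↥(fixPart (c ^ l) s)) : G) ^ n)
    ⟨hall _ (pow_mem (z : ↥(fixPart (c ^ l) s)).2 n) hn, hall, fun e he =>
      (show Commute e ((z : ↥(fixPart (c ^ l) s)) : G) from
        congrArg Subtype.val (mem_center_iff.1 z.2 ⟨e, he⟩)).pow_right n⟩⟩

omit B in
/-- `MixedData` from the hypotheses of `GW.MixedCase`. -/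
theorem exists_mixedData_of_mixed (hC : Cfg S l c s) (hmax : CentMax l c) {q : ℕ} [Fact q.Prime]
    {y : G} (hyD : y ∈ pairCore (c ^ l) s) (hyF : y ∈ pCoreIn q (coreAt (c ^ l)))
    (hy : orderOf y = q) (hmix : ∃ v ∈ pCoreIn q (coreAt (c ^ l)), ¬ Commute v s) :
    ∃ L, MixedData S l c s L :=
  exists_mixedData ⟨hC, hmax, ⟨pCoreIn_le_fitIn q _ hyF, hyD.2⟩,
    q, Fact.out, hy, hyF, hmix⟩

end Cfsg.Agent.H62.GW
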