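import Cfsg.Agent.H62.GW.MixedGlobal
import Cfsg.Agent.H80.GW.MixedCongr
import Cfsg.Agent.H80.GW.MixedLayerCount
import Cfsg.Agent.H4.GW.MixedCount

/-!
# GW programme, M3: the contradiction from the pieces

Given that `c` centralises `F(O)`, the bound on `j`, `m` and the order relation for `l = 1`, the
mixed case is impossible.
-/

set_option autoImplicit false
set_option linter.unusedSectionVars false
set_option linter.style.haveILetI false

namespace Cfsg.Agent.H62.GW

open Subgroup Cfsg.Agent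
open Cfsg.Agent.GW (Cfg coreAt coreIn pairCore CentMax Fuses)
open Cfsg.Agent.Components (pCoreIn fitIn layerIn)

universe u

variable {G : Type u} [Group G] [Finite G] {S : Sylow 2 G} {l : ℕ} {c s : G} {L : Subgroup G}

theorem MixedData.not_normal (hM : MixedData S l c s L) :
    ¬ centralizer ({c ^ l} : Set G) ≤ normalizer (fixPart (c ^ l) s : Set G) := by
  intro h
  have hle := normalizer_le hM.cfg hM.cmax hM.ne ((fixPart_le_core _ _).trans (coreAt_le _)) h
  obtain ⟨g, hg, hgf⟩ := hM.fuse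
  have hgt : Commute g (c ^ l) := mem_centralizer_singleton_iff.1 (hle (mem_normalizer_fintype
    fun e he => by
      show g * e * g⁻¹ ∈ fixPart (c ^ l) s
      rw [(hM.commute_fix g hg e he).eq, mul_inv_cancel_right]
      exact he))
  refine hM.cfg.gen.out ?_
  rw [← hgf.1, hgt.eq, mul_inv_cancel_right]
  exact Subgroup.pow_mem _ (mem_zpowers c) l

/-- An element of the layer fusing `⟨t, s⟩` centralises `D`. -/
theorem MixedData.fuse_centralises (hM : MixedData S l c s L) :
    ∃ g, Fuses g (c ^ l) s ∧ ∀ x ∈ pairCore (c ^ l) s, Commute g x := by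
  obtain ⟨g, hgL, hg⟩ := hM.fuse
  have hgen := hM.cfg.gen
  set t := c ^ l with ht
  have htt : t * t = 1 := H39.mul_self_of_orderOf_eq_two hgen.z_order
  have hss : s * s = 1 := H39.mul_self_of_orderOf_eq_two hgen.os
  have hts : t * s = s * t := (hgen.z_central hgen.mem_s).symm
  have hne : t ≠ s := fun e => hgen.out (e ▸ Subgroup.pow_mem _ (mem_zpowers c) l)
  obtain ⟨T, hT, hTm⟩ := H39.klein_mk hgen.z_order hgen.os hne hts
  have hTL : T ≤ L := fun v hv => by
    rcases (hTm v).1 hv with rfl | rfl | rfl | rfl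
    exacts [one_mem _, hM.t_mem, hM.s_mem, mul_mem hM.t_mem hM.s_mem]
  -- the centraliser of the four group in the layer is the four group
  have hCL : ∀ k ∈ L, Commute k t → Commute k s → k ∈ T := by
    intro k hk hkt hks
    set C := centralizer ({t, s} : Set G) with hC
    have hkC : k ∈ C := mem_centralizer_iff.2 (by
      rintro v (rfl | rfl)
      exacts [hkt.eq.symm, hks.eq.symm])
    have hTC : T ≤ C := fun v hv => mem_centralizer_iff.2 fun w hw => by
      have hct : Commute t s := hts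
      have h1 : Commute v t := by
        rcases (hTm v).1 hv with h | h | h | h <;> rw [h]
        exacts [Commute.one_left _, hct.symm, (Commute.refl _).mul_left hct.symm]
      have h2 : Commute v s := by
        rcases (hTm v).1 hv with h | h | h | h <;> rw [h]
        exacts [Commute.one_left _, hct, hct.mul_left (Commute.refl _)]
      rcases (show w = t ∨ w = s from hw) with h | h <;> rw [h]
      exacts [h1.symm.eq, h2.symm.eq]
    have hTn : ∀ a : G, a ∈ C → ∀ v ∈ T, Commute a v := by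
      intro a ha v hv
      have h1 : Commute a t := (mem_centralizer_iff.1 ha t (Set.mem_insert _ _)).symm
      have h2 : Commute a s := (mem_centralizer_iff.1 ha s (Set.mem_insert_of_mem _ rfl)).symm
      rcases (hTm v).1 hv with rfl | rfl | rfl | rfl
      exacts [Commute.one_right _, h1, h2, h1.mul_right h2]
    haveI : (T.subgroupOf C).Normal := ⟨fun v hv a => by
      show ((a * v * a⁻¹ : ↥C) : G) ∈ T
      rw [Subgroup.coe_mul, Subgroup.coe_mul, Subgroup.coe_inv, (hTn a a.2 v hv).eq,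
        mul_inv_cancel_right]
      exact hv⟩
    have hidx : (T.subgroupOf C).index = Nat.card ↥(pairCore t s) := by
      have h1 := (T.subgroupOf C).card_mul_index
      rw [Nat.card_congr (subgroupOfEquivOfLe hTC).toEquiv, hT.card_four,
        H4.GW.card_centralizer_four hgen] at h1
      exact Nat.eq_of_mul_eq_mul_left (by norm_num) h1
    have hkd : k ^ Nat.card ↥(pairCore t s) ∈ T := by
      rw [← hidx]
      exact Subgroup.pow_index_mem (T.subgroupOf C) (⟨k, hkC⟩ : ↥C)
    have hodd : Odd (Nat.card ↥(pairCore t s)) :=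
      (odd_coreAt t).of_dvd_nat (card_dvd_of_le inf_le_left)
    -- `k ^ 4` is an element of odd order of `D ∩ L`
    have hk4 : k ^ 4 = 1 := by
      have ho : Odd (orderOf (k ^ 4)) := by
        refine hodd.of_dvd_nat (orderOf_dvd_of_pow_eq_one ?_)
        rw [← pow_mul, mul_comm, ← H4.GW.card_centralizer_four hgen |>.trans (mul_comm _ _)]
        exact congrArg Subtype.val (pow_card_eq_one' (x := (⟨k, hkC⟩ : ↥C)))
      exact eq_one_of_inverted ho (hM.torus_inverted _
        ⟨mem_coreAt_of_odd hM.cfg (hkt.pow_left 4) ho, pow_mem hk 4⟩) (hks.pow_left 4).symm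
    obtain ⟨m, hm⟩ := exists_pow_eq_self_of_coprime (x := k) (n := Nat.card ↥(pairCore t s))
      (Nat.Coprime.coprime_dvd_right (orderOf_dvd_of_pow_eq_one hk4)
        (by simpa using (Nat.coprime_two_right.2 hodd).pow_right 2))
    rw [← hm]
    exact pow_mem hkd m
  refine ⟨g, hg, fun x hx => ?_⟩
  have hxt : Commute x t := (commute_of_mem_coreAt hx.1).symm
  have hxs : Commute x s := mem_centralizer_singleton_iff.1 hx.2
  have hxo : Odd (orderOf x) := odd_orderOf_of_mem (odd_coreAt _) hx.1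
  have hxn : x ∈ normalizer (L : Set G) := hM.layer_norm x (coreAt_le _ hx.1) (hM.pair_norm hx)
  set k := g⁻¹ * (x * g * x⁻¹) with hk
  have hxg : x * g * x⁻¹ = g * k := by rw [hk]; group
  have hkL : k ∈ L := mul_mem (inv_mem hgL) (Coprime.conj_mem hxn hgL)
  have hfix : ∀ {v : G}, Commute x v → Commute x (g * v * g⁻¹) → Commute k v := by
    intro v h1 h2
    refine mul_inv_eq_iff_eq_mul.1 ?_
    calc k * v * k⁻¹ = g⁻¹ * (x * (g * (x⁻¹ * v * x) * g⁻¹) * x⁻¹) * g := by rw [hk]; group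
      _ = g⁻¹ * (x * (g * v * g⁻¹) * x⁻¹) * g := by
        rw [show x⁻¹ * v * x = v by rw [mul_assoc, ← h1.eq, inv_mul_cancel_left]]
      _ = v := by rw [h2.eq, mul_inv_cancel_right]; group
  have hkT : k ∈ T := hCL k hkL (hfix hxt (by rw [hg.1]; exact hxs))
    (hfix hxs (by rw [hg.2]; exact hxt.mul_right hxs))
  have hxk : Commute x k := by
    rcases (hTm k).1 hkT with h | h | h | h <;> rw [h]
    exacts [Commute.one_right _, hxt, hxs, hxt.mul_right hxs]
  have hpow : ∀ n : ℕ, x ^ n * g = g * k ^ n * x ^ n := by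
    intro n
    induction n with
    | zero => simp
    | succ n ih =>
      rw [pow_succ' x, mul_assoc, ih, ← mul_assoc, ← mul_assoc,
        show x * g = g * k * x by rw [← hxg, inv_mul_cancel_right], mul_assoc (g * k) x,
        (hxk.pow_right n).eq, pow_succ' k]
      group
  have hkk : k * k = 1 := H39.klein_mul_self hT hkT
  have hkn : k ^ orderOf x = 1 := by
    have := hpow (orderOf x)
    rw [pow_orderOf_eq_one, one_mul, mul_one] at this
    exact mul_eq_left.1 this.symm
  have hk1 : k = 1 := orderOf_eq_one_iff.1 (Nat.eq_one_of_dvd_coprimes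
    (Nat.coprime_two_left.2 hxo) (orderOf_dvd_of_pow_eq_one (by rw [sq, hkk]))
    (orderOf_dvd_of_pow_eq_one hkn))
  rw [hk1, mul_one] at hxg
  exact ((mul_inv_eq_iff_eq_mul.1 hxg : x * g = g * x)).symm

/-- `c` centralises `O` if it centralises `F(O)`. -/
theorem commute_core_of_fit (hC : Cfg S l c s)
    (hF : ∀ v ∈ fitIn (coreAt (c ^ l)), Commute c v) :
    ∀ v ∈ coreAt (c ^ l), Commute c v := by
  intro v hv
  have hct : Commute c (c ^ l) := (Commute.refl c).pow_right l
  set d := c * v * c⁻¹ * v⁻¹ with hd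
  have hdO : d ∈ coreAt (c ^ l) := mul_mem (conj_mem_coreAt hct hv) (inv_mem hv)
  have hdF : d ∈ fitIn (coreAt (c ^ l)) := mem_fitIn_of_commute hdO fun r hr w hw => by
    haveI := Fact.mk hr
    have hw' : v⁻¹ * w * v ∈ pCoreIn r (coreAt (c ^ l)) :=
      Coprime.conj_mem' (centralizer_le_normalizer_pCoreAt _ r (coreAt_le _ hv)) hw
    have h1 := hF _ (pCoreIn_le_fitIn r _ hw')
    refine mul_inv_eq_iff_eq_mul.1 ?_
    calc d * w * d⁻¹ = c * (v * (c⁻¹ * (v⁻¹ * w * v) * c) * v⁻¹) * c⁻¹ := by rw [hd]; group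
      _ = c * w * c⁻¹ := by rw [mul_assoc c⁻¹, ← h1.eq, inv_mul_cancel_left]; group
      _ = w := by rw [(hF _ (pCoreIn_le_fitIn r _ hw)).eq, mul_inv_cancel_right]
  have hcd : Commute c d := hF d hdF
  have hpow : ∀ n : ℕ, c ^ n * v = d ^ n * v * c ^ n := by
    intro n
    induction n with
    | zero => simp
    | succ n ih =>
      rw [pow_succ', mul_assoc, ih, ← mul_assoc, ← mul_assoc, (hcd.pow_right n).eq,
        mul_assoc (d ^ n) c, show c * v = d * v * c by rw [hd]; group, pow_succ d]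
      group
  have hdo : d ^ orderOf c = 1 := by
    have := hpow (orderOf c)
    rw [pow_orderOf_eq_one, one_mul, mul_one] at this
    exact mul_eq_right.1 this.symm
  obtain ⟨n, hn⟩ := IsPGroup.iff_card.1 S.isPGroup'
  have hc2 : orderOf c ∣ 2 ^ n := hn ▸ orderOf_dvd_natCard _ hC.gen.mem_c
  have hd1 : d = 1 := orderOf_eq_one_iff.1 (Nat.eq_one_of_dvd_coprimes
    ((Nat.coprime_two_left.2 (odd_orderOf_of_mem (odd_coreAt _) hdO)).pow_left n)
    ((orderOf_dvd_of_pow_eq_one hdo).trans hc2) dvd_rfl)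
  exact mul_inv_eq_iff_eq_mul.1 (mul_inv_eq_one.1 (hd ▸ hd1))

variable {q : ℕ} [Fact q.Prime] {y : G}

/-- **The mixed case from its pieces.** -/
theorem false_of_pieces (hC : Cfg S l c s) (hmax : CentMax l c)
    (hyD : y ∈ pairCore (c ^ l) s) (hyF : y ∈ pCoreIn q (coreAt (c ^ l))) (hy : orderOf y = q)
    (hmix : ∃ v ∈ pCoreIn q (coreAt (c ^ l)), ¬ Commute v s)
    (hFix : ∀ L, MixedData S l c s L → ∀ v ∈ fitIn (coreAt (c ^ l)), Commute c v)
    (hBound : ∀ L, MixedData S l c s L → (∀ v ∈ coreAt (c ^ l), Commute c v) →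
      ∃ p, p.Prime ∧ p ∣ Nat.card ↥(fitIn (coreAt (c ^ l))) ∧ mNum (c ^ l) s + 2 ≤ p ∧
      (jNum (c ^ l) s = 1 ∨ jNum (c ^ l) s = p ∨ ∃ B : Subgroup G, B ≤ coreAt (c ^ l) ∧
        centralizer ({c ^ l} : Set G) ≤ normalizer (B : Set G) ∧
        B ⊓ pairCore (c ^ l) s = ⊥ ∧ B ⊔ pairCore (c ^ l) s = coreAt (c ^ l)))
    (hOne : ∀ L, MixedData S l c s L → (∀ v ∈ coreAt (c ^ l), Commute c v) → l = 1 →
      ∀ p, p.Prime → p ∣ Nat.card ↥(fitIn (coreAt (c ^ l))) → mNum (c ^ l) s + 2 ≤ p →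
      (jNum (c ^ l) s = 1 ∨ jNum (c ^ l) s = p) →
      ∃ (x : ℕ) (δ : ℤ), (δ = 1 ∨ δ = -1) ∧ (x : ℤ) ≠ δ ∧ (4 * l : ℤ) ∣ (x : ℤ) - δ ∧
        ((centralizer ({c ^ l} : Set G)).index : ℤ) * ((x : ℤ) - δ) ^ 2 =
          8 * (l : ℤ) ^ 2 * ((jNum (c ^ l) s * Nat.card ↥(torusPart (c ^ l) L) * mNum (c ^ l) s : ℕ) : ℤ)
            ^ 2 * (x * ((x : ℤ) + δ))) : False := by
  obtain ⟨L, hM⟩ := exists_mixedData_of_mixed hC hmax hyD hyF hy hmix
  set t := c ^ l with ht
  have hc : ∀ v ∈ coreAt t, Commute c v := commute_core_of_fit hC (hFix L hM)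
  -- the other side
  have hpair : pairCore t (c * s) = pairCore t s := by
    ext v
    refine ⟨fun hv => ⟨hv.1, mem_centralizer_singleton_iff.2 ?_⟩,
      fun hv => ⟨hv.1, mem_centralizer_singleton_iff.2 ?_⟩⟩
    · have h1 : Commute v (c * s) := mem_centralizer_singleton_iff.1 hv.2
      have := (hc v hv.1).symm.inv_right.mul_right h1
      rwa [inv_mul_cancel_left] at this
    · exact ((hc v hv.1).symm.mul_right (mem_centralizer_singleton_iff.1 hv.2)).eq
  have hfix : fixPart t (c * s) = fixPart t s := by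
    ext v
    constructor
    · intro hv
      exact ⟨hv.1, (hpair ▸ (⟨map_subtype_le _ hv.1, hv.2⟩ : v ∈ pairCore t (c * s)) :
        v ∈ pairCore t s).2⟩
    · intro hv
      exact ⟨hv.1, (hpair.symm ▸ (⟨map_subtype_le _ hv.1, hv.2⟩ : v ∈ pairCore t s) :
        v ∈ pairCore t (c * s)).2⟩
  have hC' : Cfg S l c (c * s) := H4.GW.cfg_swap hC
  have hyE : y ∈ fixPart t s := ⟨pCoreIn_le_fitIn q _ hyF, hyD.2⟩
  have P' : MixPt S l c (c * s) y := ⟨hC', hmax, hfix.symm ▸ hyE, q, Fact.out, hy, hyF, by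
    obtain ⟨v, hv, hvs⟩ := hmix
    refine ⟨v, hv, fun hcs => hvs ?_⟩
    have := (hc v (pCoreAt_le _ _ hv)).symm.inv_right.mul_right hcs
    rwa [inv_mul_cancel_left] at this⟩
  obtain ⟨L', hM'⟩ := exists_mixedData P'
  have hLL : layerIn (centralizer ({y} : Set G)) = L :=
    hM.layer_eq y hyE (by rw [hy]; exact Fact.out)
  have hcsL : c * s ∈ L := hLL ▸ P'.fused.2.2.1
  obtain ⟨p, hp, hpF, hmp, hcase⟩ := hBound L hM hc
  have hjp : jNum t s = 1 ∨ jNum t s = p := by
    rcases hcase with h | h | ⟨B, hBO, hBn, hdisj, hsup⟩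
    · exact Or.inl h
    · exact Or.inr h
    · refine (H80.GW.false_of_complement hC hmax ?_ hM.fuse_centralises hM'.fuse_centralises hBO
        hBn hdisj hsup hc).elim
      exact fun h => H39.ne_one_of_orderOf_eq_two hC.gen.z_order
        (absurd ((mem_bot (G := G)).1 (h ▸ hyD)) fun h1 =>
          (Fact.out : q.Prime).ne_one (by rw [← hy, h1, orderOf_one]))
  set τ := Nat.card ↥(torusPart t L) with hτ
  haveI := Fact.mk hp
  have hpτ : p ∣ τ := by
    obtain ⟨z, hz, hzL, hzo⟩ := hM.torus_prime p hp hpF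
    exact hzo ▸ orderOf_dvd_natCard _ (show z ∈ torusPart t L from ⟨pCoreAt_le _ _ hz, hzL⟩)
  have hodd : Odd (Nat.card ↥(coreAt t)) := odd_coreAt _
  rw [hM.card_core] at hodd
  obtain ⟨⟨⟨hjo, hmo⟩, hτo⟩, -⟩ :
      ((Odd (jNum t s) ∧ Odd (mNum t s)) ∧ Odd τ) ∧ Odd (Nat.card ↥(pairCore t s)) := by
    simpa only [Nat.odd_mul] using hodd
  have hp2 : Odd p := hτo.of_dvd_nat hpτ
  have hjτ : jNum t s ∣ τ := by rcases hjp with h | h <;> rw [h]; exacts [one_dvd _, hpτ]
  have hjp' : p ∣ jNum t s ∨ (jNum t s = 1 ∧ 1 < mNum t s) := by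
    rcases hjp with h | h
    swap
    · exact Or.inl (h ▸ dvd_rfl)
    refine Or.inr ⟨h, ?_⟩
    by_contra hle
    have hm1 : mNum t s = 1 := le_antisymm (not_lt.1 hle) hmo.pos
    refine hM.not_normal ?_
    have hFN : fitIn (coreAt t) ≤ normalizer (fixPart t s : Set G) := by
      have := relIndex_eq_one.1 h
      exact this.trans inf_le_right
    have hON : coreAt t ≤ normalizer (fixPart t s : Set G) :=
      (relIndex_eq_one.1 hm1).trans (sup_le hFN inf_le_right)
    have hcN : c ∈ normalizer (fixPart t s : Set G) := mem_normalizer_fintype fun v hv => by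
      show c * v * c⁻¹ ∈ fixPart t s
      rw [(hc v (fixPart_le_core _ _ hv)).eq, mul_inv_cancel_right]
      exact hv
    have hsN : s ∈ normalizer (fixPart t s : Set G) := mem_normalizer_fintype fun v hv => by
      show s * v * s⁻¹ ∈ fixPart t s
      rw [(commute_s_of_fix hv).symm.eq, mul_inv_cancel_right]
      exact hv
    intro x hx
    obtain ⟨o, ho, σ, hσ, rfl⟩ :=
      H80.GW.M2.exists_centralizer_decomp hC (mem_centralizer_singleton_iff.1 hx)
    refine mul_mem (hON ho) ?_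
    rcases hC.gen.cases σ hσ with h' | h'
    · exact zpowers_le.2 hcN h'
    · simpa [mul_assoc] using mul_mem (zpowers_le.2 hcN h') (inv_mem hsN)
  obtain ⟨q₀, e, hpp, he, hq₀, hqτ, hdvd⟩ := H80.GW.exists_layer_count hM hcsL
  have ho : Nat.card ↥(coreAt t) =
      jNum t s * τ * mNum t s * Nat.card ↥(pairCore t s) := by
    rw [hM.card_core, hτ]; ring
  refine H4.GW.false_of_count hC hp hp2 hpτ (Nat.le_of_dvd hτo.pos hjτ) hjo hjp' hmo hmp ho he hq₀
    hpp (Nat.Coprime.coprime_dvd_right hjτ hqτ) hdvd (fun r hr hd => ?_) ?_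
  · have hrτ : r ∣ τ := (hr.dvd_mul.1 hd).elim (fun h => h.trans hjτ) id
    exact H80.GW.index_modEq_one_of_data hM hc hr (hM.fit_prime r hr hrτ)
  · rcases Nat.eq_or_lt_of_le (show 1 ≤ l from hC.gen.lpos) with h | h
    · exact hOne L hM hc h.symm p hp hpF hmp hjp
    · exact H4.GW.order_relation hC h rfl (by rw [hpair]) ho

end Cfsg.Agent.H62.GW
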