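import Cfsg.Agent.H62.GW.MixedPoint

/-!
# GW programme, M3: the layer at a point

The layer `L` of `C(y)` is `PSL(2,q₀)`, `O ∩ L` is cyclic and inverted by `s`, and an element of
`E` of prime power order commuting with `y` lies in `O(C(y))` as soon as no field automorphism of
prime order centralises the coprime part of a torus.
-/

set_option autoImplicit false
set_option linter.unusedSectionVars false
set_option linter.style.haveILetI false

namespace Cfsg.Agent.H62.GW

open Subgroup Cfsg.Agent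
open Cfsg.Agent.GW (Cfg coreAt coreIn pairCore CentMax Fuses LayerStep LayerShape)
open Cfsg.Agent.Components (pCoreIn fitIn layerIn)
open Cfsg.Agent.H56 (PSLn)
open Cfsg.Agent.H63.GW (SylowDType)

universe u

variable {G : Type u} [Group G] [Finite G] {S : Sylow 2 G} {l : ℕ} {c s : G} {y : G}
  (P : MixPt S l c s y)
include P

theorem MixPt.exists_model :
    ∃ K : Subgroup (↥(centralizer ({y} : Set G)) ⧸ Cfsg.oddCore ↥(centralizer ({y} : Set G))),
      K.Normal ∧
      K = (Cfsg.layer ↥(centralizer ({y} : Set G))).map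
        (QuotientGroup.mk' (Cfsg.oddCore ↥(centralizer ({y} : Set G)))) ∧
      centralizer (K : Set (↥(centralizer ({y} : Set G)) ⧸
        Cfsg.oddCore ↥(centralizer ({y} : Set G)))) = ⊥ ∧
      SylowDType (↥(centralizer ({y} : Set G)) ⧸ Cfsg.oddCore ↥(centralizer ({y} : Set G))) ∧
      ∃ (F : Type) (_ : Field F) (_ : Fintype F), Odd (Fintype.card F) ∧ 3 < Fintype.card F ∧
        Nonempty (↥K ≃* PSLn 2 F) := by
  obtain ⟨q, hq, hy, hyF, hmix⟩ := P.mixed
  haveI := Fact.mk hq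
  obtain ⟨g, hg⟩ := H61.GW.exists_fuses_left P.cfg
  obtain ⟨F, iF, iFt, hodd, h3, hSD, hC, he⟩ :=
    layer_psl P.cfg P.cmax layerStep' hg P.mem_pair hyF hy hmix
  exact ⟨_, Subgroup.Normal.map inferInstance _ (QuotientGroup.mk'_surjective _), rfl, hC, hSD,
    F, iF, iFt, hodd, h3, he⟩

/-- An element of the layer trivial modulo the core is trivial. -/
theorem MixPt.eq_one_of_layer {x : G} (hx : x ∈ layerIn (centralizer ({y} : Set G)))
    (hxO : x ∈ coreIn (centralizer ({y} : Set G))) : x = 1 :=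
  (mem_bot (G := G)).1 (P.disjoint ▸ mem_inf.2 ⟨hx, hxO⟩)

theorem MixPt.layer_iso :
    ∃ (F : Type) (_ : Field F) (_ : Fintype F), Odd (Fintype.card F) ∧ 3 < Fintype.card F ∧
      Nonempty (↥(layerIn (centralizer ({y} : Set G))) ≃* PSLn 2 F) := by
  obtain ⟨K, -, rfl, -, -, F, iF, iFt, hodd, h3, ⟨e⟩⟩ := P.exists_model
  refine ⟨F, iF, iFt, hodd, h3, ?_⟩
  set X := centralizer ({y} : Set G)
  let φ : ↥(Cfsg.layer ↥X) →* ↥((Cfsg.layer ↥X).map (QuotientGroup.mk' (Cfsg.oddCore ↥X))) :=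
    (QuotientGroup.mk' (Cfsg.oddCore ↥X)).subgroupMap _
  have hinj : Function.Injective φ := (injective_iff_map_eq_one φ).2 fun x hx =>
    Subtype.ext (Subtype.ext (P.eq_one_of_layer ⟨_, x.2, rfl⟩
      ((mk_eq_one_iff (x : ↥X)).1 (congrArg Subtype.val hx))))
  exact ⟨((Cfsg.layer ↥X).equivMapOfInjective _ X.subtype_injective).symm.trans
    ((MulEquiv.ofBijective φ ⟨hinj, MonoidHom.subgroupMap_surjective _ _⟩).trans e)⟩

/-- `O ∩ L` is cyclic. -/
theorem MixPt.torus_cyclic :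
    IsCyclic ↥(torusPart (c ^ l) (layerIn (centralizer ({y} : Set G)))) := by
  obtain ⟨K, hKn, hK, -, -, F, iF, iFt, hodd, -, ⟨e⟩⟩ := P.exists_model
  subst hK
  haveI := hKn
  set X := centralizer ({y} : Set G)
  set π := QuotientGroup.mk' (Cfsg.oddCore ↥X)
  obtain ⟨t', ht', htt'⟩ := P.fused.2.1
  have htK : π t' ∈ (Cfsg.layer ↥X).map π := mem_map_of_mem π ht'
  have ht1 : π t' ≠ 1 := fun h => H39.ne_one_of_orderOf_eq_two P.cfg.gen.z_order
    (P.eq_one_of_layer P.fused.2.1 (htt' ▸ (mk_eq_one_iff t').1 h))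
  have htt : π t' * π t' = 1 := by
    rw [← map_mul, show t' * t' = 1 from Subtype.ext (by
      show (t' : G) * t' = 1
      rw [show (t' : G) = c ^ l from htt']
      exact H39.mul_self_of_orderOf_eq_two P.cfg.gen.z_order), map_one]
  obtain ⟨M, -, hMc, -, -, hodd', -⟩ := exists_torus e hodd htK ht1 htt
  have hle : torusPart (c ^ l) (layerIn X) ≤ X := inf_le_right.trans (layerIn_le X)
  let ψ : ↥(torusPart (c ^ l) (layerIn X)) →* ↥X ⧸ Cfsg.oddCore ↥X :=
    π.comp (Subgroup.inclusion hle)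
  have hmem : ∀ x, ψ x ∈ M := fun x => by
    obtain ⟨w, hw, hwx⟩ := x.2.2
    have hwe : Subgroup.inclusion hle x = w := Subtype.ext hwx.symm
    refine hodd' _ ?_ ?_ ?_
    · show π (Subgroup.inclusion hle x) ∈ (Cfsg.layer ↥X).map π
      rw [hwe]
      exact mem_map_of_mem π hw
    · refine Odd.of_dvd_nat ?_ (orderOf_map_dvd ψ x)
      rw [← Subgroup.orderOf_coe]
      exact odd_orderOf_of_mem (odd_coreAt _) x.2.1
    · refine (show Commute (Subgroup.inclusion hle x) t' from Subtype.ext ?_).map π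
      show (x : G) * (t' : G) = (t' : G) * x
      rw [show (t' : G) = c ^ l from htt']
      exact (commute_of_mem_coreAt x.2.1).symm.eq
  haveI := hMc
  refine isCyclic_of_injective (ψ.codRestrict M hmem) fun a b h => ?_
  have h1 : ψ (a⁻¹ * b) = 1 := by
    rw [map_mul, map_inv, show ψ a = ψ b from congrArg Subtype.val h, inv_mul_cancel]
  exact inv_mul_eq_one.1 (Subtype.ext (P.eq_one_of_layer (a⁻¹ * b).2.2
    ((mk_eq_one_iff _).1 h1)))

/-- `s` inverts `O ∩ L`. -/
theorem MixPt.torus_inverted : ∀ v ∈ torusPart (c ^ l) (layerIn (centralizer ({y} : Set G))),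
    s * v * s⁻¹ = v⁻¹ := by
  intro v hv
  obtain ⟨K, hKn, hK, -, -, F, iF, iFt, hodd, -, ⟨e⟩⟩ := P.exists_model
  subst hK
  haveI := hKn
  set X := centralizer ({y} : Set G)
  set π := QuotientGroup.mk' (Cfsg.oddCore ↥X)
  obtain ⟨t', ht', htt'⟩ := P.fused.2.1
  obtain ⟨s', hs', hss'⟩ := P.fused.2.2.1
  have htv : (t' : G) = c ^ l := htt'
  have hsv : (s' : G) = s := hss'
  obtain ⟨v', hv', hvv'⟩ := hv.2
  have hvv : (v' : G) = v := hvv'
  have hsq : ∀ {a : ↥X}, orderOf (a : G) = 2 → π a * π a = 1 := fun {a} ha => by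
    rw [← map_mul, show a * a = 1 from Subtype.ext (H39.mul_self_of_orderOf_eq_two ha), map_one]
  have hne : ∀ {a : ↥X}, (a : G) ∈ layerIn X → orderOf (a : G) = 2 → π a ≠ 1 := fun {a} ha h2 h =>
    H39.ne_one_of_orderOf_eq_two h2 (P.eq_one_of_layer ha ((mk_eq_one_iff a).1 h))
  have hts : Commute (c ^ l) s := (P.cfg.gen.z_central P.cfg.gen.mem_s).symm
  have hto : orderOf (t' : G) = 2 := htv ▸ P.cfg.gen.z_order
  have hso : orderOf (s' : G) = 2 := hsv ▸ P.cfg.gen.os
  obtain ⟨M, -, -, -, -, hodd', hinv⟩ := exists_torus e hodd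
    (mem_map_of_mem π ht') (hne ⟨_, ht', rfl⟩ hto) (hsq hto)
  have hne' : π s' ≠ π t' := fun h => by
    have h1 : π (s'⁻¹ * t') = 1 := by rw [map_mul, map_inv, h, inv_mul_cancel]
    have h2 := P.eq_one_of_layer (x := ((s'⁻¹ * t' : ↥X) : G))
      (by
        show (s' : G)⁻¹ * (t' : G) ∈ layerIn X
        exact mul_mem (inv_mem ⟨_, hs', rfl⟩) ⟨_, ht', rfl⟩)
      ((mk_eq_one_iff _).1 h1)
    rw [Subgroup.coe_mul, Subgroup.coe_inv, htv, hsv, inv_mul_eq_one] at h2
    exact P.cfg.gen.out (h2 ▸ Subgroup.pow_mem _ (mem_zpowers c) l)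
  have hvM : π v' ∈ M := by
    refine hodd' _ (mem_map_of_mem π hv') ?_ ?_
    · refine Odd.of_dvd_nat ?_ (orderOf_map_dvd π v')
      rw [← Subgroup.orderOf_coe, hvv]
      exact odd_orderOf_of_mem (odd_coreAt _) hv.1
    · refine (show Commute v' t' from Subtype.ext ?_).map π
      show (v' : G) * (t' : G) = (t' : G) * v'
      rw [hvv, htv]
      exact (commute_of_mem_coreAt hv.1).symm.eq
  have h1 := hinv (π s') (mem_map_of_mem π hs') (hsq hso) (hne ⟨_, hs', rfl⟩ hso) hne'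
    ((show Commute s' t' from Subtype.ext (by
      show (s' : G) * (t' : G) = (t' : G) * s'
      rw [hsv, htv]; exact hts.symm.eq)).map π) _ hvM
  have h2 : π (s' * v' * s'⁻¹ * v') = 1 := by
    rw [map_mul, map_mul, map_mul, map_inv, h1, inv_mul_cancel]
  have h3 := P.eq_one_of_layer (x := s * v * s⁻¹ * v)
    (mul_mem (mul_mem (mul_mem P.fused.2.2.1 hv.2) (inv_mem P.fused.2.2.1)) hv.2)
    (by simpa [hsv, hvv] using (mk_eq_one_iff _).1 h2)
  exact eq_inv_of_mul_eq_one_left h3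

/-- The `s`-inverted elements of `O ∩ C(y)` lie in `O ∩ L`. -/
theorem MixPt.mem_torus {v : G} (hv : v ∈ coreAt (c ^ l)) (hvy : Commute v y)
    (hsv : s * v * s⁻¹ = v⁻¹) : v ∈ torusPart (c ^ l) (layerIn (centralizer ({y} : Set G))) :=
  ⟨hv, P.fused.2.2.2.2.2 v hv hvy hsv⟩

end Cfsg.Agent.H62.GW
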