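import Cfsg.Agent.H77.GW.MixedBound

/-!
# GW, mixed case: the rank of the primes of `F(O)`

If `m ≠ 1` every `O_r(O)` has rank at most two: the case split is that of `H77.GW.Bound.bound`.
-/

set_option autoImplicit false
set_option linter.unusedSectionVars false
set_option linter.style.haveILetI false

namespace Cfsg.Agent.H62.GW.Rank

open Subgroup Cfsg.Agent
open Cfsg.Agent.GW (coreAt pairCore)
open Cfsg.Agent.Components (pCoreIn fitIn)
open Cfsg.Agent.H62.GW (fixPart torusPart jNum mNum MixedData)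
open Cfsg.Agent.H77.GW Cfsg.Agent.H77.GW.Bound
open scoped commutatorElement

universe u

variable {G : Type u} [Group G] [Finite G] {S : Sylow 2 G} {l : ℕ} {c s : G} {L : Subgroup G}
  (hM : MixedData S l c s L)
include hM

/-- If `F` does not normalise `E`: `m = 1` or the element of `E` of order `q` lies in the second
centre of `O_q(O)`. -/
theorem exists_second
    (hFN : ¬ fitIn (coreAt (c ^ l)) ≤ normalizer (fixPart (c ^ l) s : Set G)) :
    mNum (c ^ l) s = 1 ∨ ∃ q : ℕ, q.Prime ∧ ∃ y z : G, y ∈ fixPart (c ^ l) s ∧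
      y ∈ pCoreIn q (coreAt (c ^ l)) ∧ orderOf y = q ∧ z ∈ pCoreIn q (coreAt (c ^ l)) ∧
      orderOf z = q ∧ (∀ p ∈ pCoreIn q (coreAt (c ^ l)), Commute z p) ∧
      (∀ v ∈ pCoreIn q (coreAt (c ^ l)), ⁅y, v⁆ ∈ zpowers z) ∧
      ∀ r : ℕ, r.Prime → r ≠ q → pCoreIn r (coreAt (c ^ l)) ≤ torusPart (c ^ l) L := by
  classical
  -- a prime `q` with `O_q(O)` not normalising `E`
  obtain ⟨q, hq, hqP⟩ : ∃ q : ℕ, q.Prime ∧
      ¬ pCoreIn q (coreAt (c ^ l)) ≤ normalizer (fixPart (c ^ l) s : Set G) := by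
    by_contra! h
    refine hFN ?_
    rw [fitIn, Components.fitting_eq_iSup_pCore, Subgroup.map_iSup]
    exact iSup_le fun r => h _ (Nat.prime_of_mem_primeFactors r.2)
  haveI := Fact.mk hq
  set O := coreAt (c ^ l) with hO
  set E := fixPart (c ^ l) s
  set P := pCoreIn q O
  have hcross : ∀ {r : ℕ}, r.Prime → r ≠ q → ∀ v ∈ pCoreIn r O, ∀ p ∈ P, Commute v p :=
    fun {r} hr hne v hv p hp => by
      haveI := Fact.mk hr
      exact commute_cross hne hv (pCoreIn_le_self _ hv) hp (pCoreIn_le_self _ hp)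
  -- `E` is a `q`-group and the other parts of `F` lie in the torus
  have honlyE : ∀ r : ℕ, r.Prime → r ∣ Nat.card ↥E → r = q := by
    intro r hr hd
    by_contra hne
    haveI := Fact.mk hr
    obtain ⟨e, -, he, heP, heo, -⟩ := exists_yz hM hd
    exact hqP fun p hp => mem_normalizer_of_commute hM (H62.GW.pCoreAt_le _ _ hp) he
      (fun h => hr.ne_one (by rw [← heo, h, orderOf_one])) (hcross hr hne e heP p hp).symm
  have hqE : q ∣ Nat.card ↥E := by
    obtain ⟨r, hr, hd⟩ := Nat.exists_prime_and_dvd ((Subgroup.one_lt_card_iff_ne_bot E).2 hM.ne).ne'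
    exact honlyE r hr hd ▸ hd
  obtain ⟨y, z, hy, hyP, hyo, hzP, hzT, hzo⟩ := exists_yz hM hqE
  have hy1 : y ≠ 1 := fun e => hq.ne_one (by rw [← hyo, e, orderOf_one])
  have hyq : y ^ q = 1 := hyo ▸ pow_orderOf_eq_one y
  have hq3 : 3 ≤ q := by
    rcases Nat.lt_or_ge q 3 with h | h
    · exfalso
      have h2 : q = 2 := by have := hq.two_le; omega
      exact H62.GW.prime_ne_two_of_mem (fixPart_le_core hy) hyo h2
    · exact h
  have hone : ∀ r : ℕ, r.Prime → r ≠ q → pCoreIn r O ≤ torusPart (c ^ l) L := by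
    intro r hr hne
    haveI := Fact.mk hr
    exact pCore_le_torus hM (fun v hv => mem_normalizer_of_commute hM (H62.GW.pCoreAt_le _ _ hv)
      hy hy1 (hcross hr hne v hv y hyP)) fun h => hne (honlyE r hr h)
  -- decomposition inside `P`
  have hPdec : ∀ {A : Subgroup G}, A ≤ P → (∀ v ∈ A, s * v * s⁻¹ ∈ A) → ∀ v ∈ A,
      ∃ x ∈ A, ∃ f ∈ A, s * x * s⁻¹ = x⁻¹ ∧ Commute s f ∧ v = x * f := fun {A} hA hs v hv =>
    exists_decomp (ss hM) ((H62.GW.odd_coreAt (c ^ l)).of_dvd_nat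
      (Subgroup.card_dvd_of_le (hA.trans (H62.GW.pCoreAt_le _ _)))) hs hv
  have hfixE : ∀ {v : G}, v ∈ P → Commute s v → v ∈ E := fun hv hc =>
    mem_fixPart (pCore_le_fit hv) hc
  -- no element of `E` is central in `P`
  have hEZ : ∀ e ∈ E, (∀ p ∈ P, Commute e p) → e = 1 := fun e he h => by
    by_contra he1
    exact hqP fun p hp => mem_normalizer_of_commute hM (H62.GW.pCoreAt_le _ _ hp) he he1
      (h p hp).symm
  -- the second centre
  let U : Subgroup G :=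
    { carrier := {u | u ∈ P ∧ ∀ i ∈ P, ∀ j ∈ P, Commute ⁅u, i⁆ j}
      one_mem' := ⟨one_mem P, fun i _ j _ => by rw [commutatorElement_one_left]; exact Commute.one_left j⟩
      mul_mem' := by
        rintro a b ⟨ha, ha'⟩ ⟨hb, hb'⟩
        refine ⟨mul_mem ha hb, fun i hi j hj => ?_⟩
        have e : ⁅a * b, i⁆ = a * ⁅b, i⁆ * a⁻¹ * ⁅a, i⁆ := by
          simp [commutatorElement_def, mul_assoc]
        rw [e, ← (hb' i hi a ha).eq, mul_inv_cancel_right]
        exact (hb' i hi j hj).mul_left (ha' i hi j hj)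
      inv_mem' := by
        rintro a ⟨ha, ha'⟩
        refine ⟨inv_mem ha, fun i hi j hj => ?_⟩
        have e : ⁅a⁻¹, i⁆ = a⁻¹ * ⁅a, i⁆⁻¹ * a := by simp [commutatorElement_def, mul_assoc]
        rw [e, mul_assoc, ((ha' i hi a ha).inv_left).eq, inv_mul_cancel_left]
        exact (ha' i hi j hj).inv_left }
  have hUP : U ≤ P := fun u hu => hu.1
  have hconjP : ∀ {g : G}, g ∈ centralizer ({c ^ l} : Set G) → ∀ v ∈ P, g * v * g⁻¹ ∈ P :=
    fun hg v hv => Coprime.conj_mem (H62.GW.centralizer_le_normalizer_pCoreAt _ q hg) hv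
  have hconjP' : ∀ {g : G}, g ∈ centralizer ({c ^ l} : Set G) → ∀ v ∈ P, g⁻¹ * v * g ∈ P :=
    fun {g} hg v hv => by simpa using hconjP (inv_mem hg) v hv
  have hUconj : ∀ g ∈ centralizer ({c ^ l} : Set G), ∀ u ∈ U, g * u * g⁻¹ ∈ U := by
    rintro g hg u ⟨hu, hu'⟩
    refine ⟨hconjP hg u hu, fun i hi j hj => ?_⟩
    have h := hu' _ (hconjP' hg i hi) _ (hconjP' hg j hj)
    have e : ⁅g * u * g⁻¹, i⁆ = g * ⁅u, g⁻¹ * i * g⁆ * g⁻¹ := by
      simp [commutatorElement_def, mul_assoc]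
    rw [e]
    calc g * ⁅u, g⁻¹ * i * g⁆ * g⁻¹ * j = g * (⁅u, g⁻¹ * i * g⁆ * (g⁻¹ * j * g)) * g⁻¹ := by group
      _ = g * ((g⁻¹ * j * g) * ⁅u, g⁻¹ * i * g⁆) * g⁻¹ := by rw [h.eq]
      _ = j * (g * ⁅u, g⁻¹ * i * g⁆ * g⁻¹) := by group
  have hsC : s ∈ centralizer ({c ^ l} : Set G) :=
    mem_centralizer_singleton_iff.2 (s_comm_t hM).eq
  have hUs : ∀ u ∈ U, s * u * s⁻¹ ∈ U := hUconj s hsC
  -- inverted elements of `U` commute with those of `P`
  have hinvU : ∀ u ∈ U, s * u * s⁻¹ = u⁻¹ → ∀ i ∈ P, s * i * s⁻¹ = i⁻¹ → Commute u i := by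
    intro u hu hui i hi hii
    have hcP : ⁅u, i⁆ ∈ P := mul_mem (mul_mem (mul_mem hu.1 hi) (inv_mem hu.1)) (inv_mem hi)
    have hs' : s * ⁅u, i⁆ * s⁻¹ = ⁅u, i⁆ := by
      have h := hu.2 i hi (i * u) (mul_mem hi hu.1)
      calc s * ⁅u, i⁆ * s⁻¹ = ⁅s * u * s⁻¹, s * i * s⁻¹⁆ := by
            simp [commutatorElement_def, mul_assoc]
        _ = ⁅u⁻¹, i⁻¹⁆ := by rw [hui, hii]
        _ = (i * u)⁻¹ * (⁅u, i⁆ * (i * u)) := by simp [commutatorElement_def, mul_assoc]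
        _ = ⁅u, i⁆ := by rw [h.eq, inv_mul_cancel_left]
    exact commutatorElement_eq_one_iff_commute.1
      (hEZ _ (hfixE hcP (mul_inv_eq_iff_eq_mul.1 hs')) fun p hp => hu.2 i hi p hp)
  -- central elements of exponent `q`
  have hcen : ∀ w ∈ P, w ^ q = 1 → (∀ p ∈ P, Commute w p) → w ∈ zpowers z := by
    intro w hw hwq hwc
    let A : Subgroup G :=
      { carrier := {v | v ∈ P ∧ v ^ q = 1 ∧ ∀ p ∈ P, Commute v p}
        one_mem' := ⟨one_mem P, one_pow q, fun p _ => Commute.one_left p⟩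
        mul_mem' := fun {a b} ha hb => ⟨mul_mem ha.1 hb.1, by
          rw [(ha.2.2 b hb.1).mul_pow, ha.2.1, hb.2.1, one_mul],
          fun p hp => (ha.2.2 p hp).mul_left (hb.2.2 p hp)⟩
        inv_mem' := fun {a} ha => ⟨inv_mem ha.1, by rw [inv_pow, ha.2.1, inv_one],
          fun p hp => (ha.2.2 p hp).inv_left⟩ }
    have hAs : ∀ v ∈ A, s * v * s⁻¹ ∈ A := fun v hv => ⟨conj_pCore hM hv.1,
      by rw [conj_pow, hv.2.1, mul_one, mul_inv_cancel], fun p hp => by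
        have h := hv.2.2 _ (hconjP' hsC p hp)
        calc s * v * s⁻¹ * p = s * (v * (s⁻¹ * p * s)) * s⁻¹ := by group
          _ = s * ((s⁻¹ * p * s) * v) * s⁻¹ := by rw [h.eq]
          _ = p * (s * v * s⁻¹) := by group⟩
    obtain ⟨x, hx, f, hf, hxi, hfc, rfl⟩ := hPdec (A := A) (fun v hv => hv.1) hAs w ⟨hw, hwq, hwc⟩
    rw [hEZ f (hfixE hf.1 hfc) hf.2.2, mul_one]
    exact mem_zpowers_of_inverted hM hy hyo hzT hzo (H62.GW.pCoreAt_le _ _ hx.1) hx.2.1 hxi
      (hx.2.2 y hyP)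
  have hPne : ∃ v ∈ P, ¬ ∀ p ∈ P, Commute v p := ⟨y, hyP, fun h => hy1 (hEZ y hy h)⟩
  by_cases hyU : y ∈ U
  · -- `j = q`
    have hzc : ∀ p ∈ P, Commute z p := by
      haveI : Nontrivial ↥P := ⟨⟨⟨y, hyP⟩, 1, fun h => hy1 (congrArg Subtype.val h)⟩⟩
      haveI hZ := (Components.isPGroup_pCoreIn (p := q) O).center_nontrivial
      have hdvd : q ∣ Nat.card ↥(center ↥P) := by
        obtain ⟨k, hk, hk'⟩ := (Components.isPGroup_pCoreIn (p := q) O).to_subgroup (center ↥P) |>.nontrivial_iff_card.mp hZ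
        exact hk' ▸ dvd_pow_self q hk.ne'
      obtain ⟨w, hw⟩ := exists_prime_orderOf_dvd_card' (G := ↥(center ↥P)) q hdvd
      have hwo : orderOf ((w : ↥P) : G) = q := by rw [Subgroup.orderOf_coe, Subgroup.orderOf_coe, hw]
      have hwc : ∀ p ∈ P, Commute ((w : ↥P) : G) p := fun p hp =>
        (congrArg Subtype.val (mem_center_iff.1 w.2 ⟨p, hp⟩)).symm
      have hwz := hcen _ (w : ↥P).2 (hwo ▸ pow_orderOf_eq_one _) hwc
      have hzw : z ∈ zpowers ((w : ↥P) : G) := by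
        haveI := hM.torus_cyclic
        exact mem_zpowers_of_cyclic ((zpowers_le.2 hzT) hwz) hwo hzT (hzo ▸ pow_orderOf_eq_one z)
      intro p hp
      obtain ⟨i, hi⟩ := mem_zpowers_iff.1 hzw
      rw [← hi]
      exact (hwc p hp).zpow_left i
    -- commutators of elements of `U` of exponent `q`
    have hcq : ∀ u ∈ U, u ^ q = 1 → ∀ v ∈ P, ⁅u, v⁆ ∈ zpowers z := by
      intro u hu huq v hv
      have hcP : ⁅u, v⁆ ∈ P := mul_mem (mul_mem (mul_mem hu.1 hv) (inv_mem hu.1)) (inv_mem hv)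
      have hn : ∀ n : ℕ, u ^ n * v * (u ^ n)⁻¹ = ⁅u, v⁆ ^ n * v := by
        intro n
        induction n with
        | zero => simp
        | succ n ihn =>
          calc u ^ (n + 1) * v * (u ^ (n + 1))⁻¹ = u * (u ^ n * v * (u ^ n)⁻¹) * u⁻¹ := by
                rw [pow_succ']; group
            _ = (u * ⁅u, v⁆ ^ n * u⁻¹) * (u * v * u⁻¹) := by rw [ihn]; group
            _ = ⁅u, v⁆ ^ n * (u * v * u⁻¹) := by
                rw [((hu.2 v hv u hu.1).symm.pow_right n).eq, mul_inv_cancel_right]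
            _ = ⁅u, v⁆ ^ (n + 1) * v := by
                rw [pow_succ, mul_assoc]; simp [commutatorElement_def, mul_assoc]
      refine hcen _ hcP ?_ (fun p hp => hu.2 v hv p hp)
      have h1 := hn q
      rw [huq, one_mul, inv_one, mul_one] at h1
      exact mul_eq_right.1 h1.symm
    exact Or.inr ⟨q, hq, y, z, hy, hyP, hyo, hzP, hzo, hzc, hcq y hyU hyq, hone⟩
  · -- `E ∩ Z₂ = 1`
    haveI := hM.fix_cyclic
    have hUfix : ∀ u ∈ U, Commute s u → u = 1 := by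
      intro u hu hc
      by_contra h1
      obtain ⟨k, hk⟩ := (Components.isPGroup_pCoreIn (p := q) O) ⟨u, hu.1⟩
      have hk' : u ^ q ^ k = 1 := congrArg Subtype.val hk
      obtain ⟨n, -, hn⟩ := (Nat.dvd_prime_pow hq).1 (orderOf_dvd_of_pow_eq_one hk')
      rcases n with _ | n
      · rw [pow_zero, orderOf_eq_one_iff] at hn; exact h1 hn
      have ho : orderOf (u ^ q ^ n) = q := by
        rw [orderOf_pow' u (pow_ne_zero _ hq.ne_zero), hn,
          Nat.gcd_eq_right (pow_dvd_pow q n.le_succ), pow_succ,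
          Nat.mul_div_cancel_left _ (pow_pos hq.pos n)]
      have hyz : y ∈ zpowers (u ^ q ^ n) :=
        mem_zpowers_of_cyclic (pow_mem (hfixE hu.1 hc) _) ho hy hyq
      exact hyU ((zpowers_le.2 (pow_mem hu _)) hyz)
    have hUinv : ∀ u ∈ U, s * u * s⁻¹ = u⁻¹ := by
      intro u hu
      obtain ⟨x, hx, f, hf, hxi, hfc, rfl⟩ := hPdec hUP hUs u hu
      rw [hUfix f hf hfc, mul_one]
      exact hxi
    set B₀ := P ⊓ centralizer (U : Set G) with hB₀
    have hB₀inv : ∀ i ∈ P, s * i * s⁻¹ = i⁻¹ → i ∈ B₀ := fun i hi hii =>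
      ⟨hi, mem_centralizer_iff.2 fun u hu => (hinvU u hu (hUinv u hu) i hi hii).eq⟩
    have hyB : ∀ e ∈ E, e ∈ P → (∀ u ∈ U, Commute u e) → e = 1 := by
      intro e he heP hec
      by_contra he1
      have hUT : ∀ u ∈ U, ∀ f ∈ E, Commute u f := fun u hu f hf =>
        torus_comm_fix hM
          (hM.mem_torus u (H62.GW.pCoreAt_le _ _ hu.1) (hUinv u hu) e he he1 (hec u hu)) hf
      have hUZ : ∀ u ∈ U, ∀ p ∈ P, Commute u p := by
        intro u hu p hp
        obtain ⟨x, hx, f, hf, hxi, hfc, rfl⟩ :=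
          hPdec le_rfl (fun v hv => conj_pCore hM hv) p hp
        exact (hinvU u hu (hUinv u hu) x hx hxi).mul_right (hUT u hu f (hfixE hf hfc))
      -- then `P` is abelian
      haveI : Finite ↥P := inferInstance
      obtain ⟨v, hv, hvc⟩ := hPne
      haveI : Nontrivial (↥P ⧸ center ↥P) := by
        refine QuotientGroup.nontrivial_iff.2 fun htop => hvc fun p hp => ?_
        exact (congrArg Subtype.val (mem_center_iff.1
          (htop ▸ mem_top (⟨v, hv⟩ : ↥P)) ⟨p, hp⟩)).symm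
      haveI hnt := ((Components.isPGroup_pCoreIn (p := q) O).to_quotient (center ↥P)).center_nontrivial
      obtain ⟨w', hw'⟩ := exists_ne (1 : ↥(center (↥P ⧸ center ↥P)))
      obtain ⟨w, hw⟩ := QuotientGroup.mk_surjective (w' : ↥P ⧸ center ↥P)
      have hwU : (w : G) ∈ U := by
        refine ⟨w.2, fun i hi j hj => ?_⟩
        have hcomm := mem_center_iff.1 w'.2 (QuotientGroup.mk (⟨i, hi⟩ : ↥P))
        rw [← hw, ← QuotientGroup.mk_mul, ← QuotientGroup.mk_mul, QuotientGroup.eq] at hcomm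
        have hin : ⁅w, (⟨i, hi⟩ : ↥P)⁆ ∈ center ↥P := by
          rw [show ⁅w, (⟨i, hi⟩ : ↥P)⁆ =
            (⟨i, hi⟩ * w) * ((⟨i, hi⟩ * w)⁻¹ * (w * ⟨i, hi⟩)) * (⟨i, hi⟩ * w)⁻¹ by
              simp [commutatorElement_def, mul_assoc]]
          exact (inferInstance : (center ↥P).Normal).conj_mem _ hcomm _
        exact (congrArg Subtype.val (mem_center_iff.1 hin ⟨j, hj⟩)).symm
      apply hw'
      refine Subtype.ext ?_
      rw [← hw, OneMemClass.coe_one, QuotientGroup.eq_one_iff, mem_center_iff]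
      exact fun p => Subtype.ext (hUZ _ hwU p p.2).eq.symm
    have hB₀s : ∀ v ∈ B₀, s * v * s⁻¹ = v⁻¹ := by
      intro v hv
      have hBs : ∀ v ∈ B₀, s * v * s⁻¹ ∈ B₀ := by
        rintro v ⟨hvP, hvU⟩
        refine ⟨conj_pCore hM hvP, mem_centralizer_iff.2 fun u hu => ?_⟩
        have h1 : s⁻¹ * u * s ∈ U := by simpa using hUconj s⁻¹ (inv_mem hsC) u hu
        have h2 : s⁻¹ * u * s * v = v * (s⁻¹ * u * s) := mem_centralizer_iff.1 hvU _ h1
        calc u * (s * v * s⁻¹) = s * (s⁻¹ * u * s * v) * s⁻¹ := by group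
          _ = s * (v * (s⁻¹ * u * s)) * s⁻¹ := by rw [h2]
          _ = s * v * s⁻¹ * u := by group
      obtain ⟨x, hx, f, hf, hxi, hfc, rfl⟩ := hPdec (A := B₀) inf_le_left hBs v hv
      rw [hyB f (hfixE hf.1 hfc) hf.1 (fun u hu => mem_centralizer_iff.1 hf.2 u hu), mul_one]
      exact hxi
    have hB₀n : ∀ g ∈ centralizer ({c ^ l} : Set G), ∀ v ∈ B₀, g * v * g⁻¹ ∈ B₀ := by
      rintro g hg v ⟨hvP, hvU⟩
      refine ⟨hconjP hg v hvP, mem_centralizer_iff.2 fun u hu => ?_⟩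
      have h1 : g⁻¹ * u * g ∈ U := by simpa using hUconj g⁻¹ (inv_mem hg) u hu
      have h2 : g⁻¹ * u * g * v = v * (g⁻¹ * u * g) := mem_centralizer_iff.1 hvU _ h1
      calc u * (g * v * g⁻¹) = g * (g⁻¹ * u * g * v) * g⁻¹ := by group
        _ = g * (v * (g⁻¹ * u * g)) * g⁻¹ := by rw [h2]
        _ = g * v * g⁻¹ * u := by group
    have hB₀n' : O ≤ normalizer (B₀ : Set G) := by
      intro g hg
      have hg' := H62.GW.coreAt_le _ hg
      refine mem_normalizer_iff.2 fun v => ⟨hB₀n g hg' v, fun h => ?_⟩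
      have := hB₀n g⁻¹ (inv_mem hg') _ h
      simpa [mul_assoc] using this
    have hzB : z ∈ B₀ := hB₀inv z hzP (hM.torus_inverted z hzT)
    have hfit : ∀ x ∈ O, s * x * s⁻¹ = x⁻¹ → x ∈ fitIn O := fun x hx hxi =>
      mem_fit_of_kernel hM hy hyo hzo hzT inf_le_left hB₀s hB₀n' hzB (fun o ho => by
        have hv : o * y * o⁻¹ ∈ P := conj_pCore' hM ho hyP
        exact hB₀inv _ (mul_mem (conj_pCore hM hv) (inv_mem hv))
          (H62.GW.conj_commutator_inverted (ss hM))) hone hx hxi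
    exact Or.inl (mNum_eq_one hM hfit)

/-- Elements of exponent `r` of `O_r(O)` commuting with one element of `E`. -/
theorem card_le_sq {r : ℕ} [hr : Fact r.Prime] {A : Subgroup G}
    (hAP : A ≤ pCoreIn r (coreAt (c ^ l))) (hAr : ∀ a ∈ A, a ^ r = 1) {e : G}
    (he : e ∈ fixPart (c ^ l) s) (he1 : e ≠ 1) (hA : ∀ a ∈ A, Commute a e) :
    Nat.card ↥A ≤ r ^ 2 := by
  classical
  have hs : ∀ a : ↥A, ∃ f k : G, f ∈ fixPart (c ^ l) s ∧ f ^ r = 1 ∧
      k ∈ torusPart (c ^ l) L ∧ k ^ r = 1 ∧ (a : G) = f * k := by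
    intro a
    obtain ⟨f, hf, k, hk, -, h⟩ := hM.fit_split a (pCore_le_fit (hAP a.2)) e he he1 (hA a a.2)
    have h1 := hAr a a.2
    rw [h, (torus_comm_fix hM hk hf).symm.mul_pow] at h1
    have h2 : f ^ r = (k ^ r)⁻¹ := eq_inv_of_mul_eq_one_left h1
    have h3 : f ^ r = 1 := torus_inf_fix hM (h2 ▸ inv_mem (pow_mem hk _))
      (fixPart_fixed (pow_mem hf _))
    rw [h3, one_mul] at h1
    exact ⟨f, k, hf, h3, hk, h1, h⟩
  choose f k hf hfr hk hkr hfk using hs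
  haveI := hM.fix_cyclic
  haveI := hM.torus_cyclic
  have hc : ∀ (B : Subgroup G) [IsCyclic ↥B], Nat.card {b : ↥B // b ^ r = 1} ≤ r := by
    intro B _
    haveI := Fintype.ofFinite ↥B
    rw [Nat.card_eq_fintype_card, Fintype.card_subtype]
    exact IsCyclic.card_pow_eq_one_le hr.out.pos
  let φ : ↥A → {b : ↥(fixPart (c ^ l) s) // b ^ r = 1} × {b : ↥(torusPart (c ^ l) L) // b ^ r = 1} :=
    fun a => (⟨⟨f a, hf a⟩, Subtype.ext (hfr a)⟩, ⟨⟨k a, hk a⟩, Subtype.ext (hkr a)⟩)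
  have hφ : Function.Injective φ := by
    intro a b h
    have h1 : f a = f b := congrArg (fun p => ((p.1 : ↥(fixPart (c ^ l) s)) : G)) h
    have h2 : k a = k b := congrArg (fun p => ((p.2 : ↥(torusPart (c ^ l) L)) : G)) h
    exact Subtype.ext (by rw [hfk a, hfk b, h1, h2])
  refine (Nat.card_le_card_of_injective φ hφ).trans ?_
  rw [Nat.card_prod, sq]
  exact Nat.mul_le_mul (hc _) (hc _)

/-- If `m ≠ 1` every `O_r(O)` has rank at most two. -/
theorem rank_or (r : ℕ) [hr : Fact r.Prime] :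
    mNum (c ^ l) s = 1 ∨ Cfsg.PRankLE r 2 ↥(pCoreIn r (coreAt (c ^ l))) := by
  classical
  set P := pCoreIn r (coreAt (c ^ l)) with hP
  obtain ⟨e, he, he1⟩ := (fixPart (c ^ l) s).bot_or_exists_ne_one.resolve_left hM.ne
  suffices h : mNum (c ^ l) s = 1 ∨ ∀ A : Subgroup G, A ≤ P → (∀ a ∈ A, ∀ b ∈ A, Commute a b) →
      (∀ a ∈ A, a ^ r = 1) → Nat.card ↥A ≤ r ^ 2 by
    refine h.imp_right fun h A hA hAr => ?_
    rw [Nat.card_congr (Subgroup.equivMapOfInjective A P.subtype Subtype.coe_injective).toEquiv]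
    refine h _ (map_subtype_le _) ?_ ?_
    · rintro _ ⟨a, ha, rfl⟩ _ ⟨b, hb, rfl⟩
      exact congrArg (fun v : ↥A => ((v : ↥P) : G))
        (hA.is_comm.comm (⟨a, ha⟩ : ↥A) ⟨b, hb⟩)
    · rintro _ ⟨a, ha, rfl⟩
      exact congrArg Subtype.val (hAr a ha)
  by_cases hFN : fitIn (coreAt (c ^ l)) ≤ normalizer (fixPart (c ^ l) s : Set G)
  · exact Or.inr fun A hAP _ hAr => card_le_sq hM hAP hAr he he1 fun a ha =>
      commute_of_fit_normalizer hM (pCore_le_fit (hAP ha)) (hFN (pCore_le_fit (hAP ha))) he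
  refine (exists_second hM hFN).imp_right fun ⟨q, hq, y, z, hy, hyP, hyo, _, hzo, hzc, hyz, _⟩ => ?_
  intro A hAP hAc hAr
  haveI := Fact.mk hq
  have hy1 : y ≠ 1 := fun h => hq.ne_one (by rw [← hyo, h, orderOf_one])
  by_cases hrq : r = q
  swap
  · exact card_le_sq hM hAP hAr hy hy1 fun a ha =>
      commute_cross hrq (hAP ha) (pCoreIn_le_self _ (hAP ha)) hyP (pCoreIn_le_self _ hyP)
  subst hrq
  by_contra! hbig
  -- the commutator with `y`
  let φ : ↥A →* ↥(zpowers z) :=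
    { toFun := fun a => ⟨⁅y, (a : G)⁆, hyz _ (hAP a.2)⟩
      map_one' := Subtype.ext (commutatorElement_one_right y)
      map_mul' := fun a b => Subtype.ext (by
        obtain ⟨i, hi⟩ := mem_zpowers_iff.1 (hyz _ (hAP b.2))
        show ⁅y, (a : G) * b⁆ = ⁅y, (a : G)⁆ * ⁅y, (b : G)⁆
        rw [show ⁅y, (a : G) * b⁆ = ⁅y, (a : G)⁆ * ((a : G) * ⁅y, (b : G)⁆ * (a : G)⁻¹) by
          simp [commutatorElement_def, mul_assoc], ← hi,
          (((hzc _ (hAP a.2)).symm).zpow_right i).eq, mul_inv_cancel_right]) }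
  have hkA : Nat.card ↥A ≤ r * Nat.card ↥φ.ker := by
    rw [← φ.ker.index_mul_card, index_ker]
    exact Nat.mul_le_mul_right _ ((Subgroup.card_le_card_group _).trans
      (by rw [Nat.card_zpowers, hzo]))
  set A₀ := φ.ker.map A.subtype with hA₀
  have hA₀y : ∀ a ∈ A₀, Commute a y := by
    rintro _ ⟨a, ha, rfl⟩
    exact (commutatorElement_eq_one_iff_commute.1 (congrArg Subtype.val (MonoidHom.mem_ker.1 ha))).symm
  have hyn : zpowers y ≤ normalizer (A₀ : Set G) :=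
    zpowers_le.2 (centralizer_le_normalizer _ (mem_centralizer_iff.2 fun a ha => (hA₀y a ha).eq))
  have hA₁P : A₀ ⊔ zpowers y ≤ P := sup_le ((map_subtype_le _).trans hAP) (zpowers_le.2 hyP)
  have hmem : ∀ v ∈ A₀ ⊔ zpowers y, Commute v y ∧ v ^ r = 1 := by
    intro v hv
    rw [show (v ∈ A₀ ⊔ zpowers y) = (v ∈ ((A₀ ⊔ zpowers y : Subgroup G) : Set G)) from rfl,
      coe_mul_of_right_le_normalizer_left A₀ (zpowers y) hyn] at hv
    obtain ⟨a, ha, b, hb, rfl⟩ := hv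
    obtain ⟨i, rfl⟩ := mem_zpowers_iff.1 hb
    refine ⟨(hA₀y a ha).mul_left ((Commute.refl y).zpow_left i), ?_⟩
    show (a * y ^ i) ^ r = 1
    rw [((hA₀y a ha).zpow_right i).mul_pow, hAr a (map_subtype_le _ ha), one_mul,
      ← zpow_natCast, ← zpow_mul, mul_comm, zpow_mul, zpow_natCast, ← hyo, pow_orderOf_eq_one,
      one_zpow]
  have h2 : Nat.card ↥(A₀ ⊔ zpowers y) ≤ r ^ 2 :=
    card_le_sq hM hA₁P (fun v hv => (hmem v hv).2) hy hy1 fun v hv => (hmem v hv).1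
  have h3 : r ^ 2 ≤ Nat.card ↥A₀ := by
    have hk : Nat.card ↥A₀ = Nat.card ↥φ.ker :=
      (Nat.card_congr (Subgroup.equivMapOfInjective _ A.subtype Subtype.coe_injective).toEquiv).symm
    rw [hk]
    have hp : IsPGroup r ↥φ.ker :=
      ((Components.isPGroup_pCoreIn (p := r) _).to_le hAP).to_subgroup _
    obtain ⟨n, hn⟩ := hp.exists_card_eq
    rw [hn] at hkA ⊢
    refine Nat.pow_le_pow_right hq.pos ?_
    by_contra! h
    have h4 : r * r ^ n ≤ r ^ 2 := by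
      calc r * r ^ n = r ^ (n + 1) := (pow_succ' r n).symm
        _ ≤ r ^ 2 := Nat.pow_le_pow_right hq.pos (by omega)
    omega
  have heq : A₀ = A₀ ⊔ zpowers y := eq_of_le_of_card_ge le_sup_left (h2.trans h3)
  have hyA : y ∈ A := map_subtype_le _ (heq.ge (mem_sup_right (mem_zpowers y)))
  exact absurd (card_le_sq hM hAP hAr hy hy1 fun a ha => hAc a ha y hyA) (not_le.2 hbig)

end Cfsg.Agent.H62.GW.Rank
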