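import Cfsg.Agent.H62.GW.PSLFacts

/-!
# GW programme, M3: the inner torus over `PSL(2,q)`
-/

set_option autoImplicit false
set_option linter.unusedSectionVars false
set_option linter.style.haveILetI false

namespace Cfsg.Agent.H62.GW

open Subgroup Cfsg.Agent
open Cfsg.Agent.H56 (PSLn)

universe u

variable {Y : Type u} [Group Y] [Finite Y] {K : Subgroup Y} [K.Normal]
  {F : Type} [Field F] [Fintype F]

/-- The centraliser of an involution `t` of `K` has a cyclic subgroup containing `t` and all its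
elements of odd order, inverted by every other involution of `K` commuting with `t`. -/
theorem exists_torus (e : ↥K ≃* PSLn 2 F) (hodd : Odd (Fintype.card F)) {t : Y} (ht : t ∈ K)
    (ht1 : t ≠ 1) (htt : t * t = 1) :
    ∃ M : Subgroup Y, M ≤ K ∧ IsCyclic ↥M ∧ t ∈ M ∧ (∀ m ∈ M, Commute m t) ∧
      (∀ k ∈ K, Odd (orderOf k) → Commute k t → k ∈ M) ∧
      ∀ b ∈ K, b * b = 1 → b ≠ 1 → b ≠ t → Commute b t → ∀ m ∈ M, b * m * b⁻¹ = m⁻¹ := by
  have h2 := H4.GW.two_ne hodd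
  have hne : e ⟨t, ht⟩ ≠ 1 := fun hh =>
    ht1 (congrArg Subtype.val (e.injective (hh.trans (map_one e).symm)))
  obtain ⟨M, htM, hMc, hMC, hprod, hinv⟩ := H86.PSLSizes.exists_cyclic_inverted h2 hne (by
    rw [← map_mul, show (⟨t, ht⟩ : K) * ⟨t, ht⟩ = 1 from Subtype.ext htt, map_one])
  let ι : PSLn 2 F →* Y := K.subtype.comp e.symm.toMonoidHom
  have hι : Function.Injective ι := K.subtype_injective.comp e.symm.injective
  have hval : ∀ {k : Y} (hk : k ∈ K), ι (e ⟨k, hk⟩) = k := fun {k} hk =>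
    congrArg Subtype.val (e.symm_apply_apply ⟨k, hk⟩)
  have hC : ∀ {k : Y} (hk : k ∈ K), Commute k t →
      e ⟨k, hk⟩ ∈ centralizer ({e ⟨t, ht⟩} : Set (PSLn 2 F)) := fun {k} hk hc =>
    mem_centralizer_singleton_iff.2 (by rw [← map_mul, ← map_mul]; congr 1; exact Subtype.ext hc.eq)
  have hMt : ∀ z ∈ M, Commute (ι z) t := fun z hz => by
    rw [← hval ht]
    exact (show Commute z (e ⟨t, ht⟩) from mem_centralizer_singleton_iff.1 (hMC hz)).map ι
  have hinv' : ∀ {k : Y} (hk : k ∈ K), Commute k t → e ⟨k, hk⟩ ∉ M →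
      ∀ z ∈ M, k * ι z * k⁻¹ = (ι z)⁻¹ := by
    intro k hk hc hkM z hz
    have := congrArg ι (hinv _ (hC hk hc) hkM z hz)
    rwa [map_mul, map_mul, map_inv, map_inv, hval hk] at this
  refine ⟨M.map ι, ?_, ?_, ⟨_, htM, hval ht⟩, ?_, fun k hk ho hc => ?_, ?_⟩
  · rintro _ ⟨z, -, rfl⟩
    exact SetLike.coe_mem _
  · haveI := hMc
    exact isCyclic_of_surjective (ι.subgroupMap M) (MonoidHom.subgroupMap_surjective _ _)
  · rintro _ ⟨z, hz, rfl⟩
    exact hMt z hz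
  · refine ⟨_, by_contra fun hkM => hkM ?_, hval hk⟩
    have hsq : e ⟨k, hk⟩ * e ⟨k, hk⟩ ∈ M := hprod _ (hC hk hc) _ (hC hk hc) hkM hkM
    obtain ⟨m, hm⟩ := ho
    have hpow : (e ⟨k, hk⟩ * e ⟨k, hk⟩) ^ (m + 1) = e ⟨k, hk⟩ := by
      rw [← map_mul, ← map_pow]
      congr 1
      refine Subtype.ext ?_
      show (k * k) ^ (m + 1) = k
      rw [← sq, ← pow_mul, show 2 * (m + 1) = orderOf k + 1 by omega, pow_succ,
        pow_orderOf_eq_one, one_mul]
    exact hpow ▸ M.pow_mem hsq _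
  · rintro b hb hbb hb1 hbt hbc _ ⟨z, hz, rfl⟩
    refine hinv' hb hbc (fun hbM => ?_) z hz
    haveI := hMc
    obtain ⟨γ, hγ⟩ := IsCyclic.exists_generator (α := ↥M)
    have ho : ∀ {k : Y} (hk : k ∈ K), k ≠ 1 → k * k = 1 → ∀ hkM : e ⟨k, hk⟩ ∈ M,
        orderOf (⟨_, hkM⟩ : ↥M) = 2 := fun {k} hk hk1 hkk hkM => by
      rw [← Subgroup.orderOf_coe, MulEquiv.orderOf_eq, ← Subgroup.orderOf_coe]
      exact H39.orderOf_eq_two_of_mul_self hkk hk1
    have h1 : (⟨_, hbM⟩ : ↥M) = ⟨_, htM⟩ := H5.EvenCyclic.invol_zpowers_unique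
      (ho hb hb1 hbb hbM) (ho ht ht1 htt htM) (hγ _) (hγ _)
    exact hbt (congrArg Subtype.val (e.injective (congrArg Subtype.val h1)))

end Cfsg.Agent.H62.GW
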